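/-
Transport of the defining data of types M(22) and M(23) along maps that are injective on the class.

Main results (namespace `Cfsg.Agent.FischerM24`):
* `exists_quot_equiv` : the isomorphism of a generated subgroup modulo its centre, with its values on members;
* `type22_map`, `Data23At`, `data23_image`.
-/
import Cfsg.Agent.Lib.FischerM23.Total

set_option autoImplicit false

namespace Cfsg.Agent.FischerM24

open Cfsg.Agent.ThreeTrans Cfsg.Agent.ThreeTransSU
open Cfsg.Agent.FischerM23 (QL QSet Data22At)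

variable {G H : Type*} [Group G] [Group H] {D : Set G}

/-- A subgroup generated by members, modulo its centre, with the images of the members. -/
theorem exists_quot_equiv (hconj : ∀ g : G, ∀ d ∈ D, g * d * g⁻¹ ∈ D) (f : G →* H)
    (hinj : Set.InjOn f D) {S : Set G} (hS : S ⊆ D) {T : Set H} (hT : T = f '' S) :
    ∃ e : ↥(Subgroup.closure S) ⧸ Subgroup.center ↥(Subgroup.closure S) ≃*
        ↥(Subgroup.closure T) ⧸ Subgroup.center ↥(Subgroup.closure T),
      ∀ (s : ↥(Subgroup.closure S)) (t : ↥(Subgroup.closure T)), (t : H) = f s →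
        e (toQ _ s) = toQ _ t := by
  subst hT
  set A := Subgroup.closure S
  set B := Subgroup.closure (f '' S)
  have hAB : ∀ a : A, f a ∈ B := fun a => by
    have h : (a : G) ∈ B.comap f := (Subgroup.closure_le _).2
      (fun s hs => show f s ∈ B from Subgroup.subset_closure ⟨s, hs, rfl⟩) a.2
    exact h
  let φ : A →* B := (f.comp A.subtype).codRestrict B hAB
  have hφ : Function.Surjective φ := by
    rintro ⟨b, hb⟩
    have hb' : b ∈ A.map f := by
      rw [MonoidHom.map_closure]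
      exact hb
    obtain ⟨a, ha, rfl⟩ := hb'
    exact ⟨⟨a, ha⟩, rfl⟩
  let ψ := (toQ B).comp φ
  have hker : ψ.ker = Subgroup.center A := by
    refine le_antisymm (fun x hx => ?_) (fun x hx => ?_)
    · have hc : φ x ∈ Subgroup.center B := (QuotientGroup.eq_one_iff _).1 hx
      refine Subgroup.mem_center_iff.2 fun g => Subtype.ext ?_
      show (g : G) * x = x * g
      obtain ⟨g, hg⟩ := g
      show Commute g (x : G)
      induction hg using Subgroup.closure_induction with
      | mem s hs =>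
        refine (FischerM23.commute_of_map_commute hconj f hinj (hS hs) ?_).symm
        exact congrArg Subtype.val
          (Subgroup.mem_center_iff.1 hc ⟨f s, Subgroup.subset_closure ⟨s, hs, rfl⟩⟩).symm
      | one => exact Commute.one_left _
      | mul u v _ _ hu hv => exact hu.mul_left hv
      | inv u _ hu => exact hu.inv_left
    · refine (QuotientGroup.eq_one_iff _).2 (Subgroup.mem_center_iff.2 fun b => ?_)
      obtain ⟨a, rfl⟩ := hφ b
      rw [← map_mul, ← map_mul, Subgroup.mem_center_iff.1 hx a]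
  refine ⟨(QuotientGroup.quotientMulEquivOfEq hker.symm).trans
    (QuotientGroup.quotientKerEquivOfSurjective ψ ((QuotientGroup.mk'_surjective _).comp hφ)),
    fun s t h => ?_⟩
  have e : φ s = t := Subtype.ext h.symm
  subst e
  rfl

theorem center_eq_bot_map {X Y : Type*} [Group X] [Group Y] (e : X ≃* Y)
    (h : Subgroup.center X = ⊥) : Subgroup.center Y = ⊥ := by
  rw [eq_bot_iff]
  intro y hy
  have : e.symm y ∈ Subgroup.center X := Subgroup.mem_center_iff.2 fun g => e.injective (by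
    rw [map_mul, map_mul, e.apply_symm_apply]; exact Subgroup.mem_center_iff.1 hy _)
  rw [h, Subgroup.mem_bot] at this
  rw [Subgroup.mem_bot, ← e.apply_symm_apply y, this, map_one]

/-- Type M(22) is invariant under isomorphism. -/
theorem type22_map {X Y : Type*} [Group X] [Group Y] (e : X ≃* Y) {E : Set X}
    (hconj : ∀ g : X, ∀ z ∈ E, g * z * g⁻¹ ∈ E) (h : Cfsg.IsOfTypeM22 X E) :
    Cfsg.IsOfTypeM22 Y (e '' E) := by
  obtain ⟨x, y, h1⟩ := FischerM23.data_of_type22 h
  exact FischerM23.type22_of_data (center_eq_bot_map e h.1)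
    ((FischerM23.data_image hconj e.toMonoidHom e.injective.injOn h1.1 h1.2.1).2 h1)

theorem qset_conj (hconj : ∀ g : G, ∀ d ∈ D, g * d * g⁻¹ ∈ D) (a : G) :
    ∀ q : QL D a, ∀ z ∈ QSet D a, q * z * q⁻¹ ∈ QSet D a := by
  intro q z hz
  obtain ⟨h, rfl⟩ := QuotientGroup.mk'_surjective _ q
  obtain ⟨y, hy, rfl⟩ := hz
  refine ⟨h * y * h⁻¹, ?_, by rw [map_mul, map_mul, map_inv]⟩
  show (h : G) * y * (h : G)⁻¹ ∈ adj D a
  have h5 : (h : G) * y * (h : G)⁻¹ ∈ adj D ((h : G) * a * (h : G)⁻¹) := by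
    rw [adj_conj_image hconj]; exact ⟨(y : G), hy, rfl⟩
  rwa [show (h : G) * a * (h : G)⁻¹ = a by
    rw [(commute_of_mem_Loc h.2).eq, mul_inv_cancel_right]] at h5

/-- The data of type M(23) at two members, without the condition on the centre. -/
def Data23At (D : Set G) (d c : G) : Prop :=
  d ∈ D ∧ c ∈ D ∧ ¬ Commute d c ∧ Cfsg.IsOfTypeM22 (QL D d) (QSet D d) ∧
    ∃ c₃ : ZMod 3, c₃ ≠ 0 ∧ Cfsg.IsProjReflectionGroupModThree
      (↥(Subgroup.closure (common D d c)) ⧸ Subgroup.center ↥(Subgroup.closure (common D d c))) 7 (-c₃) c₃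

theorem type23_of_data (hZ : Subgroup.center G = ⊥) {d c : G} (h : Data23At D d c) :
    Cfsg.IsOfTypeM23 G D := by
  obtain ⟨hd, hc, hdc, hP, hR⟩ := h
  exact ⟨hZ, d, hd, c, hc, hdc, hP, hR⟩

theorem data_of_type23 (h : Cfsg.IsOfTypeM23 G D) : ∃ d c, Data23At D d c := by
  obtain ⟨-, d, hd, c, hc, hdc, hP, hR⟩ := h
  exact ⟨d, c, hd, hc, hdc, hP, hR⟩

/-- The data do not change along a map that is injective on the class. -/
theorem data23_image (hconj : ∀ g : G, ∀ d ∈ D, g * d * g⁻¹ ∈ D) (f : G →* H) (hinj : Set.InjOn f D)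
    {d c : G} (hd : d ∈ D) (hc : c ∈ D) : Data23At (f '' D) (f d) (f c) ↔ Data23At D d c := by
  have hadj := FischerM23.adj_image hconj f hinj hd
  obtain ⟨e1, he1⟩ := exists_quot_equiv hconj f hinj (S := adj D d) (fun z hz => hz.1) hadj
  obtain ⟨e2, -⟩ := exists_quot_equiv hconj f hinj (S := common D d c) (fun z hz => hz.1.1)
    (FischerM23.common_image hconj f hinj hd hc)
  have e1' : e1 '' QSet D d = QSet (f '' D) (f d) := by
    ext q
    constructor
    · rintro ⟨-, ⟨x, hx, rfl⟩, rfl⟩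
      have hm : f x ∈ adj (f '' D) (f d) := hadj ▸ ⟨(x : G), hx, rfl⟩
      exact ⟨⟨f x, Subgroup.subset_closure hm⟩, hm, (he1 x ⟨f x, Subgroup.subset_closure hm⟩ rfl).symm⟩
    · rintro ⟨y, hy, rfl⟩
      have hy' : (y : H) ∈ adj (f '' D) (f d) := hy
      rw [hadj] at hy'
      obtain ⟨x, hx, hxy⟩ := hy'
      exact ⟨toQ _ ⟨x, Subgroup.subset_closure hx⟩, ⟨_, hx, rfl⟩, he1 ⟨x, _⟩ y hxy.symm⟩
  constructor
  · rintro ⟨-, -, hdc, hP, c₃, hc3, hR⟩
    refine ⟨hd, hc, fun h => hdc (h.map f), ?_, c₃, hc3, FischerM23.proj_refl_congr e2.symm hR⟩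
    have hback : e1.symm '' QSet (f '' D) (f d) = QSet D d := by
      rw [← e1']; exact e1.toEquiv.symm_image_image _
    rw [← hback]
    refine type22_map e1.symm ?_ hP
    intro g z hz
    rw [← e1'] at hz ⊢
    obtain ⟨w, hw, rfl⟩ := hz
    refine ⟨e1.symm g * w * (e1.symm g)⁻¹, qset_conj hconj d _ w hw, ?_⟩
    rw [map_mul, map_mul, map_inv, e1.apply_symm_apply]
  · rintro ⟨-, -, hdc, hP, c₃, hc3, hR⟩
    refine ⟨⟨d, hd, rfl⟩, ⟨c, hc, rfl⟩,
      fun h => hdc (FischerM23.commute_of_map_commute hconj f hinj hc h), ?_, c₃, hc3,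
      FischerM23.proj_refl_congr e2 hR⟩
    rw [← e1']
    exact type22_map e1 (qset_conj hconj d) hP

end Cfsg.Agent.FischerM24
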