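/-
A 3-transposition group with the data of type M(22) is one class and simple.

Main results (namespace `Cfsg.Agent.FischerM24`):
* `class_of_type22` : the data of type M(22) force a single class;
* `simple_of_type22`, `simple_local_of_data23` : the local group of the data of type M(23) is simple modulo its centre.
-/
import Cfsg.Agent.Lib.FischerM24.Transport

set_option autoImplicit false

namespace Cfsg.Agent.FischerM24

open Cfsg.Agent.Unitary Cfsg.Agent.U62Cover Cfsg.Agent.ThreeTrans Cfsg.Agent.ThreeTransSU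
open Cfsg.Agent.FischerM23 (QL QSet Data22At)

theorem psu_card {F : Type*} [Field F] [Fintype F] (hF : Fintype.card F = 4) :
    Nat.card (Cfsg.PSU 6 F 2) = 9196830720 := by
  have h := card_PSU (q := 2) (F := F) (by rw [hF]; norm_num) (n := 6) (by norm_num)
  simp [Finset.prod_range_succ, Nat.even_iff] at h
  omega

/-- A projective reflection group in dimension 6 modulo three is not PSU(6,2). -/
theorem not_proj_refl_psu {F : Type} [Field F] [Fintype F] (hF : Fintype.card F = 4) {μ c : ZMod 3} :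
    ¬ Cfsg.IsProjReflectionGroupModThree (Cfsg.PSU 6 F 2) 6 μ c := by
  rintro ⟨Q, hQ, -, ⟨e⟩⟩
  have h11 : 11 ∣ Nat.card (Orth.IsoGrp Q) := by
    refine dvd_trans ?_ (Subgroup.card_subgroup_dvd_card (Cfsg.reflectionSubgroup (⇑Q) c))
    refine dvd_trans ?_ (Subgroup.card_quotient_dvd_card (Subgroup.center _))
    rw [← Nat.card_congr e.toEquiv, psu_card hF]
    norm_num
  have hab : ∀ x y : ZMod 3, x ^ 2 + 0 * x * y + 1 * y ^ 2 = 0 → x = 0 ∧ y = 0 := by decide
  have : Fact (Nat.Prime 3) := ⟨Nat.prime_three⟩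
  rcases Forms.classify_even Q hQ (m := 3) (by simp) hab with ⟨f, hf⟩ | ⟨-, f, hf⟩
  · rw [← Nat.card_congr ((Forms.isometryGroupEquiv (Cfsg.quadFormPlus 3 (ZMod 3))).trans
      ((Forms.preservingFunCongr (Cfsg.quadFormPlus 3 (ZMod 3)) (⇑Q) f 1 one_ne_zero fun v => by
        rw [hf, Forms.qfPlus_apply, one_mul]).trans (Forms.isometryGroupEquiv (⇑Q)).symm)).toEquiv,
      S0287.result (ZMod.card 3) 3 (by norm_num)] at h11
    simp [Finset.prod_range_succ] at h11
  · rw [← Nat.card_congr ((Forms.isometryGroupEquiv (Cfsg.quadFormMinus (3 - 1) (ZMod 3) 0 1)).trans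
      ((Forms.preservingFunCongr (Cfsg.quadFormMinus (3 - 1) (ZMod 3) 0 1) (⇑Q) f 1 one_ne_zero fun v => by
        rw [hf, Forms.qfMinus_apply, one_mul]).trans (Forms.isometryGroupEquiv (⇑Q)).symm)).toEquiv,
      S0288.result (ZMod.card 3) 3 (by norm_num) 0 1 hab] at h11
    simp [Finset.prod_range_succ] at h11

variable {H : Type*} [Group H] {E : Set H}

/-- The data of type M(22) force a single class. -/
theorem class_of_type22 [Finite H] (hE : Cfsg.IsThreeTranspositionGroup E)
    (h : Cfsg.IsOfTypeM22 H E) : Cfsg.IsThreeTranspositionClass E := by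
  obtain ⟨x, y, hd⟩ := FischerM23.data_of_type22 h
  obtain ⟨hx, hy, hxy, ⟨F, i1, i2, hF, ⟨eP⟩⟩, c₃, hc3, hR⟩ := id hd
  obtain ⟨hs, hconj, hgen⟩ := id hE
  refine ⟨hs, ⟨x, hx, Set.Subset.antisymm (fun z hz => ?_) fun z hz => ?_⟩, hgen⟩
  swap
  · obtain ⟨g, rfl⟩ := isConj_iff.1 (show IsConj x z from hz)
    exact hconj g x hx
  show IsConj x z
  by_contra hzc
  -- two different classes commute elementwise
  have hconjClass : ∀ u ∈ E, ∀ w ∈ E, ¬ Commute u w → IsConj u w := fun u hu w hw huw => by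
    refine isConj_iff.2 ⟨u * w, ?_⟩
    have b := braid hs hu hw huw
    calc u * w * u * (u * w)⁻¹ = u * w * u * (w⁻¹ * u⁻¹) := by group
      _ = w := by
        rw [inv_eq hs hw, inv_eq hs hu, b]
        simp only [mul_assoc, mul_self_cancel hs hw, mul_self hs hu, mul_one]
  set E₂ := {w | w ∈ E ∧ ¬ IsConj x w} with hE2
  have hcom : ∀ w ∈ E₂, ∀ u ∈ E, IsConj x u → Commute w u := fun w hw u hu hxu => by
    by_contra hn
    exact hw.2 (hxu.trans (hconjClass u hu w hw.1 fun h => hn h.symm))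
  have hxy' : IsConj x y := hconjClass x hx y hy hxy
  have hsub : E₂ ⊆ common E x y := fun w hw =>
    ⟨⟨hw.1, fun e => hw.2 (e ▸ IsConj.refl x), (hcom w hw x hx (IsConj.refl x)).symm⟩,
      hw.1, fun e => hw.2 (e ▸ hxy'), (hcom w hw y hy hxy').symm⟩
  have hE2conj : ∀ g : H, ∀ w ∈ E₂, g * w * g⁻¹ ∈ E₂ := fun g w hw =>
    ⟨hconj g w hw.1, fun h => hw.2 (h.trans (isConj_iff.2 ⟨g⁻¹, by group⟩))⟩
  obtain ⟨w₀, hw₀⟩ : E₂.Nonempty := ⟨z, hz, hzc⟩
  obtain ⟨w, hw, hww⟩ : ∃ w ∈ E₂, ¬ Commute w₀ w := by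
    by_contra hcon
    have hc : w₀ ∈ Subgroup.center H := by
      refine Subgroup.mem_center_iff.2 fun g => ?_
      have hg : g ∈ Subgroup.closure E := hgen ▸ Subgroup.mem_top g
      show Commute g w₀
      induction hg using Subgroup.closure_induction with
      | mem u hu =>
        by_cases hxu : IsConj x u
        · exact (hcom w₀ hw₀ u hu hxu).symm
        · by_contra hn
          exact hcon ⟨u, ⟨hu, hxu⟩, fun h => hn h.symm⟩
      | one => exact Commute.one_left _
      | mul u v _ _ hu hv => exact hu.mul_left hv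
      | inv u _ hu => exact hu.inv_left
    rw [h.1, Subgroup.mem_bot] at hc
    exact ne_one hs hw₀.1 hc
  set K := Subgroup.closure E₂ with hK
  have hKn : K.Normal := ⟨fun n hn g => by
    have h1 : n ∈ K.comap (MulAut.conj g).toMonoidHom := by
      refine (Subgroup.closure_le _).2 (fun u hu => ?_) hn
      exact Subgroup.subset_closure (hE2conj g u hu)
    exact h1⟩
  set T := Subgroup.closure (common E x y) with hT
  have hKT : K ≤ T := Subgroup.closure_mono hsub
  have hTL : T ≤ Loc E x := Subgroup.closure_mono Set.inter_subset_left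
  set π := toQ ↥(Loc E x) with hπ
  have hsimple : IsSimpleGroup (↥(Loc E x) ⧸ Subgroup.center ↥(Loc E x)) := FischerM23.simple_of_data hd
  have hsurj : Function.Surjective π := QuotientGroup.mk'_surjective _
  have hKtop : (K.subgroupOf (Loc E x)).map π = ⊤ := by
    refine ((hsimple.eq_bot_or_eq_top_of_normal _
      ((inferInstance : (K.subgroupOf (Loc E x)).Normal).map _ hsurj))).resolve_left fun hb => hww ?_
    have m : ∀ u ∈ E₂, u ∈ Loc E x := fun u hu => hTL (hKT (Subgroup.subset_closure hu))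
    have h1 : π ⟨w₀, m w₀ hw₀⟩ ∈ (K.subgroupOf (Loc E x)).map π :=
      ⟨⟨w₀, m w₀ hw₀⟩, Subgroup.subset_closure hw₀, rfl⟩
    rw [hb, Subgroup.mem_bot] at h1
    exact (congrArg Subtype.val
      (Subgroup.mem_center_iff.1 ((QuotientGroup.eq_one_iff _).1 h1) ⟨w, m w hw⟩)).symm
  -- the common neighbours give PSU(6,2) again
  let ψ : ↥T →* ↥(Loc E x) ⧸ Subgroup.center ↥(Loc E x) := π.comp (Subgroup.inclusion hTL)
  have hψ : Function.Surjective ψ := by
    intro q
    obtain ⟨k, hk, rfl⟩ : q ∈ (K.subgroupOf (Loc E x)).map π := hKtop ▸ Subgroup.mem_top q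
    exact ⟨⟨k, hKT hk⟩, rfl⟩
  have hgen' : ∀ l : ↥(Loc E x), ∃ k : ↥T, ∃ c ∈ Subgroup.center ↥(Loc E x),
      l = Subgroup.inclusion hTL k * c := fun l => by
    obtain ⟨k, hk⟩ := hψ (π l)
    exact ⟨k, _, QuotientGroup.eq.1 hk, (mul_inv_cancel_left _ _).symm⟩
  have hker : ψ.ker = Subgroup.center ↥T := by
    refine le_antisymm (fun k hk => ?_) (fun k hk => ?_)
    · have hc : Subgroup.inclusion hTL k ∈ Subgroup.center ↥(Loc E x) := (QuotientGroup.eq_one_iff _).1 hk
      exact Subgroup.mem_center_iff.2 fun g => Subgroup.inclusion_injective hTL (by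
        rw [map_mul, map_mul]; exact Subgroup.mem_center_iff.1 hc _)
    · refine (QuotientGroup.eq_one_iff _).2 (Subgroup.mem_center_iff.2 fun l => ?_)
      obtain ⟨g, c, hc, rfl⟩ := hgen' l
      have e1 : Commute (Subgroup.inclusion hTL g) (Subgroup.inclusion hTL k) :=
        Commute.map (Subgroup.mem_center_iff.1 hk g : Commute g k) _
      exact e1.mul_left (Subgroup.mem_center_iff.1 hc _).symm
  have eT := (QuotientGroup.quotientMulEquivOfEq hker.symm).trans
    (QuotientGroup.quotientKerEquivOfSurjective ψ hψ)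
  exact not_proj_refl_psu hF (FischerM23.proj_refl_congr (eT.trans eP) hR)

variable {G : Type*} [Group G] {D : Set G}

theorem adj_diff_one {x : H} (hx : x ≠ 1) :
    Subgroup.closure (adj (E \ {1}) x) = Subgroup.closure (adj E x) := by
  refine le_antisymm (Subgroup.closure_mono fun z hz => ⟨hz.1.1, hz.2⟩) ?_
  refine (Subgroup.closure_le _).2 fun z hz => ?_
  by_cases h : z = 1
  · rw [h]; exact one_mem _
  · exact Subgroup.subset_closure ⟨⟨hz.1, h⟩, hz.2⟩

theorem common_diff_one {x y : H} :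
    Subgroup.closure (common (E \ {1}) x y) = Subgroup.closure (common E x y) := by
  refine le_antisymm (Subgroup.closure_mono fun z hz => ⟨⟨hz.1.1.1, hz.1.2⟩, hz.2.1.1, hz.2.2⟩) ?_
  refine (Subgroup.closure_le _).2 fun z hz => ?_
  by_cases h : z = 1
  · rw [h]; exact one_mem _
  · exact Subgroup.subset_closure ⟨⟨⟨hz.1.1, h⟩, hz.1.2⟩, ⟨hz.2.1, h⟩, hz.2.2⟩

theorem quot_congr {A B : Subgroup H} (h : A = B) :
    Nonempty (↥A ⧸ Subgroup.center ↥A ≃* ↥B ⧸ Subgroup.center ↥B) := by
  subst h; exact ⟨MulEquiv.refl _⟩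

/-- The data of type M(22) force simplicity. -/
theorem simple_of_type22 [Finite H] (hE : Cfsg.IsThreeTranspositionGroup (E \ {1}))
    (h : Cfsg.IsOfTypeM22 H E) : IsSimpleGroup H := by
  obtain ⟨x, y, hx, hy, hxy, hP, hR⟩ := FischerM23.data_of_type22 h
  have hx1 : x ≠ 1 := fun e => hxy (e ▸ Commute.one_left y)
  have hy1 : y ≠ 1 := fun e => hxy (e ▸ Commute.one_right x)
  have hd : Data22At (E \ {1}) x y := by
    obtain ⟨F, i1, i2, hF, ⟨eP⟩⟩ := hP
    obtain ⟨c₃, hc3, hR⟩ := hR
    obtain ⟨e1⟩ := quot_congr (adj_diff_one (E := E) hx1)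
    obtain ⟨e2⟩ := quot_congr (common_diff_one (E := E) (x := x) (y := y))
    exact ⟨⟨hx, hx1⟩, ⟨hy, hy1⟩, hxy, ⟨F, i1, i2, hF, ⟨e1.trans eP⟩⟩, c₃, hc3,
      FischerM23.proj_refl_congr e2.symm hR⟩
  have h' := FischerM23.type22_of_data h.1 hd
  have hcls := class_of_type22 hE h'
  have hcc := FischerM23.centralCores_of_local_simple hcls hd.1 (FischerM23.simple_of_data hd)
  exact FischerM22.isSimpleGroup
    ⟨hcls, hcc, FischerM23.connected_of_data hcls hcc h.1 hd, h'⟩

/-- The local group of the data of type M(23) is simple modulo its centre. -/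
theorem simple_local_of_data23 [Finite G] (hD : Cfsg.IsThreeTranspositionGroup D) {d c : G}
    (h : Data23At D d c) : IsSimpleGroup (QL D d) := by
  refine simple_of_type22 ⟨⟨?_, ?_⟩, ?_, ?_⟩ h.2.2.2.1
  · rintro _ ⟨⟨x, hx, rfl⟩, h1⟩
    refine orderOf_eq_prime ?_ h1
    rw [← map_pow, show x ^ 2 = 1 from Subtype.ext (by
      rw [pow_two, Subgroup.coe_mul]; exact mul_self hD.1 hx.1), map_one]
  · rintro _ ⟨⟨x, hx, rfl⟩, -⟩ _ ⟨⟨y, hy, rfl⟩, -⟩
    have e : ∀ n : ℕ, ((x : G) * y) ^ n = 1 → (toQ _ x * toQ _ y) ^ n = 1 := fun n hn => by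
      rw [← map_mul, ← map_pow, show (x * y) ^ n = 1 from Subtype.ext (by simpa using hn), map_one]
    exact (hD.1.2 _ hx.1 _ hy.1).imp (e 2) (e 3)
  · intro g z hz
    refine ⟨qset_conj hD.2.1 d g z hz.1, fun e => hz.2 ?_⟩
    rw [Set.mem_singleton_iff] at e ⊢
    calc z = g⁻¹ * (g * z * g⁻¹) * g := by group
      _ = 1 := by rw [e]; group
  · refine eq_top_iff.2 ?_
    have htop : Subgroup.closure (QSet D d) = ⊤ := by
      have h1 : Subgroup.closure (locSet D d) = ⊤ :=
        Subgroup.closure_closure_coe_preimage (k := adj D d)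
      rw [QSet, ← MonoidHom.map_closure, h1,
        Subgroup.map_top_of_surjective _ (QuotientGroup.mk'_surjective _)]
    rw [← htop]
    refine (Subgroup.closure_le _).2 fun z hz => ?_
    by_cases h1 : z = 1
    · rw [h1]; exact one_mem _
    · exact Subgroup.subset_closure ⟨hz, h1⟩

end Cfsg.Agent.FischerM24
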