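/-
The data of type M(23) with trivial centre give a group of type M(23).

Main results (namespace `Cfsg.Agent.FischerM24`):
* `local22_of_data23` : the local quotient is a group of type M(22);
* `connected_of_data23`, `setup23_of_data`.
-/
import Cfsg.Agent.Lib.FischerM24.Simple

set_option autoImplicit false

namespace Cfsg.Agent.FischerM24

open Cfsg.Agent.ThreeTrans Cfsg.Agent.ThreeTransSU Relation
open Cfsg.Agent.FischerM23 (QL QSet Data22At Reach reach_symm reach_conj)

variable {G : Type*} [Group G] [Finite G] {D : Set G}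

theorem cores_of_data23 (hD : Cfsg.IsThreeTranspositionClass D) {d c : G} (h : Data23At D d c) :
    CentralCores G :=
  FischerM23.centralCores_of_local_simple hD h.1 (simple_local_of_data23 (group_of_class hD) h)

theorem adj_nonempty_of_data23 (hD : Cfsg.IsThreeTranspositionClass D) {d c : G} (h : Data23At D d c) :
    (adj D d).Nonempty :=
  adj_nonempty_of_simple_quotient (simple_local_of_data23 (group_of_class hD) h)

theorem local22_of_data23 (hD : Cfsg.IsThreeTranspositionClass D) {d c : G} (h : Data23At D d c) :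
    FischerM22.Fi22Setup (QSet D d) := by
  have hcc := cores_of_data23 hD h
  have hne := adj_nonempty_of_data23 hD h
  have hs := simple_local_of_data23 (group_of_class hD) h
  have hL := loc_class hD hcc h.1 hne
  have hn := exists_noncommuting_of_simple_quotient hL.2.2 hs
  have hlc : CentralCores ↥(Loc D d) :=
    ⟨pCore_two_le_center_of_simple_quotient hL.1 hL.2.2 hs hn,
      FischerM23.pCore_three_le_center_of_simple_quotient hL.1 hs hn⟩
  have hcls := class_quotient hL (ThreeTrans.loc_two hD hcc h.1 hne)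
  have hcc' := centralCores_of_trivialRadical (trivialRadical_quotient (group_of_class hL) hlc)
  obtain ⟨x, y, h'⟩ := FischerM23.data_of_type22 h.2.2.2.1
  exact ⟨hcls, hcc', FischerM23.connected_of_data hcls hcc' h.2.2.2.1.1 h', h.2.2.2.1⟩

theorem exists_pair_of_data23 (hD : Cfsg.IsThreeTranspositionClass D) {d c : G} (h : Data23At D d c) :
    ∃ b ∈ adj D d, ∃ e ∈ adj D d, b ≠ e ∧ Commute b e := by
  have S := local22_of_data23 hD h
  have hcc := cores_of_data23 hD h
  have hne := adj_nonempty_of_data23 hD h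
  obtain ⟨_, ⟨b, hb, rfl⟩, -⟩ := S.two_members
  obtain ⟨q, hq⟩ := S.adj_nonempty (show toQ _ b ∈ QSet D d from ⟨b, hb, rfl⟩)
  obtain ⟨⟨e, he, rfl⟩, hne', hc'⟩ := hq
  exact ⟨b, hb, e, he, fun h' => hne' (by rw [show b = e from Subtype.ext h']),
    commute_coe_iff.1 (commute_of_commute_mk (loc_class hD hcc h.1 hne)
      (ThreeTrans.loc_two hD hcc h.1 hne) hb he hc')⟩

theorem common_nonempty_of_data23 {d c : G} (h : Data23At D d c) : (common D d c).Nonempty := by
  obtain ⟨-, -, -, -, c₃, hc3, hR⟩ := h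
  rw [Set.nonempty_iff_ne_empty]
  intro he
  have e : Subgroup.closure (common D d c) = ⊥ := by rw [he, Subgroup.closure_empty]
  have h1 : Nat.card (↥(Subgroup.closure (common D d c)) ⧸
      Subgroup.center ↥(Subgroup.closure (common D d c))) ∣ 1 := by
    refine (Subgroup.card_quotient_dvd_card _).trans ?_
    rw [e, Subgroup.card_bot]
  exact absurd (Nat.le_of_dvd one_pos ((FischerM23.proj_refl_dvd_seven hc3 hR).trans h1)) (by norm_num)

/-- With trivial centre, the data of type M(23) force a connected commuting graph. -/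
theorem connected_of_data23 (hD : Cfsg.IsThreeTranspositionClass D) (_hZ : Subgroup.center G = ⊥)
    {d c : G} (h : Data23At D d c) : ConnectedComm D := by
  have hcc := cores_of_data23 hD h
  obtain ⟨hd, hc, hdc, -, -⟩ := id h
  have hg := group_of_class hD
  have hs := hg.1
  have h2 : ∃ a ∈ D, ∃ b ∈ D, a ≠ b := ⟨d, hd, c, hc, fun e => hdc (e ▸ Commute.refl d)⟩
  suffices key : ∀ x ∈ D, Reach D d x from fun u hu v hv => (reach_symm (key u hu)).trans (key v hv)
  by_contra hcon
  rw [not_forall] at hcon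
  obtain ⟨v, hv⟩ := hcon
  rw [Classical.not_imp] at hv
  obtain ⟨hvD, hvB⟩ := hv
  set B := {x | x ∈ D ∧ Reach D d x} with hB
  have hBcl : ∀ x ∈ B, ∀ y ∈ D, Commute x y → y ∈ B := fun x hx y hy hxy =>
    ⟨hy, hx.2.tail ⟨hx.1, hy, hxy⟩⟩
  have hadjB : ∀ x ∈ B, adj D x ⊆ B := fun x hx y hy => hBcl x hx y hy.1 hy.2.2
  have hdB : d ∈ B := ⟨hd, ReflTransGen.refl⟩
  have hcB : c ∈ B := by
    obtain ⟨y, hy⟩ := common_nonempty_of_data23 h
    exact hBcl y (hadjB d hdB hy.1) c hc hy.2.2.2.symm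
  set R := Subgroup.closure B with hR
  set DR : Set R := {r | (r : G) ∈ B} with hDR
  have hRB : ∀ g ∈ R, ∀ x ∈ B, g * x * g⁻¹ ∈ B := by
    intro g hg'
    induction hg' using Subgroup.closure_induction_left with
    | one => intro x hx; simpa using hx
    | mul_left b hb u _ hu =>
      intro x hx
      have h1 := reach_conj hg.2.1 b ((reach_symm hb.2).trans (hu x hx).2)
      rw [mul_inv_cancel_right] at h1
      refine ⟨hg.2.1 _ x hx.1, hb.2.trans ?_⟩
      rwa [show b * u * x * (b * u)⁻¹ = b * (u * x * u⁻¹) * b⁻¹ by group]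
    | inv_mul_cancel b hb u _ hu =>
      intro x hx
      have h1 := reach_conj hg.2.1 b⁻¹ ((reach_symm hb.2).trans (hu x hx).2)
      rw [inv_mul_cancel, one_mul, inv_inv] at h1
      refine ⟨hg.2.1 _ x hx.1, hb.2.trans ?_⟩
      rwa [show b⁻¹ * u * x * (b⁻¹ * u)⁻¹ = b⁻¹ * (u * x * u⁻¹) * b by group]
  have hRtrans : ∀ x, Reach D d x → ∃ g ∈ R, g * d * g⁻¹ = x := by
    intro x hx
    induction hx with
    | refl => exact ⟨1, one_mem _, by simp⟩
    | @tail y z hy hyz ih =>
      obtain ⟨g, hg', hgy⟩ := ih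
      rcases eq_or_ne z y with rfl | hne
      · exact ⟨g, hg', hgy⟩
      have hyB : y ∈ B := ⟨hyz.1, hy⟩
      obtain ⟨b0, hb0, e0, he0, hbe0, hbec0⟩ := exists_pair_of_data23 hD h
      have hadjy : adj D y = (fun u => g * u * g⁻¹) '' adj D d := by
        rw [← hgy, adj_conj_image hg.2.1]
      set b := g * b0 * g⁻¹ with hbdef
      set e := g * e0 * g⁻¹ with hedef
      have hb : b ∈ adj D y := hadjy ▸ ⟨b0, hb0, rfl⟩
      have he : e ∈ adj D y := hadjy ▸ ⟨e0, he0, rfl⟩
      have hbe : b ≠ e := fun e1 => hbe0 (mul_left_cancel (mul_right_cancel e1))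
      have hbec : Commute b e := hbec0.map (MulAut.conj g).toMonoidHom
      obtain ⟨k, hk, hkb⟩ := loc_transitive hD h2 hcc hyz.1 hb (⟨hyz.2.1, hne, hyz.2.2⟩ : z ∈ adj D y)
      -- a common neighbour of y and z
      set q := k * e * k⁻¹ with hq
      have hky : k * y * k⁻¹ = y := FischerM22.conj_eq_self_of_loc hk
      have hqy : q ∈ adj D y := by
        rw [← hky]
        exact (conj_adj hg.2.1 k y q).2 (by simpa [hq, mul_assoc] using he)
      have hqz : z ∈ adj D q := by
        refine ⟨hyz.2.1, fun e1 => hbe (mul_left_cancel (mul_right_cancel (hkb.trans e1))), ?_⟩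
        rw [← hkb]
        exact hbec.symm.map (MulAut.conj k).toMonoidHom
      obtain ⟨m, hm, hmy⟩ := loc_transitive hD h2 hcc hqy.1 (FischerM22.adj_symm hyz.1 hqy) hqz
      have hmR : m ∈ R := Subgroup.closure_mono (hadjB q (hadjB y hyB hqy)) hm
      exact ⟨m * g, mul_mem hmR hg', by rw [← hmy, ← hgy]; group⟩
  have memR : ∀ {x}, x ∈ B → x ∈ R := fun hx => Subgroup.subset_closure hx
  have hclR : Cfsg.IsThreeTranspositionClass DR := by
    refine ⟨⟨fun r hr => by rw [← Subgroup.orderOf_coe]; exact hs.1 _ hr.1, fun r hr s hs' => ?_⟩,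
      ⟨⟨d, memR hdB⟩, hdB, ?_⟩, ?_⟩
    · rcases hs.2 _ hr.1 _ hs'.1 with h1 | h1
      · exact Or.inl (Subtype.ext h1)
      · exact Or.inr (Subtype.ext h1)
    · ext r
      constructor
      · intro hr
        obtain ⟨g, hg', hgd⟩ := hRtrans r hr.2
        exact isConj_iff.2 ⟨⟨g, hg'⟩, Subtype.ext hgd⟩
      · intro hr
        obtain ⟨g, rfl⟩ := isConj_iff.1 (show IsConj (⟨d, memR hdB⟩ : R) r from hr)
        exact hRB g g.2 d hdB
    · exact Subgroup.closure_closure_coe_preimage (k := B)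
  have hconjR := (group_of_class hclR).2.1
  -- the data in R
  have himgR : R.subtype '' DR = B := by
    ext x
    exact ⟨by rintro ⟨r, hr, rfl⟩; exact hr, fun hx => ⟨⟨x, memR hx⟩, hx, rfl⟩⟩
  have hadjeq : ∀ x ∈ B, adj B x = adj D x := fun x hx => by
    ext y
    exact ⟨fun hy => ⟨hy.1.1, hy.2⟩, fun hy => ⟨hadjB x hx hy, hy.2⟩⟩
  have hdataR : Data23At DR (⟨d, memR hdB⟩ : R) (⟨c, memR hcB⟩ : R) := by
    rw [← data23_image hconjR R.subtype R.subtype_injective.injOn (show _ ∈ DR from hdB)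
      (show (⟨c, memR hcB⟩ : R) ∈ DR from hcB), himgR]
    obtain ⟨-, -, -, hP, c₃, hc3, hR3⟩ := h
    show Data23At B d c
    obtain ⟨e1, he1⟩ := exists_quot_equiv hg.2.1 (MonoidHom.id G) Function.injective_id.injOn
      (S := adj D d) (fun z hz => hz.1) (T := adj B d) (by rw [hadjeq d hdB]; exact (Set.image_id _).symm)
    obtain ⟨e2, -⟩ := exists_quot_equiv hg.2.1 (MonoidHom.id G) Function.injective_id.injOn
      (S := common D d c) (fun z hz => hz.1.1) (T := common B d c)
      (by rw [common, hadjeq d hdB, hadjeq c hcB]; exact (Set.image_id _).symm)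
    refine ⟨hdB, hcB, hdc, ?_, c₃, hc3, FischerM23.proj_refl_congr e2 hR3⟩
    have e1' : e1 '' QSet D d = QSet B d := by
      ext q
      constructor
      · rintro ⟨-, ⟨x, hx, rfl⟩, rfl⟩
        have hm : (x : G) ∈ adj B d := hadjeq d hdB ▸ hx
        exact ⟨⟨x, Subgroup.subset_closure hm⟩, hm, (he1 x ⟨x, Subgroup.subset_closure hm⟩ rfl).symm⟩
      · rintro ⟨y, hy, rfl⟩
        have hm : (y : G) ∈ adj D d := hadjeq d hdB ▸ hy
        exact ⟨toQ _ ⟨y, Subgroup.subset_closure hm⟩, ⟨_, hm, rfl⟩, he1 ⟨y, _⟩ y rfl⟩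
    rw [← e1']
    exact type22_map e1 (qset_conj hg.2.1 d) hP
  have h2R : ∃ a ∈ DR, ∃ b ∈ DR, a ≠ b := ⟨⟨d, memR hdB⟩, hdB, ⟨c, memR hcB⟩, hcB,
    fun e => hdc (by rw [show d = c from congrArg Subtype.val e])⟩
  have hccR := cores_of_data23 hclR hdataR
  have hrad := trivialRadical_quotient (group_of_class hclR) hccR
  have hinjR : Set.InjOn (toQ R) DR := fun x hx y hy e => mk_inj hclR h2R hx hy e
  have S : FischerM23.Fi23Setup (toQ R '' DR) := by
    refine ⟨class_quotient hclR h2R, centralCores_of_trivialRadical hrad, ?_,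
      type23_of_data (center_eq_bot_of_trivialRadical hrad)
        ((data23_image hconjR (toQ R) hinjR (show _ ∈ DR from hdB) (show _ ∈ DR from hcB)).2 hdataR)⟩
    have key' : ∀ x, Reach D d x → ∀ hx : x ∈ B,
        Reach (toQ R '' DR) (toQ R ⟨d, memR hdB⟩) (toQ R ⟨x, memR hx⟩) := by
      intro x hx
      induction hx with
      | refl => intro _; exact ReflTransGen.refl
      | @tail y z hy hyz ih =>
        intro hz
        exact (ih ⟨hyz.1, hy⟩).tail ⟨⟨_, (⟨hyz.1, hy⟩ : y ∈ B), rfl⟩, ⟨_, hz, rfl⟩,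
          Commute.map (show Commute (⟨y, _⟩ : R) ⟨z, _⟩ from Subtype.ext hyz.2.2) _⟩
    rintro _ ⟨u, hu, rfl⟩ _ ⟨w, hw, rfl⟩
    exact (reach_symm (key' u hu.2 hu)).trans (key' w hw.2 hw)
  -- seven members with central product
  obtain ⟨L, hlen, hmem, hprod⟩ := FischerM23.exists_six S
    (show toQ R ⟨d, memR hdB⟩ ∈ toQ R '' DR from ⟨_, hdB, rfl⟩)
  have hlift : ∀ L : List (↥R ⧸ Subgroup.center ↥R), (∀ y ∈ L, y ∈ toQ R '' DR) →
      ∃ L' : List R, L'.length = L.length ∧ (∀ y ∈ L', y ∈ DR) ∧ toQ R L'.prod = L.prod := by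
    intro L
    induction L with
    | nil => exact fun _ => ⟨[], rfl, by simp, by simp⟩
    | cons y L ih =>
      intro hy
      obtain ⟨x, hx, e⟩ := hy y List.mem_cons_self
      obtain ⟨L', l1, l2, l3⟩ := ih fun z hz => hy z (List.mem_cons_of_mem _ hz)
      refine ⟨x :: L', by simp [l1], fun z hz => ?_, by
        rw [List.prod_cons, map_mul, e, l3, List.prod_cons]⟩
      rcases List.mem_cons.1 hz with rfl | hz
      exacts [hx, l2 z hz]
  obtain ⟨L', l1, l2, l3⟩ := hlift L fun y hy => (hmem y hy).1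
  set zR : R := (⟨d, memR hdB⟩ : R) * L'.prod with hzR
  have hzc : ∀ x ∈ B, Commute x (zR : G) := by
    intro x hx
    have hz : zR ∈ Subgroup.center ↥R := (QuotientGroup.eq_one_iff _).1 (by
      show toQ R zR = 1
      rw [hzR, map_mul, l3, hprod]
      exact mul_self S.cls.1 ⟨_, hdB, rfl⟩)
    exact congrArg Subtype.val (Subgroup.mem_center_iff.1 hz ⟨x, memR hx⟩)
  -- odd products swap the components of v and its conjugate
  have hcd : ∀ w ∈ B, ¬ Commute v w := fun w hw hc' => hvB (hBcl w hw v hvD hc'.symm).2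
  set v' := v * d * v with hv'
  have hswap : ∀ w ∈ B, ∀ y, (Reach D v y → Reach D v' (w * y * w⁻¹)) ∧
      (Reach D v' y → Reach D v (w * y * w⁻¹)) := by
    intro w hw y
    have h1 : Reach D v' (w * v * w⁻¹) := by
      have := reach_conj hg.2.1 v hw.2
      rw [inv_eq hs hvD] at this
      rwa [inv_eq hs hw.1, ← braid hs hvD hw.1 (hcd w hw)]
    refine ⟨fun hy => h1.trans (reach_conj hg.2.1 w hy), fun hy => ?_⟩
    have h2' := reach_symm (reach_conj hg.2.1 w h1)
    rw [show w * (w * v * w⁻¹) * w⁻¹ = v by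
      rw [inv_eq hs hw.1]; simp only [mul_assoc, mul_self_cancel hs hw.1, mul_self hs hw.1, mul_one]] at h2'
    exact (h2').trans (reach_conj hg.2.1 w hy)
  have hpar : ∀ l : List R, (∀ y ∈ l, y ∈ DR) →
      (Even l.length → Reach D v ((l.prod : R) * v * ((l.prod : R) : G)⁻¹)) ∧
      (Odd l.length → Reach D v' ((l.prod : R) * v * ((l.prod : R) : G)⁻¹)) := by
    intro l
    induction l with
    | nil => intro _; exact ⟨fun _ => by simp; exact ReflTransGen.refl, fun h => absurd h (by simp)⟩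
    | cons y l ih =>
      intro hy
      obtain ⟨i1, i2⟩ := ih fun z hz => hy z (List.mem_cons_of_mem _ hz)
      have hyB : (y : G) ∈ B := hy y List.mem_cons_self
      have e : (((y :: l).prod : R) : G) * v * (((y :: l).prod : R) : G)⁻¹
          = (y : G) * (((l.prod : R) : G) * v * ((l.prod : R) : G)⁻¹) * (y : G)⁻¹ := by
        rw [List.prod_cons, Subgroup.coe_mul]; group
      rw [e, List.length_cons]
      exact ⟨fun hev => (hswap _ hyB _).2 (i2 (Nat.not_even_iff_odd.1 (Nat.even_add_one.1 hev))),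
        fun hod => (hswap _ hyB _).1 (i1 (Nat.not_odd_iff_even.1 (Nat.odd_add_one.1 hod)))⟩
  set u := (zR : G) * v * (zR : G)⁻¹ with hu
  have huv' : Reach D v' u := by
    have h7 := (hpar (⟨d, memR hdB⟩ :: L') fun y hy => by
      rcases List.mem_cons.1 hy with rfl | hy
      exacts [hdB, l2 y hy]).2 (by rw [List.length_cons, l1, hlen]; decide)
    rwa [List.prod_cons, ← hzR, ← hu] at h7
  set c0 := v * u * v with hc0
  have hc0B : c0 ∈ B := by
    refine ⟨Cfsg.Agent.ThreeTrans.conj_mem hs hg.2.1 hvD (hg.2.1 _ v hvD), ?_⟩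
    have := reach_conj hg.2.1 v huv'
    rw [inv_eq hs hvD, hv'] at this
    simpa [hc0, mul_assoc, mul_self hs hvD, mul_self_cancel hs hvD] using this
  have huc : u = c0 * v * c0 := by
    rw [← braid hs hvD hc0B.1 (hcd c0 hc0B), hc0]
    simp only [mul_assoc, mul_self hs hvD, mul_self_cancel hs hvD, mul_one]
  set k := c0 * (zR : G) with hk
  let HH := Subgroup.centralizer ({k} : Set G)
  have hH : ∀ g, g ∈ HH ↔ Commute g k := fun g => Subgroup.mem_centralizer_singleton_iff
  have hvH : v ∈ HH := (hH v).2 (by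
    show v * k = k * v
    have e1 : k * v * k⁻¹ = v := by
      calc k * v * k⁻¹ = c0 * u * c0⁻¹ := by rw [hk, hu]; group
        _ = v := by
          rw [huc, inv_eq hs hc0B.1]
          simp only [mul_assoc, mul_self hs hc0B.1, mul_self_cancel hs hc0B.1, mul_one]
    exact (mul_inv_eq_iff_eq_mul.1 e1).symm)
  have hc0H : c0 ∈ HH := (hH c0).2 ((Commute.refl c0).mul_right (hzc c0 hc0B))
  have hA : adj D c0 ⊆ HH := fun y hy =>
    (hH y).2 (hy.2.2.symm.mul_right (hzc y (hadjB c0 hc0B hy)))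
  set O : Set G := {x | ∃ g ∈ HH, g * c0 * g⁻¹ = x} with hO
  have hline : ∀ x ∈ O, ∀ y ∈ D, y ∈ HH → ¬ Commute x y → y ∈ O := by
    rintro x ⟨g, hg', rfl⟩ y hy hyH hxy
    have hxD := hg.2.1 g c0 hc0B.1
    have hxH : g * c0 * g⁻¹ ∈ HH := mul_mem (mul_mem hg' hc0H) (inv_mem hg')
    refine ⟨g * c0 * g⁻¹ * y * g, mul_mem (mul_mem hxH hyH) hg', ?_⟩
    generalize hxe : g * c0 * g⁻¹ = x at hxy hxD
    calc x * y * g * c0 * (x * y * g)⁻¹ = x * y * (g * c0 * g⁻¹) * (y⁻¹ * x⁻¹) := by group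
      _ = x * (y * x * y) * x := by rw [hxe, inv_eq hs hy, inv_eq hs hxD]; simp only [mul_assoc]
      _ = y := by
          rw [braid hs hy hxD fun h => hxy h.symm]
          simp only [mul_assoc, mul_self hs hxD, mul_one, mul_self_cancel hs hxD]
  have hc0O : c0 ∈ O := ⟨1, one_mem _, by simp⟩
  have hvO : v ∈ O := hline c0 hc0O v hvD hvH fun h => hcd c0 hc0B h.symm
  have hAO : adj D c0 ⊆ O := fun y hy => hline v hvO y hy.1 (hA hy) (hcd y (hadjB c0 hc0B hy))
  have hall : ∀ x, Reach D c0 x → x ∈ O := by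
    intro x hx
    induction hx with
    | refl => exact hc0O
    | @tail y z _ hyz ih =>
      obtain ⟨g, hg', rfl⟩ := ih
      rcases eq_or_ne z (g * c0 * g⁻¹) with rfl | hne
      · exact ⟨g, hg', rfl⟩
      obtain ⟨m, hm, hme⟩ := hAO ((conj_adj hg.2.1 g c0 z).1 ⟨hyz.2.1, hne, hyz.2.2⟩)
      refine ⟨g * m, mul_mem hg' hm, ?_⟩
      calc g * m * c0 * (g * m)⁻¹ = g * (m * c0 * m⁻¹) * g⁻¹ := by group
        _ = z := by rw [hme]; group
  obtain ⟨e, he, hne⟩ := exists_not_commute hclR h2R (show (⟨c0, memR hc0B⟩ : R) ∈ DR from hc0B)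
  obtain ⟨g, hg', hge⟩ := hall e ((reach_symm hc0B.2).trans he.2)
  have heH : (e : G) ∈ HH := by rw [← hge]; exact mul_mem (mul_mem hg' hc0H) (inv_mem hg')
  refine hne (Subtype.ext ?_)
  have h1 := (((hH _).1 heH).mul_right (hzc e he).inv_right).symm
  rw [hk, mul_inv_cancel_right] at h1
  exact h1.eq

/-- With trivial centre, the data of type M(23) give a group of type M(23). -/
theorem setup23_of_data (hD : Cfsg.IsThreeTranspositionClass D) (hZ : Subgroup.center G = ⊥)
    {d c : G} (h : Data23At D d c) : FischerM23.Fi23Setup D :=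
  ⟨hD, cores_of_data23 hD h, connected_of_data23 hD hZ h, type23_of_data hZ h⟩

end Cfsg.Agent.FischerM24
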