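/-
Groups of type M(24): the centraliser of a member modulo the member is of type M(23).

Main results (namespace `Cfsg.Agent.FischerM24`):
* `Fi24Setup`, `setup_of_primitive`, `localSetup` : every local quotient is a group of type M(23);
* `adj_ncard`, `common_ncard`, `triple_ncard`, `far_triple_ncard`, `quad_ncard`, `far_quad_ncard` : 31671, 3510,
  693, 351, 180, 126;
* `line_three`, `eq_one_or_self`, `adjSeparated`, `six_cases`, `mem_loc_self`, `mem_center_loc_iff`;
* `loc_card`, `stab_edge`, `exists_transport`, `trans_commuting`, `trans_noncommuting`.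
-/
import Cfsg.Agent.Lib.FischerM24.Connected

set_option autoImplicit false

namespace Cfsg.Agent.FischerM24

open Cfsg.Agent.ThreeTrans Cfsg.Agent.ThreeTransSU
open Cfsg.Agent.FischerM23 (QL QSet qm qm_of_mem qm_coe mem_loc_of_adj qm_mul qset_eq qm_mem qm_conj commute_of_mem_closure_common)

variable {G : Type*} [Group G] {D : Set G}

/-- A group of type M(24). -/
structure Fi24Setup (D : Set G) : Prop where
  cls : Cfsg.IsThreeTranspositionClass D
  cores : CentralCores G
  conn : ConnectedComm D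
  type24 : Cfsg.IsOfTypeM24 G D

theorem exists_local_type23 (h : Cfsg.IsOfTypeM24 G D) :
    ∃ d ∈ D, (adj D d).Nonempty ∧ Cfsg.IsOfTypeM23 (QL D d) (QSet D d) := by
  obtain ⟨-, d, hd, c, -, -, h23, -⟩ := h
  change Cfsg.IsOfTypeM23 (QL D d) (QSet D d) at h23
  obtain ⟨-, x, ⟨y, hy, rfl⟩, -⟩ := id h23
  exact ⟨d, hd, ⟨(y : G), hy⟩, h23⟩

theorem setup_of_primitive [Finite G] (hD : Cfsg.IsThreeTranspositionGroup D)
    (hprim : Cfsg.IsPrimitiveUnderConj D) (h24 : Cfsg.IsOfTypeM24 G D) : Fi24Setup D := by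
  obtain ⟨d, hd, ⟨y, hy⟩, -⟩ := exists_local_type23 h24
  obtain ⟨h1, h2⟩ := mtype_setup hD hprim hd ⟨y, hy⟩
  exact ⟨h1, h2, connected_of_primitive hD hprim ⟨d, hd, y, hy.1, hy.2.1.symm, hy.2.2⟩, h24⟩

namespace Fi24Setup

theorem grp (S : Fi24Setup D) : Cfsg.IsThreeTranspositionGroup D := group_of_class S.cls

theorem conj_mem (S : Fi24Setup D) (g : G) {d : G} (hd : d ∈ D) : g * d * g⁻¹ ∈ D := S.grp.2.1 g d hd

theorem adj_nonempty [Finite G] (S : Fi24Setup D) {a : G} (ha : a ∈ D) : (adj D a).Nonempty := by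
  obtain ⟨d, hd, hne, -⟩ := exists_local_type23 S.type24
  exact adj_nonempty_all S.cls hd ha hne

theorem two_members [Finite G] (S : Fi24Setup D) : ∃ a ∈ D, ∃ b ∈ D, a ≠ b := by
  obtain ⟨d, hd, ⟨y, hy⟩, -⟩ := exists_local_type23 S.type24
  exact ⟨d, hd, y, hy.1, hy.2.1.symm⟩

theorem loc_cls [Finite G] (S : Fi24Setup D) {a : G} (ha : a ∈ D) :
    Cfsg.IsThreeTranspositionClass (locSet D a) :=
  loc_class S.cls S.cores ha (S.adj_nonempty ha)

theorem loc_two [Finite G] (S : Fi24Setup D) {a : G} (ha : a ∈ D) :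
    ∃ x ∈ locSet D a, ∃ y ∈ locSet D a, x ≠ y :=
  ThreeTrans.loc_two S.cls S.cores ha (S.adj_nonempty ha)

theorem locInj [Finite G] (S : Fi24Setup D) {a : G} (ha : a ∈ D) :
    Set.InjOn (toQ ↥(Loc D a)) (locSet D a) :=
  fun _ hx _ hy h => mk_inj (S.loc_cls ha) (S.loc_two ha) hx hy h

theorem qset_cls [Finite G] (S : Fi24Setup D) {a : G} (ha : a ∈ D) :
    Cfsg.IsThreeTranspositionClass (QSet D a) :=
  class_quotient (S.loc_cls ha) (S.loc_two ha)

/-- The local quotients are of type M(23). -/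
theorem localSetup [Finite G] (S : Fi24Setup D) {a : G} (ha : a ∈ D) :
    FischerM23.Fi23Setup (QSet D a) := by
  obtain ⟨d, hd, -, h23⟩ := exists_local_type23 S.type24
  obtain ⟨x, y, h⟩ := data_of_type23 h23
  obtain ⟨g, hg⟩ := class_conj S.cls hd ha
  have hadj : adj D a = (MulAut.conj g).toMonoidHom '' adj D d := by
    rw [← hg, adj_conj_image S.grp.2.1]; rfl
  obtain ⟨e, he⟩ := exists_quot_equiv S.grp.2.1 (MulAut.conj g).toMonoidHom
    (MulAut.conj g).injective.injOn (S := adj D d) (fun z hz => hz.1) hadj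
  have himg : e '' QSet D d = QSet D a := by
    ext q
    constructor
    · rintro ⟨-, ⟨u, hu, rfl⟩, rfl⟩
      have hm : MulAut.conj g (u : G) ∈ adj D a := hadj ▸ ⟨(u : G), hu, rfl⟩
      exact ⟨⟨MulAut.conj g (u : G), Subgroup.subset_closure hm⟩, hm,
        (he u ⟨MulAut.conj g (u : G), Subgroup.subset_closure hm⟩ rfl).symm⟩
    · rintro ⟨w, hw, rfl⟩
      have hw' : (w : G) ∈ adj D a := hw
      rw [hadj] at hw'
      obtain ⟨u, hu, hu'⟩ := hw'
      exact ⟨toQ _ ⟨u, Subgroup.subset_closure hu⟩, ⟨_, hu, rfl⟩, he ⟨u, _⟩ w hu'.symm⟩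
  have h' := (data23_image (qset_conj S.grp.2.1 d) e.toMonoidHom e.injective.injOn h.1 h.2.1).2 h
  change Data23At (e '' QSet D d) (e x) (e y) at h'
  rw [himg] at h'
  exact setup23_of_data (S.qset_cls ha) (center_eq_bot_map e h23.1) h'

theorem loc_cores [Finite G] (S : Fi24Setup D) {a : G} (ha : a ∈ D) : CentralCores ↥(Loc D a) := by
  have hs := FischerM23.isSimpleGroup (S.localSetup ha)
  have hn := exists_noncommuting_of_simple_quotient (S.loc_cls ha).2.2 hs
  exact ⟨pCore_two_le_center_of_simple_quotient (S.loc_cls ha).1 (S.loc_cls ha).2.2 hs hn,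
    FischerM23.pCore_three_le_center_of_simple_quotient (S.loc_cls ha).1 hs hn⟩

end Fi24Setup

variable [Finite G]

theorem qm_inj (S : Fi24Setup D) {a : G} (ha : a ∈ D) : Set.InjOn (qm D a) (adj D a) := by
  intro y hy z hz h
  rw [qm_of_mem (mem_loc_of_adj hy), qm_of_mem (mem_loc_of_adj hz)] at h
  exact congrArg Subtype.val (S.locInj ha (show _ ∈ locSet D a from hy) (show _ ∈ locSet D a from hz) h)

theorem qm_comm (S : Fi24Setup D) {a y z : G} (ha : a ∈ D) (hy : y ∈ adj D a) (hz : z ∈ adj D a) :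
    Commute (qm D a y) (qm D a z) ↔ Commute y z := by
  rw [qm_of_mem (mem_loc_of_adj hy), qm_of_mem (mem_loc_of_adj hz)]
  refine ⟨fun h => commute_coe_iff.1 (commute_of_commute_mk (S.loc_cls ha) (S.loc_two ha)
    (show (⟨y, _⟩ : ↥(Loc D a)) ∈ locSet D a from hy) (show (⟨z, _⟩ : ↥(Loc D a)) ∈ locSet D a from hz) h),
    fun h => Commute.map (show Commute (⟨y, _⟩ : ↥(Loc D a)) ⟨z, _⟩ from Subtype.ext h) _⟩

theorem qm_adj (S : Fi24Setup D) {a x : G} (ha : a ∈ D) (hx : x ∈ adj D a) :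
    adj (QSet D a) (qm D a x) = qm D a '' (adj D a ∩ adj D x) := by
  ext q
  rw [qset_eq]
  constructor
  · rintro ⟨⟨y, hy, rfl⟩, hne, hc⟩
    exact ⟨y, ⟨hy, hy.1, fun e => hne (e ▸ rfl), (qm_comm S ha hx hy).1 hc⟩, rfl⟩
  · rintro ⟨y, ⟨hy, -, hne, hc⟩, rfl⟩
    exact ⟨⟨y, hy, rfl⟩, fun e => hne (qm_inj S ha hy hx e), (qm_comm S ha hx hy).2 hc⟩

theorem qm_mem_adj (S : Fi24Setup D) {a x y : G} (ha : a ∈ D) (hx : x ∈ adj D a) (hy : y ∈ adj D a)
    (hne : y ≠ x) (hc : Commute x y) : qm D a y ∈ adj (QSet D a) (qm D a x) := by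
  rw [qm_adj S ha hx]; exact ⟨y, ⟨hy, hy.1, hne, hc⟩, rfl⟩

theorem qm_inter (S : Fi24Setup D) {a : G} (ha : a ∈ D) {s t : Set G} (hs : s ⊆ adj D a)
    (ht : t ⊆ adj D a) : qm D a '' s ∩ qm D a '' t = qm D a '' (s ∩ t) :=
  ((qm_inj S ha).image_inter hs ht).symm

theorem qm_ncard (S : Fi24Setup D) {a : G} (ha : a ∈ D) {s : Set G} (hs : s ⊆ adj D a) :
    (qm D a '' s).ncard = s.ncard :=
  Set.InjOn.ncard_image ((qm_inj S ha).mono hs)

/-! ### counts -/

theorem adj_ncard (S : Fi24Setup D) {a : G} (ha : a ∈ D) : (adj D a).ncard = 31671 := by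
  rw [← qm_ncard S ha subset_rfl, ← qset_eq, FischerM23.class_ncard (S.localSetup ha)]

theorem common_ncard (S : Fi24Setup D) {a x : G} (ha : a ∈ D) (hx : x ∈ adj D a) :
    (adj D a ∩ adj D x).ncard = 3510 := by
  rw [← qm_ncard S ha Set.inter_subset_left, ← qm_adj S ha hx,
    FischerM23.adj_ncard (S.localSetup ha) (qm_mem hx)]

theorem qm_adj_inter (S : Fi24Setup D) {a x y : G} (ha : a ∈ D) (hx : x ∈ adj D a) (hy : y ∈ adj D a) :
    adj (QSet D a) (qm D a x) ∩ adj (QSet D a) (qm D a y) = qm D a '' (adj D a ∩ adj D x ∩ adj D y) := by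
  rw [qm_adj S ha hx, qm_adj S ha hy, qm_inter S ha Set.inter_subset_left Set.inter_subset_left,
    ← Set.inter_inter_distrib_left, Set.inter_assoc]

theorem triple_ncard (S : Fi24Setup D) {a x y : G} (ha : a ∈ D) (hx : x ∈ adj D a) (hy : y ∈ adj D a)
    (hne : x ≠ y) (hc : Commute x y) : (adj D a ∩ adj D x ∩ adj D y).ncard = 693 := by
  rw [← qm_ncard S ha (Set.inter_subset_left.trans Set.inter_subset_left), ← qm_adj_inter S ha hx hy,
    FischerM23.common_ncard (S.localSetup ha) (qm_mem hx) (qm_mem_adj S ha hx hy hne.symm hc)]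

theorem far_triple_ncard (S : Fi24Setup D) {a x y : G} (ha : a ∈ D) (hx : x ∈ adj D a) (hy : y ∈ adj D a)
    (hc : ¬ Commute x y) : (adj D a ∩ adj D x ∩ adj D y).ncard = 351 := by
  rw [← qm_ncard S ha (Set.inter_subset_left.trans Set.inter_subset_left), ← qm_adj_inter S ha hx hy]
  exact FischerM23.common_card (S.localSetup ha) (qm_mem hx) (qm_mem hy) fun h => hc ((qm_comm S ha hx hy).1 h)

theorem qm_adj_inter_three (S : Fi24Setup D) {a b x y : G} (ha : a ∈ D) (hb : b ∈ adj D a)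
    (hx : x ∈ adj D a) (hy : y ∈ adj D a) :
    adj (QSet D a) (qm D a b) ∩ adj (QSet D a) (qm D a x) ∩ adj (QSet D a) (qm D a y)
      = qm D a '' (adj D a ∩ adj D b ∩ adj D x ∩ adj D y) := by
  rw [qm_adj_inter S ha hb hx, qm_adj S ha hy,
    qm_inter S ha (Set.inter_subset_left.trans Set.inter_subset_left) Set.inter_subset_left]
  congr 1
  ext z
  simp only [Set.mem_inter_iff]
  tauto

theorem quad_ncard (S : Fi24Setup D) {a b x y : G} (ha : a ∈ D) (hb : b ∈ adj D a)
    (hx : x ∈ adj D a ∩ adj D b) (hy : y ∈ adj D a ∩ adj D b) (hne : x ≠ y) (hc : Commute x y) :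
    (adj D a ∩ adj D b ∩ adj D x ∩ adj D y).ncard = 180 := by
  rw [← qm_ncard S ha ((Set.inter_subset_left.trans Set.inter_subset_left).trans Set.inter_subset_left),
    ← qm_adj_inter_three S ha hb hx.1 hy.1]
  exact FischerM23.triple_ncard (S.localSetup ha) (qm_mem hb) (qm_mem_adj S ha hb hx.1 hx.2.2.1 hx.2.2.2)
    (qm_mem_adj S ha hb hy.1 hy.2.2.1 hy.2.2.2) (fun e => hne (qm_inj S ha hx.1 hy.1 e))
    ((qm_comm S ha hx.1 hy.1).2 hc)

theorem far_quad_ncard (S : Fi24Setup D) {a b x y : G} (ha : a ∈ D) (hb : b ∈ adj D a)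
    (hx : x ∈ adj D a ∩ adj D b) (hy : y ∈ adj D a ∩ adj D b) (hc : ¬ Commute x y) :
    (adj D a ∩ adj D b ∩ adj D x ∩ adj D y).ncard = 126 := by
  rw [← qm_ncard S ha ((Set.inter_subset_left.trans Set.inter_subset_left).trans Set.inter_subset_left),
    ← qm_adj_inter_three S ha hb hx.1 hy.1]
  exact FischerM23.far_triple_ncard (S.localSetup ha) (qm_mem hb) (qm_mem_adj S ha hb hx.1 hx.2.2.1 hx.2.2.2)
    (qm_mem_adj S ha hb hy.1 hy.2.2.1 hy.2.2.2) fun h => hc ((qm_comm S ha hx.1 hy.1).1 h)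

/-! ### lines and the centre of the local group -/

/-- Inside the neighbours of `q`, the line through two non-commuting `a, x` is `{a, x, a x a}`. -/
theorem line_three (S : Fi24Setup D) {q a x z : G} (hq : q ∈ D) (ha : a ∈ adj D q) (hx : x ∈ adj D q)
    (hax : ¬ Commute a x) (hz : z ∈ adj D q)
    (H : ∀ y ∈ adj D q, Commute y a → Commute y x → Commute y z) : z = a ∨ z = x ∨ z = a * x * a := by
  have hD := S.cls.1
  obtain ⟨p, hp, hpz⟩ : ∃ p ∈ adj D q ∩ adj D a ∩ adj D x, p ≠ z :=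
    Set.exists_ne_of_one_lt_ncard (by rw [far_triple_ncard S hq ha hx hax]; norm_num) z
  obtain ⟨⟨hpq, hpa⟩, hpx⟩ := hp
  have hzp : Commute p z := H p hpq hpa.2.2.symm hpx.2.2.symm
  have hax' : a * x * a ∈ adj D q := by
    refine ⟨Cfsg.Agent.ThreeTrans.conj_mem hD S.grp.2.1 ha.1 hx.1, fun e => ?_,
      (ha.2.2.mul_right hx.2.2).mul_right ha.2.2⟩
    have h2 : x = q := by
      calc x = a * (a * x * a) * a := by
            simp only [mul_assoc, mul_self_cancel hD ha.1, mul_self hD ha.1, mul_one]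
        _ = q := by rw [e, ← ha.2.2.eq, mul_assoc, mul_self hD ha.1, mul_one]
    exact hx.2.1 h2
  have hla := mem_loc_of_adj ha
  have hlx := mem_loc_of_adj hx
  rcases FischerM23.line_three (S.localSetup hq) (qm_mem hpq)
      (qm_mem_adj S hq hpq ha hpa.2.1.symm hpa.2.2.symm) (qm_mem_adj S hq hpq hx hpx.2.1.symm hpx.2.2.symm)
      (fun h => hax ((qm_comm S hq ha hx).1 h)) (qm_mem_adj S hq hpq hz hpz.symm hzp)
      (fun w hw hwa hwx => by
        rw [qm_adj S hq hpq] at hw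
        obtain ⟨y, ⟨hy, -⟩, rfl⟩ := hw
        exact (qm_comm S hq hy hz).2 (H y hy ((qm_comm S hq hy ha).1 hwa) ((qm_comm S hq hy hx).1 hwx)))
    with h | h | h
  · exact Or.inl (qm_inj S hq hz ha h)
  · exact Or.inr (Or.inl (qm_inj S hq hz hx h))
  · rw [← qm_mul hla hlx, ← qm_mul (mul_mem hla hlx) hla] at h
    exact Or.inr (Or.inr (qm_inj S hq hz hax' h))

/-- Only `1` and `a` centralise `a` and its neighbours. -/
theorem eq_one_or_self (S : Fi24Setup D) {a z : G} (ha : a ∈ D) (hza : Commute z a)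
    (hadj : ∀ y ∈ adj D a, Commute z y) : z = 1 ∨ z = a := by
  have hD := S.cls.1
  obtain ⟨q, hq⟩ := S.adj_nonempty ha
  have haq := FischerM22.adj_symm ha hq
  obtain ⟨x, hx, hax⟩ : ∃ x ∈ adj D q, ¬ Commute a x := by
    obtain ⟨w, hw, hwa⟩ := exists_not_commute (S.localSetup hq.1).cls (S.localSetup hq.1).two_members
      (qm_mem haq)
    rw [qset_eq] at hw
    obtain ⟨x, hx, rfl⟩ := hw
    exact ⟨x, hx, fun h => hwa ((qm_comm S hq.1 haq hx).2 h)⟩
  have fix : ∀ w, Commute w a → (∀ y ∈ adj D a, Commute w y) → Commute w x → w = 1 := by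
    intro w hwa hw hwx
    let H := Subgroup.centralizer ({w} : Set G)
    have hH : ∀ g, g ∈ H ↔ Commute g w := fun g => Subgroup.mem_centralizer_singleton_iff
    have htop : H = ⊤ := eq_top_of_contains_local S.cls S.two_members S.cores S.conn ha hx.1
      ((hH a).2 hwa.symm) ((hH _).2 hwx.symm) (fun y hy => (hH y).2 (hw y hy).symm) hax
    have hc : w ∈ Subgroup.center G :=
      Subgroup.mem_center_iff.2 fun g => (hH g).1 (htop ▸ Subgroup.mem_top g)
    rwa [S.type24.1, Subgroup.mem_bot] at hc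
  have hzq := hadj q hq
  have conj_fix : ∀ {g y : G}, Commute g y → g * y * g⁻¹ = y := fun {g y} h => by
    rw [h.eq, mul_inv_cancel_right]
  have hx1 : z * x * z⁻¹ ∈ adj D q := by
    have := (conj_adj S.grp.2.1 z q (z * x * z⁻¹)).2 (by simpa [mul_assoc] using hx)
    rwa [conj_fix hzq] at this
  rcases line_three S hq.1 haq hx hax hx1 (fun y hyq hya hyx => by
    have hy' : y ∈ adj D a := FischerM22.adj_of_not_commute hax hyq.1 hya hyx
    have := hyx.map (MulAut.conj z).toMonoidHom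
    simp only [MulEquiv.coe_toMonoidHom, MulAut.conj_apply] at this
    rwa [conj_fix (hadj y hy')] at this) with h | h | h
  · exact absurd (show Commute a x by
      have e : x = a := by
        calc x = z⁻¹ * (z * x * z⁻¹) * z := by group
          _ = z⁻¹ * (a * z) := by rw [h, mul_assoc]
          _ = a := by rw [← hza.eq, inv_mul_cancel_left]
      rw [e]) hax
  · exact Or.inl (fix z hza hadj (show z * x = x * z by
      conv_rhs => rw [← h]
      group))
  · refine Or.inr ?_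
    have h1 := fix (a * z) ((Commute.refl a).mul_left hza) (fun y hy => hy.2.2.mul_left (hadj y hy))
      (show a * z * x = x * (a * z) by
        calc a * z * x = a * (z * x * z⁻¹) * z := by group
          _ = x * (a * z) := by rw [h]; simp only [mul_assoc, mul_self_cancel hD ha])
    rw [eq_inv_of_mul_eq_one_right h1, inv_eq hD ha]

theorem mem_center_loc {a : G} (S : Fi24Setup D) (ha : a ∈ D) {z : ↥(Loc D a)}
    (hz : z ∈ Subgroup.center ↥(Loc D a)) : (z : G) = 1 ∨ (z : G) = a :=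
  eq_one_or_self S ha (commute_of_mem_Loc z.2) fun y hy =>
    (commute_coe_iff.1 (show Commute (⟨y, Subgroup.subset_closure hy⟩ : Loc D a) z from
      Subgroup.mem_center_iff.1 hz _)).symm

/-- Common neighbours separate common neighbours. -/
theorem adjSeparated (S : Fi24Setup D) : AdjSeparated D := by
  intro a ha b hb c hc d hd hrel
  by_contra hne
  have hcd : Commute c d := ((hrel c hc).1 (Commute.refl c)).symm
  have hsub : adj D a ∩ adj D b ∩ adj D c ⊆ insert d (adj D a ∩ adj D b ∩ adj D c ∩ adj D d) := fun y hy => by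
    rcases eq_or_ne y d with e | e
    · exact Or.inl e
    · exact Or.inr ⟨hy, hy.1.1.1, e, (hrel y hy.1).1 hy.2.2.2⟩
  have h := (Set.ncard_le_ncard hsub (Set.toFinite _)).trans (Set.ncard_insert_le _ _)
  rw [triple_ncard S ha hb hc.1 hc.2.2.1.symm hc.2.2.2, quad_ncard S ha hb hc hd hne hcd] at h
  omega

/-- For an edge `a, b`, six common neighbours have product `b` or `b a`. -/
theorem six_cases (S : Fi24Setup D) {a b : G} (ha : a ∈ D) (hb : b ∈ adj D a) :
    ∃ L : List G, L.length = 6 ∧ (∀ y ∈ L, y ∈ adj D a ∩ adj D b) ∧ (L.prod = b ∨ L.prod = b * a) := by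
  obtain ⟨L, hlen, hmem, hprod⟩ := FischerM23.exists_six (S.localSetup ha) (qm_mem hb)
  have hlift : ∀ L : List (QL D a), (∀ q ∈ L, q ∈ adj (QSet D a) (qm D a b)) →
      ∃ L' : List G, L'.length = L.length ∧ (∀ y ∈ L', y ∈ adj D a ∩ adj D b) ∧
        L'.prod ∈ Loc D a ∧ qm D a L'.prod = L.prod := by
    intro L
    induction L with
    | nil => exact fun _ => ⟨[], rfl, by simp, by simp, by
        rw [List.prod_nil, qm_of_mem (one_mem _)]; exact map_one _⟩
    | cons q L ih =>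
      intro hq
      have h1 := hq q List.mem_cons_self
      rw [qm_adj S ha hb] at h1
      obtain ⟨y, hy, rfl⟩ := h1
      obtain ⟨L', l1, l2, l3, l4⟩ := ih fun z hz => hq z (List.mem_cons_of_mem _ hz)
      refine ⟨y :: L', by simp [l1], fun z hz => ?_, ?_, ?_⟩
      · rcases List.mem_cons.1 hz with rfl | hz
        exacts [hy, l2 z hz]
      · rw [List.prod_cons]; exact mul_mem (mem_loc_of_adj hy.1) l3
      · rw [List.prod_cons, qm_mul (mem_loc_of_adj hy.1) l3, l4, List.prod_cons]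
  obtain ⟨L', l1, l2, l3, l4⟩ := hlift L hmem
  refine ⟨L', l1.trans hlen, l2, ?_⟩
  rw [hprod, qm_of_mem l3, qm_of_mem (mem_loc_of_adj hb)] at l4
  rcases mem_center_loc S ha (QuotientGroup.eq.1 l4.symm) with h | h
  · exact Or.inl (inv_mul_eq_one.1 h).symm
  · exact Or.inr (inv_mul_eq_iff_eq_mul.1 h)

omit [Finite G] in
theorem loc_map (S : Fi24Setup D) (g a : G) :
    (Loc D a).map (MulAut.conj g).toMonoidHom = Loc D (g * a * g⁻¹) := by
  have h := MonoidHom.map_closure (MulAut.conj g).toMonoidHom (adj D a)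
  rw [Loc, h, Loc, adj_conj_image S.grp.2.1]
  rfl

theorem mem_loc_self (S : Fi24Setup D) {a : G} (ha : a ∈ D) : a ∈ Loc D a := by
  obtain ⟨b, hb⟩ := S.adj_nonempty ha
  obtain ⟨L, -, hmem, h | h⟩ := six_cases S ha hb
  · have hbb : b ∈ Loc D b := by
      have h0 : L.prod ∈ Loc D b := list_prod_mem fun y hy => mem_loc_of_adj (hmem y hy).2
      rwa [h] at h0
    obtain ⟨g, rfl⟩ := class_conj S.cls hb.1 ha
    rw [← loc_map S g b]
    exact ⟨b, hbb, rfl⟩
  · have h1 : b * a ∈ Loc D a := by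
      have h0 : L.prod ∈ Loc D a := list_prod_mem fun y hy => mem_loc_of_adj (hmem y hy).1
      rwa [h] at h0
    simpa using mul_mem (inv_mem (mem_loc_of_adj hb)) h1

theorem mem_center_loc_iff (S : Fi24Setup D) {a : G} (ha : a ∈ D) (z : ↥(Loc D a)) :
    z ∈ Subgroup.center ↥(Loc D a) ↔ (z : G) = 1 ∨ (z : G) = a := by
  refine ⟨mem_center_loc S ha, fun h => Subgroup.mem_center_iff.2 fun g => Subtype.ext ?_⟩
  rcases h with h | h <;> simp only [Subgroup.coe_mul, h, mul_one, one_mul]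
  exact (commute_of_mem_Loc g.2).eq

theorem center_loc (S : Fi24Setup D) {a : G} (ha : a ∈ D) :
    Subgroup.center ↥(Loc D a) = (Subgroup.zpowers a).subgroupOf (Loc D a) := by
  ext z
  rw [mem_center_loc_iff S ha, Subgroup.mem_subgroupOf]
  refine ⟨fun h => ?_, fun h => ?_⟩
  · rcases h with h | h <;> rw [h]
    exacts [one_mem _, Subgroup.mem_zpowers a]
  · obtain ⟨n, hn⟩ := Subgroup.mem_zpowers_iff.1 h
    rw [← hn]
    rcases Int.even_or_odd' n with ⟨k, rfl | rfl⟩
    · exact Or.inl (by rw [zpow_mul, zpow_two, mul_self S.cls.1 ha, one_zpow])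
    · exact Or.inr (by rw [zpow_add, zpow_mul, zpow_two, mul_self S.cls.1 ha, one_zpow, one_mul, zpow_one])

theorem card_center_loc (S : Fi24Setup D) {a : G} (ha : a ∈ D) :
    Nat.card ↥(Subgroup.center ↥(Loc D a)) = 2 := by
  rw [center_loc S ha, Nat.card_congr (Subgroup.subgroupOfEquivOfLe
    (Subgroup.zpowers_le.2 (mem_loc_self S ha))).toEquiv, Nat.card_zpowers, S.cls.1.1 a ha]

/-- The order of the local group. -/
theorem loc_card (S : Fi24Setup D) {a : G} (ha : a ∈ D) : Nat.card ↥(Loc D a) = 8178940946586009600 := by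
  rw [Subgroup.card_eq_card_quotient_mul_card_subgroup (Subgroup.center ↥(Loc D a)), card_center_loc S ha,
    FischerM23.group_card (S.localSetup ha)]

/-! ### stabilisers and transitivity inside the local group -/

/-- An element of the local quotient centralising `y` comes from the common neighbours of `a, y`. -/
theorem exists_lift_centralizer (S : Fi24Setup D) {a y : G} (ha : a ∈ D) (hy : y ∈ adj D a)
    {q : QL D a} (hq : Commute q (qm D a y)) : ∃ t ∈ Subgroup.closure (adj D a ∩ adj D y), qm D a t = q := by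
  have hS := S.localSetup ha
  have h1 : q ∈ Loc (QSet D a) (qm D a y) := by
    rw [← FischerM23.centralizer_eq_loc hS (qm_mem hy)]
    exact Subgroup.mem_centralizer_singleton_iff.2 hq
  let T := Subgroup.closure (adj D a ∩ adj D y)
  have hT : T ≤ Loc D a := Subgroup.closure_mono Set.inter_subset_left
  have h2 : Loc (QSet D a) (qm D a y) ≤ (T.subgroupOf (Loc D a)).map (toQ ↥(Loc D a)) := by
    refine (Subgroup.closure_le _).2 ?_
    rw [qm_adj S ha hy]
    rintro _ ⟨z, hz, rfl⟩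
    exact ⟨⟨z, mem_loc_of_adj hz.1⟩, (Subgroup.subset_closure hz : z ∈ T), (qm_of_mem _).symm⟩
  obtain ⟨t, ht, rfl⟩ := h2 h1
  exact ⟨t, ht, qm_coe t⟩

/-- An element of `Loc a` commuting with `y ∈ adj a` is a product of common neighbours, and possibly `a`. -/
theorem stab_edge_exists (S : Fi24Setup D) {a y h : G} (ha : a ∈ D) (hy : y ∈ adj D a)
    (hh : h ∈ Loc D a) (hc : Commute h y) :
    ∃ t ∈ Subgroup.closure (adj D a ∩ adj D y), h = t ∨ h = t * a := by
  obtain ⟨t, ht, e⟩ := exists_lift_centralizer S ha hy (q := qm D a h) (by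
    rw [qm_of_mem hh, qm_of_mem (mem_loc_of_adj hy)]
    exact Commute.map (show Commute (⟨h, hh⟩ : ↥(Loc D a)) ⟨y, _⟩ from Subtype.ext hc) _)
  have htl := (commute_of_mem_closure_common ht).1
  rw [qm_of_mem htl, qm_of_mem hh] at e
  rcases mem_center_loc S ha (QuotientGroup.eq.1 e) with h1 | h1
  · exact ⟨t, ht, Or.inl (inv_mul_eq_one.1 h1).symm⟩
  · exact ⟨t, ht, Or.inr (inv_mul_eq_iff_eq_mul.1 h1)⟩

/-- An element of `Loc a` commuting with a neighbour `y` lies in `Loc y`. -/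
theorem stab_edge (S : Fi24Setup D) {a y h : G} (ha : a ∈ D) (hy : y ∈ adj D a)
    (hh : h ∈ Loc D a) (hc : Commute h y) : h ∈ Loc D y := by
  obtain ⟨t, ht, rfl | rfl⟩ := stab_edge_exists S ha hy hh hc
  · exact (commute_of_mem_closure_common ht).2.1
  · exact mul_mem (commute_of_mem_closure_common ht).2.1 (mem_loc_of_adj (FischerM22.adj_symm ha hy))

omit [Finite G] in
theorem conj_mem_adj_loc (S : Fi24Setup D) {a h y : G} (hh : h ∈ Loc D a) (hy : y ∈ adj D a) :
    h * y * h⁻¹ ∈ adj D a := by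
  have := (adj_conj_image S.grp.2.1 h a).symm.subset ⟨y, hy, rfl⟩
  rwa [show h * a * h⁻¹ = a by rw [(commute_of_mem_Loc hh).eq, mul_inv_cancel_right]] at this

theorem conj_eq_of_qm (S : Fi24Setup D) {a g x y : G} (ha : a ∈ D) (hg : g ∈ Loc D a)
    (hx : x ∈ adj D a) (hy : y ∈ adj D a)
    (h : qm D a g * qm D a x * (qm D a g)⁻¹ = qm D a y) : g * x * g⁻¹ = y :=
  qm_inj S ha (conj_mem_adj_loc S hg hx) hy (by rw [qm_conj hg (mem_loc_of_adj hx), h])

/-- `Loc y` moves a neighbour to another one, fixing a third commuting with both. -/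
theorem exists_transport (S : Fi24Setup D) {y x x' y' : G} (hy : y ∈ D) (hx : x ∈ adj D y)
    (hx' : x' ∈ adj D y) (hy' : y' ∈ adj D y) (hxy : Commute x y') (hx'y : Commute x' y')
    (hne : x ≠ y') (hne' : x' ≠ y') : ∃ r ∈ Loc D y, Commute r y' ∧ r * x * r⁻¹ = x' := by
  have hS := S.localSetup hy
  obtain ⟨q, hq, hqe⟩ := loc_transitive hS.cls hS.two_members hS.cores (qm_mem hy')
    (qm_mem_adj S hy hy' hx hne hxy.symm) (qm_mem_adj S hy hy' hx' hne' hx'y.symm)
  obtain ⟨t, ht, rfl⟩ := exists_lift_centralizer S hy hy' (commute_of_mem_Loc hq)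
  obtain ⟨t1, -, t3⟩ := commute_of_mem_closure_common ht
  exact ⟨t, t1, t3, conj_eq_of_qm S hy t1 hx hx' hqe⟩

theorem lift_pair (S : Fi24Setup D) {a x x' y y' : G} (ha : a ∈ D) (hx : x ∈ adj D a)
    (hx' : x' ∈ adj D a) (hy : y ∈ adj D a) (hy' : y' ∈ adj D a) {q : QL D a}
    (h1 : q * qm D a x * q⁻¹ = qm D a y) (h2 : q * qm D a x' * q⁻¹ = qm D a y') :
    ∃ h ∈ Loc D a, h * x * h⁻¹ = y ∧ h * x' * h⁻¹ = y' := by
  obtain ⟨h, rfl⟩ := QuotientGroup.mk'_surjective _ q
  rw [← qm_coe h] at h1 h2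
  exact ⟨h, h.2, conj_eq_of_qm S ha h.2 hx hy h1, conj_eq_of_qm S ha h.2 hx' hy' h2⟩

/-- Transitivity of the local group on ordered commuting pairs of neighbours. -/
theorem trans_commuting (S : Fi24Setup D) {a x x' y y' : G} (ha : a ∈ D)
    (hx : x ∈ adj D a) (hx' : x' ∈ adj D a) (hxne : x ≠ x') (hxx : Commute x x')
    (hy : y ∈ adj D a) (hy' : y' ∈ adj D a) (hyne : y ≠ y') (hyy : Commute y y') :
    ∃ h ∈ Loc D a, h * x * h⁻¹ = y ∧ h * x' * h⁻¹ = y' := by
  have hS := S.localSetup ha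
  obtain ⟨g, hg⟩ := class_conj hS.cls (qm_mem hx) (qm_mem hy)
  have h1 : g * qm D a x' * g⁻¹ ∈ adj (QSet D a) (qm D a y) := by
    rw [← hg, adj_conj_image hS.grp.2.1]
    exact ⟨_, qm_mem_adj S ha hx hx' hxne.symm hxx, rfl⟩
  obtain ⟨k, hk, hke⟩ := loc_transitive hS.cls hS.two_members hS.cores (qm_mem hy) h1
    (qm_mem_adj S ha hy hy' hyne.symm hyy)
  refine lift_pair S ha hx hx' hy hy' (q := k * g) ?_ ?_
  · rw [show k * g * qm D a x * (k * g)⁻¹ = k * (g * qm D a x * g⁻¹) * k⁻¹ by group, hg,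
      FischerM22.conj_eq_self_of_loc hk]
  · rw [← hke]; group

/-- Transitivity of the local group on ordered non-commuting pairs of neighbours. -/
theorem trans_noncommuting (S : Fi24Setup D) {a x x' y y' : G} (ha : a ∈ D)
    (hx : x ∈ adj D a) (hx' : x' ∈ adj D a) (hxx : ¬ Commute x x')
    (hy : y ∈ adj D a) (hy' : y' ∈ adj D a) (hyy : ¬ Commute y y') :
    ∃ h ∈ Loc D a, h * x * h⁻¹ = y ∧ h * x' * h⁻¹ = y' := by
  have hS := S.localSetup ha
  obtain ⟨g, hg⟩ := class_conj hS.cls (qm_mem hx) (qm_mem hy)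
  have hn : ¬ Commute (qm D a y) (g * qm D a x' * g⁻¹) := by
    rw [← hg]
    intro h
    refine hxx ((qm_comm S ha hx hx').1 ?_)
    exact Commute.of_map (f := (MulAut.conj g).toMonoidHom) (MulAut.conj g).injective h
  obtain ⟨k, hk, hke⟩ := FischerM23.centralizer_transitive hS (qm_mem hy) (hS.conj_mem g (qm_mem hx'))
    (qm_mem hy') hn fun h => hyy ((qm_comm S ha hy hy').1 h)
  refine lift_pair S ha hx hx' hy hy' (q := k * g) ?_ ?_
  · rw [show k * g * qm D a x * (k * g)⁻¹ = k * (g * qm D a x * g⁻¹) * k⁻¹ by group, hg,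
      hk.eq, mul_inv_cancel_right]
  · rw [← hke]; group

end Cfsg.Agent.FischerM24
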