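/-
The common neighbours of two non-commuting members of a group of type M(24).

Main results (namespace `Cfsg.Agent.FischerM24`):
* `centralizer_transitive`, `common_ncard_eq` : the number of common neighbours is constant;
* `common_deg` : each common neighbour commutes with 351 others;
* `closed_bound`, `closed_min` : a part closed under commuting has at least 576 members, and with `K` at most 3240;
* `witness` : for one pair the common neighbours fall into three parts;
* `common_min`, `exists_common_commute`.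
-/
import Cfsg.Agent.Lib.FischerM24.Local
import Cfsg.Agent.S0293
import Cfsg.Agent.S0296

set_option autoImplicit false

namespace Cfsg.Agent.FischerM24

open Cfsg.Agent.ThreeTrans Cfsg.Agent.ThreeTransSU
open Cfsg.Agent.FischerM22 (adj_symm adj_comm sum_card_filter sum_card_filter_sq)

variable {G : Type*} [Group G] {D : Set G}

variable [Finite G]

theorem trivialRadical (S : Fi24Setup D) : Cfsg.Agent.ThreeTransRank.TrivialRadical G :=
  trivialRadical_of_center S.grp S.cores S.type24.1

/-- The centraliser of `a` is transitive on the members not commuting with `a`. -/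
theorem centralizer_transitive (S : Fi24Setup D) {a y y' : G} (ha : a ∈ D) (hy : y ∈ D) (hy' : y' ∈ D)
    (h : ¬ Commute a y) (h' : ¬ Commute a y') : ∃ g, Commute g a ∧ g * y * g⁻¹ = y' :=
  noncommuting_transitive (trivialRadical S) S.cls S.conn ha hy hy' h h'

theorem common_nonempty (S : Fi24Setup D) {a e : G} (ha : a ∈ D) (he : e ∈ D) (hae : ¬ Commute a e) :
    (common D a e).Nonempty := by
  by_contra hemp
  have hreach : ∀ x, Relation.ReflTransGen (fun u v => u ∈ D ∧ v ∈ D ∧ Commute u v) a x →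
      x ∈ D ∧ Commute a x := by
    intro x hx
    induction hx with
    | refl => exact ⟨ha, Commute.refl a⟩
    | @tail u v _ huv ih =>
      refine ⟨huv.2.1, ?_⟩
      by_contra hav
      refine hemp ?_
      have hne : u ≠ a := fun e' => hav (e' ▸ huv.2.2)
      have hmem : u ∈ common D a v :=
        ⟨⟨huv.1, hne, ih.2⟩, huv.1, fun e' => hav (e' ▸ ih.2), huv.2.2.symm⟩
      obtain ⟨g, hga, hg⟩ := centralizer_transitive S ha huv.2.1 he hav hae
      rw [← hg, common_conj S.grp.2.1 hga]
      exact ⟨_, u, hmem, rfl⟩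
  exact hae (hreach e (S.conn a ha e he)).2

/-- Each common neighbour commutes with 351 others. -/
theorem common_deg (S : Fi24Setup D) {a e q : G} (ha : a ∈ D) (he : e ∈ D) (hae : ¬ Commute a e)
    (hq : q ∈ common D a e) : (common D a e ∩ adj D q).ncard = 351 := by
  rw [← far_triple_ncard S hq.1.1 (adj_symm ha hq.1) (adj_symm he hq.2) hae]
  congr 1
  unfold common
  ext z
  simp only [Set.mem_inter_iff]
  tauto

/-- The number of common neighbours of a non-commuting pair is constant. -/
theorem common_ncard_eq (S : Fi24Setup D) {a e d c : G} (ha : a ∈ D) (he : e ∈ D) (hae : ¬ Commute a e)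
    (hd : d ∈ D) (hc : c ∈ D) (hdc : ¬ Commute d c) : (common D a e).ncard = (common D d c).ncard := by
  obtain ⟨g, rfl⟩ := class_conj S.cls hd ha
  have hc' := S.conj_mem g hc
  have hn : ¬ Commute (g * d * g⁻¹) (g * c * g⁻¹) := fun h' =>
    hdc (Commute.of_map (f := (MulAut.conj g).toMonoidHom) (MulAut.conj g).injective h')
  obtain ⟨k, hk, hke⟩ := centralizer_transitive S ha hc' he hn hae
  rw [ncard_common S.grp.2.1 ⟨k, hk, hke⟩, common, adj_conj_image S.grp.2.1 g d, adj_conj_image S.grp.2.1 g c,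
    ← Set.image_inter (fun u v h => mul_left_cancel (mul_right_cancel h)),
    Set.ncard_image_of_injective _ (fun u v h => mul_left_cancel (mul_right_cancel h))]
  rfl

/-- The basic inequality for a part of the common neighbours closed under commuting. -/
theorem closed_bound (S : Fi24Setup D) {a e : G} (ha : a ∈ D) (he : e ∈ D) (hae : ¬ Commute a e)
    {C : Set G} (hC : C ⊆ common D a e) (hne : C.Nonempty)
    (hcl : ∀ q ∈ C, ∀ r ∈ common D a e, Commute q r → r ∈ C)
    (K : Set G) (hK : K ⊆ adj D a) (hK0 : ∀ p ∈ K, ∀ q ∈ C, ¬ Commute p q) :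
    C.ncard + K.ncard ≤ 3240 := by
  classical
  have := Fintype.ofFinite G
  set A : Finset G := (adj D a).toFinset with hA
  set c : Finset G := C.toFinset with hc
  set R : G → G → Prop := fun p q => q ∈ adj D p with hR
  have hAc : A.card = 31671 := by rw [hA, ← Set.ncard_eq_toFinset_card']; exact adj_ncard S ha
  have hcA : c ⊆ A := fun x hx => by
    simp only [hc, hA, Set.mem_toFinset] at hx ⊢
    exact (hC hx).1
  have hcn : c.card = C.ncard := by rw [hc, ← Set.ncard_eq_toFinset_card']
  -- the neighbours inside C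
  have hin : ∀ p ∈ c, (c.filter (R p)).card = 351 := by
    intro p hp
    simp only [hc, Set.mem_toFinset] at hp
    rw [← Set.ncard_coe_finset, ← common_deg S ha he hae (hC hp)]
    congr 1
    ext r
    simp only [hc, hR, Finset.coe_filter, Set.mem_toFinset, Set.mem_ofPred_eq, Set.mem_inter_iff]
    exact ⟨fun h => ⟨hC h.1, h.2⟩, fun h => ⟨hcl p hp r h.1 h.2.2.2, h.2⟩⟩
  have h180 : ∀ q ∈ c, (A.filter fun p => R p q).card = 3510 := by
    intro q hq
    simp only [hc, Set.mem_toFinset] at hq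
    rw [← Set.ncard_coe_finset, ← common_ncard S ha (hC hq).1]
    congr 1
    ext p
    simp only [hA, hR, Finset.coe_filter, Set.mem_toFinset, Set.mem_ofPred_eq, Set.mem_inter_iff]
    exact and_congr_right fun hp => adj_comm hp.1 (hC hq).1.1
  have htot : ∑ p ∈ A, (c.filter (R p)).card = 3510 * c.card := by
    rw [sum_card_filter, Finset.sum_congr rfl h180, Finset.sum_const, smul_eq_mul, mul_comm]
  have hpair : ∀ q ∈ c, ∀ r ∈ c, (A.filter fun p => R p q ∧ R p r).card
      = if r = q then 3510 else if R q r then 693 else 351 := by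
    intro q hq r hr
    by_cases h1 : r = q
    · subst h1
      rw [if_pos rfl, ← h180 r hr]
      congr 1
      exact Finset.filter_congr fun p _ => and_self_iff
    rw [if_neg h1]
    simp only [hc, Set.mem_toFinset] at hq hr
    have hset : (↑(A.filter fun p => R p q ∧ R p r) : Set G) = adj D a ∩ adj D q ∩ adj D r := by
      ext p
      simp only [hA, hR, Finset.coe_filter, Set.mem_toFinset, Set.mem_ofPred_eq, Set.mem_inter_iff]
      refine ⟨fun h => ⟨⟨h.1, (adj_comm h.1.1 (hC hq).1.1).1 h.2.1⟩, (adj_comm h.1.1 (hC hr).1.1).1 h.2.2⟩,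
        fun h => ⟨h.1.1, (adj_comm h.1.1.1 (hC hq).1.1).2 h.1.2, (adj_comm h.1.1.1 (hC hr).1.1).2 h.2⟩⟩
    by_cases h2 : R q r
    · rw [if_pos h2, ← Set.ncard_coe_finset, hset]
      exact triple_ncard S ha (hC hq).1 (hC hr).1 (fun h => h1 h.symm) h2.2.2
    · rw [if_neg h2, ← Set.ncard_coe_finset, hset]
      exact far_triple_ncard S ha (hC hq).1 (hC hr).1 fun h => h2 ⟨(hC hr).1.1, h1, h⟩
  have hsq : (∑ p ∈ A, (c.filter (R p)).card ^ 2 : ℕ) = c.card * (123201 + 351 * c.card) := by
    rw [sum_card_filter_sq, Finset.sum_congr rfl fun q hq => Finset.sum_congr rfl (hpair q hq)]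
    refine (Finset.sum_const_nat fun q hq => ?_)
    have h351 := hin q hq
    have e1 : ∀ r ∈ c, (if r = q then 3510 else if R q r then 693 else 351 : ℕ)
        = 351 + (if r = q then 3159 else 0) + (if R q r then 342 else 0) := by
      intro r _
      by_cases h : r = q
      · subst h
        rw [if_pos rfl, if_pos rfl, if_neg (fun h' : R r r => h'.2.1 rfl)]
      · by_cases h' : R q r <;> simp [h, h']
    rw [Finset.sum_congr rfl e1, Finset.sum_add_distrib, Finset.sum_add_distrib, Finset.sum_const,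
      Finset.sum_ite_eq' c q, if_pos hq, ← Finset.sum_filter, Finset.sum_const, h351]
    simp only [smul_eq_mul]
    ring
  have hc1 : ∑ p ∈ c, (c.filter (R p)).card = 351 * c.card := by
    rw [Finset.sum_congr rfl hin, Finset.sum_const, smul_eq_mul, mul_comm]
  have hc2 : ∑ p ∈ c, (c.filter (R p)).card ^ 2 = 123201 * c.card := by
    rw [Finset.sum_congr rfl fun p hp => by rw [hin p hp], Finset.sum_const, smul_eq_mul, mul_comm]; rfl
  -- the others
  set k : Finset G := K.toFinset with hk
  have hkc : k ⊆ A \ c := fun p hp => by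
    simp only [hk, Set.mem_toFinset] at hp
    simp only [hA, hc, Finset.mem_sdiff, Set.mem_toFinset]
    exact ⟨hK hp, fun h => hK0 p hp p h (Commute.refl p)⟩
  have hk0 : ∀ p ∈ k, (c.filter (R p)).card = 0 := fun p hp => by
    simp only [hk, Set.mem_toFinset] at hp
    rw [Finset.card_eq_zero, Finset.filter_eq_empty_iff]
    intro q hq h
    simp only [hc, Set.mem_toFinset] at hq
    exact hK0 p hp q hq h.2.2
  set B := (A \ c) \ k with hB
  have hB1 : ∑ p ∈ B, (c.filter (R p)).card + 351 * c.card = 3510 * c.card := by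
    rw [← htot, ← Finset.sum_sdiff hcA, hc1, ← Finset.sum_sdiff hkc, Finset.sum_eq_zero hk0, add_zero]
  have hB2 : (∑ p ∈ B, (c.filter (R p)).card ^ 2) + 123201 * c.card = c.card * (123201 + 351 * c.card) := by
    rw [← hsq, ← Finset.sum_sdiff hcA, hc2, ← Finset.sum_sdiff hkc,
      Finset.sum_eq_zero (s := k) (fun p hp => by rw [hk0 p hp]; rfl), add_zero]
  have hBc : B.card + k.card + c.card = 31671 := by
    rw [← hAc, ← Finset.card_sdiff_add_card_eq_card hcA, ← Finset.card_sdiff_add_card_eq_card hkc]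
  have hcs : (∑ p ∈ B, (c.filter (R p)).card) ^ 2 ≤ B.card * ∑ p ∈ B, (c.filter (R p)).card ^ 2 :=
    sq_sum_le_card_mul_sum_sq
  have hkn : k.card = K.ncard := by rw [hk, ← Set.ncard_eq_toFinset_card']
  have hpos : 0 < c.card := by rw [hcn]; exact (Set.ncard_pos (Set.toFinite _)).2 hne
  rw [← hcn, ← hkn]
  generalize ∑ p ∈ B, (c.filter (R p)).card = s1 at hB1 hcs
  generalize ∑ p ∈ B, (c.filter (R p)).card ^ 2 = s2 at hB2 hcs
  zify at hcs hB1 hB2 hBc hpos ⊢
  generalize (c.card : ℤ) = n at *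
  generalize (B.card : ℤ) = m at *
  have h1 : (s1 : ℤ) = 3159 * n := by linarith
  have h2 : (s2 : ℤ) = 351 * n * n := by linarith
  rw [h1, h2] at hcs
  have h3 : (9979281 : ℤ) * (n * n) ≤ 351 * m * (n * n) := by linarith
  have h4 := le_of_mul_le_mul_right h3 (mul_pos hpos hpos)
  linarith

/-- A nonempty part closed under commuting has at least 576 members. -/
theorem closed_min (S : Fi24Setup D) {a e : G} (ha : a ∈ D) (he : e ∈ D) (hae : ¬ Commute a e)
    {C : Set G} (hC : C ⊆ common D a e) (hne : C.Nonempty)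
    (hcl : ∀ q ∈ C, ∀ r ∈ common D a e, Commute q r → r ∈ C) : 576 ≤ C.ncard := by
  classical
  have := Fintype.ofFinite G
  obtain ⟨q, hq⟩ := hne
  set N : Finset G := (common D a e ∩ adj D q).toFinset with hN
  set O : Finset G := (C \ insert q (common D a e ∩ adj D q)).toFinset with hO
  have hNc : N.card = 351 := by rw [hN, ← Set.ncard_eq_toFinset_card']; exact common_deg S ha he hae (hC hq)
  have hNC : common D a e ∩ adj D q ⊆ C := fun r hr => hcl q hq r hr.1 hr.2.2.2
  have h1 : ∀ r ∈ N, (O.filter fun w => w ∈ adj D r).card = 224 := by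
    intro r hr
    rw [hN, Set.mem_toFinset] at hr
    have hrC := hNC hr
    have hqr : q ∈ adj D r := adj_symm (hC hq).1.1 hr.2
    have e1 : (common D a e ∩ adj D r) \ insert q (common D a e ∩ adj D q ∩ adj D r)
        = ↑(O.filter fun w => w ∈ adj D r) := by
      ext w
      simp only [hO, Finset.coe_filter, Set.mem_toFinset, Set.mem_sdiff, Set.mem_insert_iff,
        Set.mem_inter_iff, Set.mem_ofPred_eq]
      constructor
      · rintro ⟨⟨h1, h2⟩, h3⟩
        exact ⟨⟨hcl r hrC w h1 h2.2.2, fun h => h3 (h.imp id fun h => ⟨h, h2⟩)⟩, h2⟩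
      · rintro ⟨⟨h1, h3⟩, h2⟩
        exact ⟨⟨hC h1, h2⟩, fun h => h3 (h.imp id fun h => h.1)⟩
    have e2 : (common D a e ∩ adj D q ∩ adj D r).ncard = 126 := by
      rw [← far_quad_ncard S (hC hq).1.1 hr.2 ⟨adj_symm ha (hC hq).1, adj_symm ha hr.1.1⟩
        ⟨adj_symm he (hC hq).2, adj_symm he hr.1.2⟩ hae]
      congr 1
      unfold common
      ext z
      simp only [Set.mem_inter_iff]
      tauto
    have e3 : insert q (common D a e ∩ adj D q ∩ adj D r) ⊆ common D a e ∩ adj D r :=
      Set.insert_subset ⟨hC hq, hqr⟩ fun z hz => ⟨hz.1.1, hz.2⟩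
    rw [← Set.ncard_coe_finset, ← e1, Set.ncard_sdiff e3, Set.ncard_insert_of_notMem (fun h => h.1.2.2.1 rfl), e2,
      common_deg S ha he hae (hC hrC)]
  have h2 : ∀ w ∈ O, (N.filter fun r => w ∈ adj D r).card ≤ 351 := fun w hw => by
    rw [hO, Set.mem_toFinset] at hw
    rw [← Set.ncard_coe_finset, ← common_deg S ha he hae (hC hw.1)]
    refine Set.ncard_le_ncard (fun r hr => ?_)
    simp only [hN, Finset.coe_filter, Set.mem_toFinset, Set.mem_inter_iff, Set.mem_ofPred_eq] at hr
    exact ⟨hr.1.1, adj_symm hr.1.2.1 hr.2⟩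
  have h := sum_card_filter N O fun r w => w ∈ adj D r
  rw [Finset.sum_congr rfl h1, Finset.sum_const, smul_eq_mul, hNc] at h
  have h3 := (Finset.sum_le_sum h2).trans_eq (by rw [Finset.sum_const, smul_eq_mul])
  rw [← h, hO, ← Set.ncard_eq_toFinset_card', Set.ncard_sdiff (Set.insert_subset hq hNC),
    Set.ncard_insert_of_notMem (fun h => h.2.2.1 rfl), common_deg S ha he hae (hC hq)] at h3
  omega

theorem pomega_card : Nat.card (Cfsg.POmega (ZMod 3) (Cfsg.quadFormPlus 4 (ZMod 3))) = 4952179814400 := by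
  have : Fact (Nat.Prime 3) := ⟨Nat.prime_three⟩
  have h := S0293.result (F := ZMod 3) (ZMod.card 3) 4 le_rfl
  simp [Finset.prod_range_succ] at h
  omega

theorem perm_three_commute : ∀ u v : Equiv.Perm (Fin 3),
    u * u = 1 ∧ v * v = 1 ∧ u ≠ 1 ∧ v ≠ 1 ∧ u * v = v * u → u = v := by decide

theorem perm_three_conj : ∀ u v : Equiv.Perm (Fin 3),
    u * u = 1 ∧ v * v = 1 ∧ u ≠ 1 ∧ v ≠ 1 → ∃ g, g * u * g⁻¹ = v := by decide

/-- For one pair, the common neighbours map onto the transpositions of a symmetric group of degree three. -/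
theorem witness_of_extension (S : Fi24Setup D) {d c : G} (hd : d ∈ D) (hc : c ∈ D) (hdc : ¬ Commute d c)
    {L : Subgroup G} (hL : L = Subgroup.closure (common D d c))
    (N : Subgroup (↥L ⧸ Subgroup.center ↥L)) (hNn : N.Normal)
    (eN : ↥N ≃* Cfsg.POmega (ZMod 3) (Cfsg.quadFormPlus 4 (ZMod 3)))
    (e3 : (↥L ⧸ Subgroup.center ↥L) ⧸ N ≃* Equiv.Perm (Fin 3)) :
    29713078886400 ∣ Nat.card ↥L ∧
    ∃ f : ↥L →* Equiv.Perm (Fin 3), Function.Surjective f ∧
      ∀ x : ↥L, (x : G) ∈ common D d c → f x ≠ 1 := by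
  have : Fact (Nat.Prime 3) := ⟨Nat.prime_three⟩
  refine ⟨?_, ?_⟩
  · refine dvd_trans (dvd_of_eq ?_) (Subgroup.card_quotient_dvd_card (Subgroup.center ↥L))
    rw [Subgroup.card_eq_card_quotient_mul_card_subgroup N, Nat.card_congr e3.toEquiv,
      Nat.card_congr eN.toEquiv, pomega_card, Nat.card_eq_fintype_card, Fintype.card_perm, Fintype.card_fin]
    rfl
  set π := toQ ↥L with hπ
  let f : ↥L →* Equiv.Perm (Fin 3) := e3.toMonoidHom.comp ((QuotientGroup.mk' N).comp π)
  have hf : Function.Surjective f :=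
    e3.surjective.comp ((QuotientGroup.mk'_surjective N).comp (QuotientGroup.mk'_surjective _))
  refine ⟨f, hf, ?_⟩
  set X : Set ↥L := {x | (x : G) ∈ common D d c} with hX
  have hXs : Cfsg.IsThreeTranspositionSet X := ⟨fun x hx => by
      rw [← Subgroup.orderOf_coe]; exact S.cls.1.1 _ hx.1.1, fun x hx y hy => by
      rcases S.cls.1.2 _ hx.1.1 _ hy.1.1 with h | h
      exacts [Or.inl (Subtype.ext h), Or.inr (Subtype.ext h)]⟩
  have hgen : Subgroup.closure X = ⊤ := by
    subst hL; exact Subgroup.closure_closure_coe_preimage (k := common D d c)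
  have hmemL : ∀ {y}, y ∈ common D d c → y ∈ L := fun h => hL ▸ Subgroup.subset_closure h
  have hLd : ∀ g : ↥L, Commute (g : G) d ∧ Commute (g : G) c := fun g =>
    ⟨commute_of_mem_Loc (Subgroup.closure_mono Set.inter_subset_left (hL.le g.2)),
      commute_of_mem_Loc (Subgroup.closure_mono Set.inter_subset_right (hL.le g.2))⟩
  have hXconj : ∀ g : ↥L, ∀ x ∈ X, g * x * g⁻¹ ∈ X := fun g x hx => by
    have h1 := common_conj S.grp.2.1 (y := c) (hLd g).1
    rw [show (g : G) * c * (g : G)⁻¹ = c by rw [(hLd g).2.eq, mul_inv_cancel_right]] at h1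
    show ((g * x * g⁻¹ : ↥L) : G) ∈ common D d c
    rw [h1]; exact ⟨x, hx, rfl⟩
  have hfconj : ∀ x ∈ X, ∀ y ∈ X, ¬ Commute x y → (f x = 1 ↔ f y = 1) := fun x hx y hy hn => by
    have b : x * y * x = y * x * y := braid hXs hx hy hn
    have e : f x * f y * f x = f y * f x * f y := by rw [← map_mul, ← map_mul, b, map_mul, map_mul]
    constructor <;> intro h <;> rw [h] at e <;> simp only [one_mul, mul_one] at e
    · have h2 : f y * f y = 1 := by rw [← map_mul, mul_self hXs hy, map_one]
      rw [h2] at e; exact e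
    · have h2 : f x * f x = 1 := by rw [← map_mul, mul_self hXs hx, map_one]
      rw [h2] at e; exact e.symm
  intro w hw hw1
  change w ∈ X at hw
  -- a member not commuting with a given one
  have hmin : 576 ≤ (common D d c).ncard :=
    closed_min S hd hc hdc subset_rfl ⟨w, hw⟩ fun _ _ _ hr _ => hr
  have hfar : ∀ x ∈ X, ∃ y ∈ X, ¬ Commute x y := by
    intro x hx
    by_contra hcon
    have hsub : common D d c ⊆ insert (x : G) (common D d c ∩ adj D (x : G)) := fun y hy => by
      by_cases h : y = x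
      · exact Or.inl h
      · refine Or.inr ⟨hy, hy.1.1, h, ?_⟩
        by_contra hn
        exact hcon ⟨⟨y, hmemL hy⟩, hy, fun h => hn (commute_coe_iff.1 h)⟩
    have h3 := (Set.ncard_le_ncard hsub (Set.toFinite _)).trans (Set.ncard_insert_le _ _)
    rw [common_deg S hd hc hdc hx] at h3
    omega
  obtain ⟨u, hu, hu1⟩ : ∃ u ∈ X, f u ≠ 1 := by
    by_contra hcon
    simp only [not_exists, not_and, not_not] at hcon
    have hk : Subgroup.closure X ≤ f.ker := (Subgroup.closure_le _).2 hcon
    rw [hgen] at hk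
    obtain ⟨g, hg⟩ := hf (Equiv.swap 0 1)
    have h0 : Equiv.swap (0 : Fin 3) 1 = 1 := hg ▸ hk (Subgroup.mem_top g)
    exact absurd h0 (by decide)
  set W : Set G := Subtype.val '' {x | x ∈ X ∧ f x = 1} with hW
  set U : Set G := Subtype.val '' {x | x ∈ X ∧ f x ≠ 1} with hU
  have hcross : ∀ x ∈ X, ∀ y ∈ X, f x = 1 → f y ≠ 1 → Commute x y := fun x hx y hy h1 h2 => by
    by_contra hn
    exact h2 ((hfconj x hx y hy hn).1 h1)
  have hWle : W.ncard ≤ 351 := by
    rw [← common_deg S hd hc hdc hu]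
    refine Set.ncard_le_ncard ?_
    rintro _ ⟨x, ⟨hx, hx1⟩, rfl⟩
    exact ⟨hx, hx.1.1, fun e => hu1 (by rw [← show x = u from Subtype.ext e]; exact hx1),
      commute_coe_iff.1 (hcross x hx u hu hx1 hu1).symm⟩
  have hUW : common D d c ⊆ W ∪ U := fun y hy => by
    by_cases h : f ⟨y, hmemL hy⟩ = 1
    · exact Or.inl ⟨_, ⟨hy, h⟩, rfl⟩
    · exact Or.inr ⟨_, ⟨hy, h⟩, rfl⟩
  have hsum := (Set.ncard_le_ncard hUW (Set.toFinite _)).trans (Set.ncard_union_le _ _)
  -- the normal subgroup generated by the members in the kernel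
  set L₀ := Subgroup.closure {x | x ∈ X ∧ f x = 1} with hL0
  have hL0n : L₀.Normal := ⟨fun n hn g => by
    have h1 : n ∈ L₀.comap (MulAut.conj g).toMonoidHom := by
      refine (Subgroup.closure_le _).2 (fun x hx => ?_) hn
      refine Subgroup.subset_closure ⟨hXconj g x hx.1, ?_⟩
      show f (g * x * g⁻¹) = 1
      rw [map_mul, map_mul, hx.2, mul_one, map_inv, mul_inv_cancel]
    exact h1⟩
  have hkerN : ∀ x, f x = 1 → π x ∈ N := fun x hx =>
    (QuotientGroup.eq_one_iff _).1 (e3.map_eq_one_iff.1 hx)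
  set A := L₀.map π with hA
  have hAn : A.Normal := hL0n.map _ (QuotientGroup.mk'_surjective _)
  have hAN : A ≤ N := by
    rw [hA, Subgroup.map_le_iff_le_comap, hL0, Subgroup.closure_le]
    exact fun x hx => hkerN x hx.2
  obtain ⟨w', hw', hww⟩ := hfar w hw
  have hw'1 : f w' = 1 := by
    by_contra h
    exact hww (hcross w hw w' hw' hw1 h)
  have hnc : ¬ Commute (π w) (π w') := by
    intro h
    have h3 := pow_three_of_not_commute hXs hw hw' hww
    have hsq : π ((w * w') ^ 2) = 1 := by
      rw [map_pow, map_mul, h.mul_pow, ← map_pow, ← map_pow, pow_two, pow_two, mul_self hXs hw,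
        mul_self hXs hw', map_one, mul_one]
    have hxy : w * w' ∈ Subgroup.center ↥L := by
      have e : w * w' = (w * w') ^ 3 * ((w * w') ^ 2)⁻¹ := by group
      rw [e, h3, one_mul]
      exact inv_mem ((QuotientGroup.eq_one_iff _).1 hsq)
    exact hww ((eq_of_mul_mem_center hXs hw hw' hw' hww hxy) ▸ Commute.refl w)
  have hAm : ∀ x ∈ X, f x = 1 → π x ∈ A := fun x hx h => ⟨x, Subgroup.subset_closure ⟨hx, h⟩, rfl⟩
  have hsN : IsSimpleGroup ↥N := by
    have := S0296.result (F := ZMod 3) 4 le_rfl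
    exact eN.isSimpleGroup
  have hNA : N ≤ A := by
    have hn : (A.subgroupOf N).Normal := hAn.subgroupOf N
    rcases hsN.eq_bot_or_eq_top_of_normal _ hn with h | h
    · exfalso
      refine hnc ?_
      have : ∀ x ∈ X, f x = 1 → π x = 1 := fun x hx h1 => by
        have h2 : (⟨π x, hAN (hAm x hx h1)⟩ : ↥N) ∈ A.subgroupOf N := hAm x hx h1
        rw [h, Subgroup.mem_bot] at h2
        exact congrArg Subtype.val h2
      rw [this w hw hw1]; exact Commute.one_left _
    · intro n hn'
      have h2 : (⟨n, hn'⟩ : ↥N) ∈ A.subgroupOf N := h ▸ Subgroup.mem_top _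
      exact h2
  have hcentN : ∀ x ∈ X, f x ≠ 1 → ∀ n ∈ N, Commute (π x) n := by
    intro x hx h1 n hn
    obtain ⟨l, hl, rfl⟩ := hNA hn
    refine Commute.map ?_ π
    clear hn
    induction hl using Subgroup.closure_induction with
    | mem y hy => exact (hcross y hy.1 x hx hy.2 h1).symm
    | one => exact Commute.one_right _
    | mul p q _ _ hp hq => exact hp.mul_right hq
    | inv p _ hp => exact hp.inv_right
  have hinjU : Set.InjOn f {x | x ∈ X ∧ f x ≠ 1} := by
    rintro x ⟨hx, hx1⟩ y ⟨hy, hy1⟩ hxy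
    have hmem : (π x)⁻¹ * π y ∈ N := by
      have h : f (x⁻¹ * y) = 1 := by rw [map_mul, map_inv, hxy, inv_mul_cancel]
      have h' := hkerN _ h
      rwa [map_mul, map_inv] at h'
    have hz : (⟨_, hmem⟩ : ↥N) ∈ Subgroup.center ↥N := Subgroup.mem_center_iff.2 fun n => Subtype.ext
      ((hcentN x hx hx1 n n.2).inv_left.mul_left (hcentN y hy hy1 n n.2)).symm.eq
    have hZ : Subgroup.center ↥N = ⊥ := by
      refine (hsN.eq_bot_or_eq_top_of_normal _ inferInstance).resolve_right fun h => hnc ?_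
      have hm : (⟨π w, hAN (hAm w hw hw1)⟩ : ↥N) ∈ Subgroup.center ↥N := h ▸ Subgroup.mem_top _
      exact (congrArg Subtype.val
        (Subgroup.mem_center_iff.1 hm ⟨π w', hAN (hAm w' hw' hw'1)⟩)).symm
    rw [hZ, Subgroup.mem_bot] at hz
    have e : π x = π y := inv_mul_eq_one.1 (congrArg Subtype.val hz)
    obtain ⟨z, hz', hxz⟩ := hfar x hx
    exact eq_of_mul_mem_center hXs hx hy hz' hxz ((toQ_eq_iff hXs hx).1 e)
  have hUle : U.ncard ≤ 6 := by
    rw [hU, Set.ncard_image_of_injective _ Subtype.val_injective, ← hinjU.ncard_image]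
    refine (Set.ncard_le_card _).trans ?_
    rw [Nat.card_eq_fintype_card, Fintype.card_perm, Fintype.card_fin]; rfl
  omega

theorem witness (S : Fi24Setup D) : ∃ d ∈ D, ∃ c ∈ D, ¬ Commute d c ∧
    29713078886400 ∣ Nat.card ↥(Subgroup.closure (common D d c)) ∧
    ∃ f : ↥(Subgroup.closure (common D d c)) →* Equiv.Perm (Fin 3), Function.Surjective f ∧
      ∀ x : ↥(Subgroup.closure (common D d c)), (x : G) ∈ common D d c → f x ≠ 1 := by
  obtain ⟨-, d, hd, c, hc, hdc, -, N, hN, ⟨eN⟩, ⟨e3⟩⟩ := S.type24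
  exact ⟨d, hd, c, hc, hdc, witness_of_extension S hd hc hdc (L := Subgroup.closure (common D d c)) rfl N hN eN e3⟩

/-- A non-commuting pair has at least 1728 common neighbours. -/
theorem common_min (S : Fi24Setup D) {a e : G} (ha : a ∈ D) (he : e ∈ D) (hae : ¬ Commute a e) :
    1728 ≤ (common D a e).ncard := by
  obtain ⟨d, hd, c, hc, hdc, -, f, hf, hne⟩ := witness S
  rw [common_ncard_eq S ha he hae hd hc hdc]
  have hsq : ∀ x : ↥(Subgroup.closure (common D d c)), (x : G) ∈ common D d c → f x * f x = 1 :=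
    fun x hx => by rw [← map_mul, show x * x = 1 from Subtype.ext (mul_self S.cls.1 hx.1.1), map_one]
  set F : Equiv.Perm (Fin 3) → Set G := fun t =>
    {x | ∃ h : x ∈ common D d c, f ⟨x, Subgroup.subset_closure h⟩ = t} with hF
  have hcl : ∀ t, ∀ q ∈ F t, ∀ r ∈ common D d c, Commute q r → r ∈ F t := by
    rintro t q ⟨hq, rfl⟩ r hr hqr
    refine ⟨hr, (perm_three_commute _ _ ⟨hsq _ hq, hsq _ hr, hne _ hq, hne _ hr, ?_⟩).symm⟩
    rw [← map_mul, ← map_mul]
    exact congrArg f (Subtype.ext hqr.eq)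
  obtain ⟨x₀, hx₀⟩ := common_nonempty S hd hc hdc
  have hall : ∀ t : Equiv.Perm (Fin 3), t * t = 1 → t ≠ 1 → 576 ≤ (F t).ncard := by
    intro t ht ht1
    refine closed_min S hd hc hdc (fun x hx => hx.1) ?_ (hcl t)
    obtain ⟨g, hg⟩ := perm_three_conj _ t ⟨hsq ⟨x₀, Subgroup.subset_closure hx₀⟩ hx₀, ht, hne _ hx₀, ht1⟩
    obtain ⟨l, rfl⟩ := hf g
    have hld : Commute (l : G) d := commute_of_mem_Loc (Subgroup.closure_mono Set.inter_subset_left l.2)
    have hlc : Commute (l : G) c := commute_of_mem_Loc (Subgroup.closure_mono Set.inter_subset_right l.2)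
    have h1 := common_conj S.grp.2.1 (y := c) hld
    rw [show (l : G) * c * (l : G)⁻¹ = c by rw [hlc.eq, mul_inv_cancel_right]] at h1
    have hm : (l : G) * x₀ * (l : G)⁻¹ ∈ common D d c := h1.symm.subset ⟨x₀, hx₀, rfl⟩
    refine ⟨(l : G) * x₀ * (l : G)⁻¹, hm, ?_⟩
    rw [← hg, ← map_inv, ← map_mul, ← map_mul]
    rfl
  have hdisj : ∀ s t, s ≠ t → Disjoint (F s) (F t) := fun s t hst =>
    Set.disjoint_left.2 fun x hx hx' => hst (hx.2.symm.trans hx'.2)
  have h1 := hall (Equiv.swap 0 1) (by decide) (by decide)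
  have h2 := hall (Equiv.swap 0 2) (by decide) (by decide)
  have h3 := hall (Equiv.swap 1 2) (by decide) (by decide)
  have hsub : F (Equiv.swap 0 1) ∪ F (Equiv.swap 0 2) ∪ F (Equiv.swap 1 2) ⊆ common D d c := by
    rintro x ((h | h) | h) <;> exact h.1
  have h4 := Set.ncard_le_ncard hsub (Set.toFinite _)
  rw [Set.ncard_union_eq (Set.disjoint_union_left.2 ⟨hdisj _ _ (by decide), hdisj _ _ (by decide)⟩)
      (Set.toFinite _) (Set.toFinite _),
    Set.ncard_union_eq (hdisj _ _ (by decide)) (Set.toFinite _) (Set.toFinite _)] at h4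
  omega

/-- Every neighbour of `a` commutes with a common neighbour of `a` and `e`. -/
theorem exists_common_commute (S : Fi24Setup D) {a e p : G} (ha : a ∈ D) (he : e ∈ D)
    (hae : ¬ Commute a e) (hp : p ∈ adj D a) : ∃ y ∈ common D a e, Commute y p := by
  by_contra hc
  have hc' : ∀ y ∈ common D a e, ¬ Commute y p := fun y hy h => hc ⟨y, hy, h⟩
  have hp0 : p ∉ common D a e := fun h => hc' p h (Commute.refl p)
  set K := (fun q => q * p * q) '' common D a e with hKdef
  have hD := S.cls.1
  have hinj : Set.InjOn (fun q => q * p * q) (common D a e) := by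
    intro q hq r hr h
    simp only [braid hD hq.1.1 hp.1 (hc' q hq), braid hD hr.1.1 hp.1 (hc' r hr)] at h
    exact mul_left_cancel (mul_right_cancel h)
  have hkey : ∀ q ∈ common D a e, q * p * q ∈ adj D a ∧ ∀ r ∈ common D a e, ¬ Commute (q * p * q) r := by
    intro q hq
    refine ⟨⟨Cfsg.Agent.ThreeTrans.conj_mem hD S.grp.2.1 hq.1.1 hp.1, fun h => hp.2.1 ?_,
      (hq.1.2.2.mul_right hp.2.2).mul_right hq.1.2.2⟩, fun r hr h => ?_⟩
    · calc p = q * (q * p * q) * q := by
            simp only [mul_assoc, mul_self_cancel hD hq.1.1, mul_self hD hq.1.1, mul_one]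
        _ = a := by rw [h]; exact conj_conj_of_commute hD hq.1.1 hq.1.2.2.symm
    · have hmem : q * r * q⁻¹ ∈ common D a e := by
        have h1 := common_conj S.grp.2.1 (y := e) (hq.1.2.2.symm : Commute q a)
        rw [show q * e * q⁻¹ = e by rw [← hq.2.2.2.eq, mul_inv_cancel_right]] at h1
        rw [h1]; exact ⟨r, hr, rfl⟩
      refine hc' _ hmem ?_
      have h1 := (h.map (MulAut.conj q).toMonoidHom).symm
      simp only [MulEquiv.coe_toMonoidHom, MulAut.conj_apply] at h1
      rwa [show q * (q * p * q) * q⁻¹ = p by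
        rw [inv_eq hD hq.1.1]
        simp only [mul_assoc, mul_self_cancel hD hq.1.1, mul_self hD hq.1.1, mul_one]] at h1
  have h := closed_bound S ha he hae subset_rfl (common_nonempty S ha he hae)
    (fun _ _ _ hr _ => hr) K (by rintro _ ⟨q, hq, rfl⟩; exact (hkey q hq).1)
    (by rintro _ ⟨q, hq, rfl⟩ r hr; exact (hkey q hq).2 r hr)
  rw [hKdef, Set.InjOn.ncard_image hinj] at h
  have := common_min S ha he hae
  omega

end Cfsg.Agent.FischerM24
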