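/-
The centraliser of a member of a group of type M(24).

Main results (namespace `Cfsg.Agent.FischerM24`):
* `mono_of_setup` : the local data for monodromy;
* `centralizer_eq_loc` : the centraliser of a member is its local group.
-/
import Cfsg.Agent.Lib.FischerM24.Graph
import Cfsg.Agent.Lib.FischerM24.Mono

set_option autoImplicit false

namespace Cfsg.Agent.FischerM24

open Cfsg.Agent.ThreeTrans Cfsg.Agent.ThreeTransSU

variable {G : Type*} [Group G] [Finite G] {D : Set G}

theorem mono_of_setup (S : Fi24Setup D) : Mono D where
  set := S.cls.1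
  conj := S.grp.2.1
  self_loc _ ha := mem_loc_self S ha
  edge _ ha _ hy _ hh hc := stab_edge S ha hy hh hc
  transport _ hy _ hx _ hx' _ hy' h1 h2 h3 h4 := exists_transport S hy hx hx' hy' h1 h2 h3 h4
  pair x hx x' hx' := by
    rw [← Set.ncard_pos (Set.toFinite _), common_ncard S hx hx']; norm_num
  triple a ha x hx y hy hne hc := by
    rw [← Set.ncard_pos (Set.toFinite _), triple_ncard S ha hx hy hne hc]; norm_num
  quad x hx x' hx' y hy y' hy' hyy := by
    rw [← Set.ncard_pos (Set.toFinite _), far_quad_ncard S hx hx' hy hy' hyy]; norm_num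
  deg a ha x hx hax b hb := by
    rw [← Set.ncard_pos (Set.toFinite _), common_deg S ha hx hax hb]; norm_num
  far _ ha _ hx h := common_nonempty S ha hx h
  far_commute _ ha _ he h _ hp := exists_common_commute S ha he h hp

/-- The centraliser of a member is generated by its neighbours. -/
theorem centralizer_eq_loc (S : Fi24Setup D) {a : G} (ha : a ∈ D) :
    Subgroup.centralizer ({a} : Set G) = Loc D a := by
  refine le_antisymm (fun g hg => ?_) fun g hg => ?_
  · exact (mono_of_setup S).mem_loc_of_commute ha (S.cls.2.2 ▸ Subgroup.mem_top g)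
      (Subgroup.mem_centralizer_singleton_iff.1 hg)
  · exact Subgroup.mem_centralizer_singleton_iff.2 (commute_of_mem_Loc hg)

end Cfsg.Agent.FischerM24
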