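/-
The order of a group of type M(24), the index of its component and the width.

Main results (namespace `Cfsg.Agent.FischerM24`):
* `common_card` : two non-commuting members have 3240 common neighbours;
* `class_ncard`, `group_card` : `|D| = 306936`, `|G| = 2510411418381323442585600`;
* `layer_index_le`; `width_eq` : the width is 24.
-/
import Cfsg.Agent.Lib.FischerM24.Monodromy

set_option autoImplicit false

namespace Cfsg.Agent.FischerM24

open Cfsg.Agent.ThreeTrans Cfsg.Agent.ThreeTransSU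
open Cfsg.Agent.FischerM22 (adj_symm adj_comm sum_card_filter card_orbit_mul card_centralizer_mul_class)
open Cfsg.Agent.FischerM23 (qm qm_mem qset_eq)

variable {G : Type*} [Group G] [Finite G] {D : Set G}

/-- The non-neighbours of `x` among the neighbours of `a`. -/
theorem far_card (S : Fi24Setup D) {a x : G} (ha : a ∈ D) (hx : x ∈ adj D a) :
    {y | y ∈ adj D a ∧ ¬ Commute x y}.ncard = 28160 := by
  have e : {y | y ∈ adj D a ∧ ¬ Commute x y} = adj D a \ insert x (adj D a ∩ adj D x) := by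
    ext y
    simp only [Set.mem_ofPred_eq, Set.mem_sdiff, Set.mem_insert_iff, Set.mem_inter_iff]
    refine ⟨fun h => ⟨h.1, ?_⟩, fun h => ⟨h.1, fun hc => h.2 ?_⟩⟩
    · rintro (rfl | h')
      exacts [h.2 (Commute.refl _), h.2 h'.2.2.2]
    · by_cases e : y = x
      · exact Or.inl e
      · exact Or.inr ⟨h.1, h.1.1, e, hc⟩
  rw [e, Set.ncard_sdiff (Set.insert_subset hx Set.inter_subset_left),
    Set.ncard_insert_of_notMem fun h => h.2.2.1 rfl, adj_ncard S ha, common_ncard S ha hx]

theorem pairs_card (S : Fi24Setup D) {q : G} (hq : q ∈ D) :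
    {p : G × G | p.1 ∈ adj D q ∧ p.2 ∈ adj D q ∧ ¬ Commute p.1 p.2}.ncard = 891855360 := by
  classical
  have := Fintype.ofFinite G
  have e : {p : G × G | p.1 ∈ adj D q ∧ p.2 ∈ adj D q ∧ ¬ Commute p.1 p.2}
      = ↑(((adj D q).toFinset ×ˢ (adj D q).toFinset).filter fun p => ¬ Commute p.1 p.2) := by
    ext p; simp [and_assoc]
  have hf : ∀ x ∈ (adj D q).toFinset,
      ((adj D q).toFinset.filter fun y => ¬ Commute x y).card = 28160 := fun x hx => by
    rw [← Set.ncard_coe_finset, ← far_card S hq (Set.mem_toFinset.1 hx)]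
    congr 1
    ext y; simp
  rw [e, Set.ncard_coe_finset, Finset.card_filter, Finset.sum_product]
  simp only [← Finset.card_filter]
  rw [Finset.sum_congr rfl hf, Finset.sum_const, ← Set.ncard_eq_toFinset_card', adj_ncard S hq]
  rfl

/-- The stabiliser in the local group of `q` of two non-commuting neighbours. -/
theorem two_point_stab (S : Fi24Setup D) {q d c : G} (hq : q ∈ D) (hd : d ∈ adj D q) (hc : c ∈ adj D q)
    (hdc : ¬ Commute d c) :
    Nat.card ↥(Loc D q ⊓ Subgroup.centralizer {d} ⊓ Subgroup.centralizer {c}) = 9170703360 := by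
  have h := card_orbit_mul (Loc D q) d c
  have e : {p : G × G | ∃ h ∈ Loc D q, h * d * h⁻¹ = p.1 ∧ h * c * h⁻¹ = p.2}
      = {p : G × G | p.1 ∈ adj D q ∧ p.2 ∈ adj D q ∧ ¬ Commute p.1 p.2} := by
    ext ⟨u, w⟩
    constructor
    · rintro ⟨h, hh, rfl, rfl⟩
      refine ⟨conj_mem_adj_loc S hh hd, conj_mem_adj_loc S hh hc, fun hcom => hdc ?_⟩
      exact Commute.of_map (f := (MulAut.conj h).toMonoidHom) (MulAut.conj h).injective hcom
    · rintro ⟨hu, hw, hn⟩
      exact trans_noncommuting S hq hd hc hdc hu hw hn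
  rw [e, pairs_card S hq, loc_card S hq] at h
  omega

/-- The double count between neighbours and non-neighbours. -/
theorem far_mul_common (S : Fi24Setup D) {a e : G} (ha : a ∈ D) (he : e ∈ D) (hae : ¬ Commute a e) :
    {y | y ∈ D ∧ ¬ Commute a y}.ncard * (common D a e).ncard = 891855360 := by
  classical
  have := Fintype.ofFinite G
  set A : Finset G := (adj D a).toFinset with hA
  set B : Finset G := {y | y ∈ D ∧ ¬ Commute a y}.toFinset with hB
  have h1 : ∀ x ∈ A, (B.filter fun y => y ∈ adj D x).card = 28160 := fun x hx => by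
    have hx' : x ∈ adj D a := Set.mem_toFinset.1 hx
    rw [← Set.ncard_coe_finset, ← far_card S hx'.1 (adj_symm ha hx')]
    congr 1
    ext y
    simp only [hB, Finset.coe_filter, Set.mem_toFinset, Set.mem_ofPred_eq]
    exact ⟨fun h => ⟨h.2, h.1.2⟩, fun h => ⟨⟨h.1.1, h.2⟩, h.1⟩⟩
  have h2 : ∀ y ∈ B, (A.filter fun x => y ∈ adj D x).card = (common D a e).ncard := fun y hy => by
    obtain ⟨hyD, hay⟩ := Set.mem_toFinset.1 hy
    obtain ⟨g, hga, hg⟩ := centralizer_transitive S ha he hyD hae hay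
    rw [← ncard_common S.grp.2.1 ⟨g, hga, hg⟩, ← Set.ncard_coe_finset]
    congr 1
    ext x
    simp only [hA, Finset.coe_filter, Set.mem_toFinset, Set.mem_ofPred_eq]
    exact and_congr_right fun hx => adj_comm hx.1 hyD
  have h := sum_card_filter A B fun x y => y ∈ adj D x
  rw [Finset.sum_congr rfl h1, Finset.sum_congr rfl h2, Finset.sum_const, Finset.sum_const,
    smul_eq_mul, smul_eq_mul, hA, ← Set.ncard_eq_toFinset_card', adj_ncard S ha, hB,
    ← Set.ncard_eq_toFinset_card'] at h
  exact h.symm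

/-- The group generated by the common neighbours moves `q` to every common neighbour. -/
theorem common_orbit (S : Fi24Setup D) {d c : G} (hd : d ∈ D) (hc : c ∈ D) (hdc : ¬ Commute d c) {q : G}
    (hq : q ∈ common D d c) :
    ∀ r ∈ common D d c, ∃ g ∈ Subgroup.closure (common D d c), g * q * g⁻¹ = r := by
  have hD := S.cls.1
  intro x' hx'
  by_cases hqx : Commute q x'
  swap
  · refine ⟨q * x', mul_mem (Subgroup.subset_closure hq) (Subgroup.subset_closure hx'), ?_⟩
    calc q * x' * q * (q * x')⁻¹ = q * x' * q * (x'⁻¹ * q⁻¹) := by group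
      _ = x' := by
        rw [inv_eq hD hx'.1.1, inv_eq hD hq.1.1, braid hD hq.1.1 hx'.1.1 hqx]
        simp only [mul_assoc, mul_self_cancel hD hx'.1.1, mul_self hD hq.1.1, mul_one]
  obtain ⟨x, hx, g, hg, e⟩ : ∃ x ∈ common D d c, ∃ g ∈ Subgroup.closure (common D d c), g * q * g⁻¹ = x :=
    ⟨q, hq, 1, one_mem _, by simp⟩
  obtain ⟨z, hz, n1, n2⟩ : ∃ z ∈ common D d c, ¬ Commute z x ∧ ¬ Commute z x' := by
    by_contra hno
    have hsub : common D d c
        ⊆ insert x (common D d c ∩ adj D x) ∪ insert x' (common D d c ∩ adj D x') := by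
      intro z hz
      by_cases h1 : Commute z x
      · by_cases e : z = x
        · exact Or.inl (Or.inl e)
        · exact Or.inl (Or.inr ⟨hz, hz.1.1, e, h1.symm⟩)
      by_cases h2 : Commute z x'
      · by_cases e : z = x'
        · exact Or.inr (Or.inl e)
        · exact Or.inr (Or.inr ⟨hz, hz.1.1, e, h2.symm⟩)
      exact absurd ⟨z, hz, h1, h2⟩ hno
    have h3 := (Set.ncard_le_ncard hsub (Set.toFinite _)).trans
      ((Set.ncard_union_le _ _).trans (Nat.add_le_add (Set.ncard_insert_le _ _) (Set.ncard_insert_le _ _)))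
    rw [common_deg S hd hc hdc hx, common_deg S hd hc hdc hx'] at h3
    have := common_min S hd hc hdc
    omega
  have cl : ∀ {s}, s ∈ common D d c → s ∈ Subgroup.closure (common D d c) :=
    fun h => Subgroup.subset_closure h
  refine ⟨(z * x') * (x * z) * g,
    mul_mem (mul_mem (mul_mem (cl hz) (cl hx')) (mul_mem (cl hx) (cl hz))) hg, ?_⟩
  have b1 := braid hD hz.1.1 hx.1.1 n1
  have b2 := braid hD hz.1.1 hx'.1.1 n2
  calc z * x' * (x * z) * g * q * (z * x' * (x * z) * g)⁻¹
      = z * x' * (x * z) * (g * q * g⁻¹) * ((x * z)⁻¹ * (z * x')⁻¹) := by group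
    _ = z * x' * (x * (z * x * z) * x) * (x' * z) := by
        rw [e, mul_inv_rev, mul_inv_rev, inv_eq hD hz.1.1, inv_eq hD hx.1.1, inv_eq hD hx'.1.1]
        simp only [mul_assoc]
    _ = z * x' * z * (x' * z) := by
        rw [b1]; simp only [mul_assoc, mul_self_cancel hD hx.1.1, mul_self hD hx.1.1, mul_one]
    _ = z * (x' * z * x') * z := by simp only [mul_assoc]
    _ = x' := by
        rw [← b2]; simp only [mul_assoc, mul_self_cancel hD hz.1.1, mul_self hD hz.1.1, mul_one]

theorem closure_common_dvd (S : Fi24Setup D) {d c : G} (hd : d ∈ D) (hc : c ∈ D) (hdc : ¬ Commute d c) :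
    Nat.card ↥(Subgroup.closure (common D d c)) ∣ (common D d c).ncard * 9170703360 := by
  obtain ⟨q, hq⟩ := common_nonempty S hd hc hdc
  set L := Subgroup.closure (common D d c) with hL
  have hLd : L ≤ Subgroup.centralizer {d} :=
    (Subgroup.closure_le _).2 fun x hx => Subgroup.mem_centralizer_singleton_iff.2 hx.1.2.2.symm
  have hLc : L ≤ Subgroup.centralizer {c} :=
    (Subgroup.closure_le _).2 fun x hx => Subgroup.mem_centralizer_singleton_iff.2 hx.2.2.2.symm
  have h := card_orbit_mul L q q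
  have e : {p : G × G | ∃ h ∈ L, h * q * h⁻¹ = p.1 ∧ h * q * h⁻¹ = p.2}
      = (fun x : G => (x, x)) '' common D d c := by
    ext ⟨u, w⟩
    constructor
    · rintro ⟨g, hg, rfl, rfl⟩
      refine ⟨_, ?_, rfl⟩
      have hgd : Commute g d := Subgroup.mem_centralizer_singleton_iff.1 (hLd hg)
      have hgc : Commute g c := Subgroup.mem_centralizer_singleton_iff.1 (hLc hg)
      have h1 := common_conj S.grp.2.1 (y := c) hgd
      rw [show g * c * g⁻¹ = c by rw [hgc.eq, mul_inv_cancel_right]] at h1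
      rw [h1]; exact ⟨q, hq, rfl⟩
    · rintro ⟨x, hx, e'⟩
      obtain ⟨rfl, rfl⟩ := Prod.ext_iff.1 e'
      obtain ⟨g, hg, rfl⟩ := common_orbit S hd hc hdc hq x hx
      exact ⟨g, hg, rfl, rfl⟩
  rw [e, Set.ncard_image_of_injective _ fun x y h => congrArg Prod.fst h, inf_assoc, inf_idem] at h
  rw [h, ← two_point_stab S hq.1.1 (adj_symm hd hq.1) (adj_symm hc hq.2) hdc]
  refine mul_dvd_mul_left _ (Subgroup.card_dvd_of_le (le_inf (le_inf ?_ ?_) ?_))
  · rw [← centralizer_eq_loc S hq.1.1]; exact inf_le_right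
  · exact inf_le_left.trans hLd
  · exact inf_le_left.trans hLc

/-- Two non-commuting members have 3240 common neighbours. -/
theorem common_card (S : Fi24Setup D) {a e : G} (ha : a ∈ D) (he : e ∈ D) (hae : ¬ Commute a e) :
    (common D a e).ncard = 3240 := by
  obtain ⟨d, hd, c, hc, hdc, hdvd, -⟩ := witness S
  rw [common_ncard_eq S ha he hae hd hc hdc]
  have h1 := common_min S hd hc hdc
  have h2 := closed_bound S hd hc hdc subset_rfl (common_nonempty S hd hc hdc) (fun _ _ _ hr _ => hr) ∅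
    (Set.empty_subset _) (by simp)
  rw [Set.ncard_empty, add_zero] at h2
  obtain ⟨t, ht⟩ := hdvd.trans (closure_common_dvd S hd hc hdc)
  generalize (common D d c).ncard = s at ht h1 h2
  have h3240 : 3240 ∣ s := by
    refine (Nat.Coprime.dvd_of_dvd_mul_right (by decide +kernel : Nat.Coprime 3240 1) ?_)
    exact ⟨t, by omega⟩
  omega

theorem far_ncard (S : Fi24Setup D) {a : G} (ha : a ∈ D) : {y | y ∈ D ∧ ¬ Commute a y}.ncard = 275264 := by
  obtain ⟨e, he, hae⟩ := exists_not_commute S.cls S.two_members ha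
  have h := far_mul_common S ha he hae
  rw [common_card S ha he hae] at h
  omega

theorem class_ncard (S : Fi24Setup D) : D.ncard = 306936 := by
  obtain ⟨a, ha, -⟩ := S.two_members
  have e : D = insert a (adj D a ∪ {y | y ∈ D ∧ ¬ Commute a y}) := by
    ext y
    simp only [Set.mem_insert_iff, Set.mem_union, Set.mem_ofPred_eq]
    refine ⟨fun hy => ?_, ?_⟩
    · by_cases h1 : y = a
      · exact Or.inl h1
      by_cases h2 : Commute a y
      · exact Or.inr (Or.inl ⟨hy, h1, h2⟩)
      · exact Or.inr (Or.inr ⟨hy, h2⟩)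
    · rintro (rfl | h | h)
      exacts [ha, h.1, h.1]
  rw [e, Set.ncard_insert_of_notMem (by
      rintro (h | h)
      exacts [h.2.1 rfl, h.2 (Commute.refl a)]),
    Set.ncard_union_eq (Set.disjoint_left.2 fun y h h' => h'.2 h.2.2) (Set.toFinite _) (Set.toFinite _),
    adj_ncard S ha, far_ncard S ha]

theorem group_card (S : Fi24Setup D) : Nat.card G = 2510411418381323442585600 := by
  obtain ⟨a, ha, -⟩ := S.two_members
  rw [card_centralizer_mul_class S.cls ha, centralizer_eq_loc S ha, loc_card S ha, class_ncard S]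

/-- The layer has index at most two. -/
theorem layer_index_le (S : Fi24Setup D) : (Cfsg.layer G).index ≤ 2 := by
  obtain ⟨L, hL, hLn, he⟩ := exists_component S.cls S.two_members S.cores
  rw [he]
  exact index_le_two_of_connected S.cls S.two_members S.cores S.conn hL

/-- Pairwise commuting members are at most 24. -/
theorem commuting_le (S : Fi24Setup D) {E : Set G} (hE : E ⊆ D)
    (hc : ∀ a ∈ E, ∀ b ∈ E, Commute a b) : E.ncard ≤ 24 := by
  rcases E.eq_empty_or_nonempty with rfl | ⟨a, haE⟩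
  · simp
  have ha := hE haE
  have hsub : E \ {a} ⊆ adj D a := fun y hy => ⟨hE hy.1, hy.2, hc a haE y hy.1⟩
  have h1 := FischerM23.commuting_le (S.localSetup ha) (E := qm D a '' (E \ {a}))
    (by rintro _ ⟨y, hy, rfl⟩; exact qm_mem (hsub hy))
    (by rintro _ ⟨y, hy, rfl⟩ _ ⟨z, hz, rfl⟩; exact (qm_comm S ha (hsub hy) (hsub hz)).2 (hc y hy.1 z hz.1))
  rw [qm_ncard S ha hsub, Set.ncard_sdiff_singleton_of_mem haE] at h1
  omega

theorem exists_commuting (S : Fi24Setup D) :
    ∃ E : Set G, E ⊆ D ∧ E.Finite ∧ (∀ a ∈ E, ∀ b ∈ E, Commute a b) ∧ E.ncard = 24 := by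
  obtain ⟨a, ha, -⟩ := S.two_members
  obtain ⟨E', hE, -, hc, hn⟩ := FischerM23.exists_commuting (S.localSetup ha)
  rw [qset_eq] at hE
  set E := {y | y ∈ adj D a ∧ qm D a y ∈ E'} with hEdef
  have himg : qm D a '' E = E' := by
    refine Set.Subset.antisymm (by rintro _ ⟨y, hy, rfl⟩; exact hy.2) fun q hq => ?_
    obtain ⟨y, hy, rfl⟩ := hE hq
    exact ⟨y, ⟨hy, hq⟩, rfl⟩
  refine ⟨insert a E, ?_, Set.toFinite _, ?_, ?_⟩
  · rintro y (rfl | hy)
    exacts [ha, hy.1.1]
  · rintro x (rfl | hx) y (rfl | hy)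
    exacts [Commute.refl _, hy.1.2.2, hx.1.2.2.symm, (qm_comm S ha hx.1 hy.1).1 (hc _ hx.2 _ hy.2)]
  · rw [Set.ncard_insert_of_notMem (fun h => h.1.2.1 rfl), ← qm_ncard S ha (fun y hy => hy.1), himg, hn]

theorem width_eq (S : Fi24Setup D) : Cfsg.commutingWidth D = 24 := by
  refine le_antisymm ?_ (le_csSup ⟨24, ?_⟩ (exists_commuting S))
  · refine csSup_le ⟨24, exists_commuting S⟩ ?_
    rintro n ⟨E, hE, -, hc, rfl⟩
    exact commuting_le S hE hc
  · rintro n ⟨E, hE, -, hc, rfl⟩
    exact commuting_le S hE hc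

end Cfsg.Agent.FischerM24
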