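/-
The centraliser of an edge of a group of type M(24) over a group of type M(22), and the products of hexads.

Main results (namespace `Cfsg.Agent.FischerM24`):
* `edgeCent`, `edgeHom` : the centraliser of `b` in `Loc a` maps onto the local quotient of the local quotient;
* `five_eq` : five commuting members of `adj a ∩ adj b ∩ adj c` with product in `⟨a, b, c⟩` have product `a b c`;
* `six_eq`, `exists_six_triple`, `triple_gen` : six of them have product `a b`, so `a, b, c` lie in their closure.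
-/
import Cfsg.Agent.Lib.FischerM24.Total
import Cfsg.Agent.Lib.FischerM22.Unique

set_option autoImplicit false

namespace Cfsg.Agent.FischerM24

open Cfsg.Agent.ThreeTrans Cfsg.Agent.ThreeTransSU
open Cfsg.Agent.FischerM22 (adj_symm)
open Cfsg.Agent.FischerM23 (QL QSet qm qm_of_mem qm_coe mem_loc_of_adj qm_mul qset_eq qm_mem)

variable {G : Type*} [Group G] [Finite G] {D : Set G}

/-- The centraliser of `b` in the local group of `a`. -/
def edgeCent (D : Set G) (a b : G) : Subgroup G := Loc D a ⊓ Subgroup.centralizer ({b} : Set G)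

/-- The members commuting with `a, b, c`. -/
def triSet (D : Set G) (a b c : G) : Set G := adj D a ∩ adj D b ∩ adj D c

omit [Finite G] in
theorem triSet_swap (a b c : G) : triSet D b a c = triSet D a b c := by
  rw [triSet, triSet, Set.inter_comm (adj D b)]

omit [Finite G] in
theorem triSet_swap' (a b c : G) : triSet D a c b = triSet D a b c := by
  rw [triSet, triSet, Set.inter_right_comm]

omit [Finite G] in
theorem mem_edgeCent_of_mem {a b z : G} (hz : z ∈ adj D a ∩ adj D b) : z ∈ edgeCent D a b :=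
  ⟨mem_loc_of_adj hz.1, Subgroup.mem_centralizer_singleton_iff.2 hz.2.2.2.symm⟩

omit [Finite G] in
theorem edgeCent_commute {a b z : G} (hz : z ∈ edgeCent D a b) : Commute z a ∧ Commute z b :=
  ⟨commute_of_mem_Loc hz.1, Subgroup.mem_centralizer_singleton_iff.1 hz.2⟩

theorem self_mem_edgeCent (S : Fi24Setup D) {a b : G} (ha : a ∈ D) (hb : b ∈ adj D a) :
    a ∈ edgeCent D a b ∧ b ∈ edgeCent D a b :=
  ⟨⟨mem_loc_self S ha, Subgroup.mem_centralizer_singleton_iff.2 hb.2.2⟩,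
    ⟨mem_loc_of_adj hb, Subgroup.mem_centralizer_singleton_iff.2 (Commute.refl b)⟩⟩

theorem qm_edge_mem (S : Fi24Setup D) {a b z : G} (ha : a ∈ D) (hb : b ∈ adj D a) (hz : z ∈ edgeCent D a b) :
    qm D a z ∈ Loc (QSet D a) (qm D a b) := by
  rw [← FischerM23.centralizer_eq_loc (S.localSetup ha) (qm_mem hb), Subgroup.mem_centralizer_singleton_iff,
    qm_of_mem hz.1, qm_of_mem (mem_loc_of_adj hb)]
  exact Commute.map (show Commute (⟨z, hz.1⟩ : ↥(Loc D a)) ⟨b, _⟩ from Subtype.ext (edgeCent_commute hz).2) _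

/-- The map of the centraliser of the edge onto the double local quotient. -/
noncomputable def edgeHom (S : Fi24Setup D) {a b : G} (ha : a ∈ D) (hb : b ∈ adj D a) :
    ↥(edgeCent D a b) →* QL (QSet D a) (qm D a b) where
  toFun z := toQ _ ⟨qm D a z, qm_edge_mem S ha hb z.2⟩
  map_one' := by
    refine (congrArg (toQ ↥(Loc (QSet D a) (qm D a b))) (Subtype.ext (a2 := (1 : ↥(Loc (QSet D a) (qm D a b)))) ?_)).trans (map_one _)
    show qm D a (1 : G) = 1
    exact (qm_of_mem (one_mem (Loc D a))).trans (map_one _)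
  map_mul' z w := by
    rw [← map_mul]
    exact congrArg _ (Subtype.ext (qm_mul z.2.1 w.2.1))

theorem edgeHom_eq (S : Fi24Setup D) {a b : G} (ha : a ∈ D) (hb : b ∈ adj D a) (z : ↥(edgeCent D a b)) :
    edgeHom S ha hb z = qm (QSet D a) (qm D a b) (qm D a z) :=
  (qm_of_mem (qm_edge_mem S ha hb z.2)).symm

theorem edge_qm_mem (S : Fi24Setup D) {a b z : G} (ha : a ∈ D) (hb : b ∈ adj D a) (hz : z ∈ adj D a ∩ adj D b) :
    qm D a z ∈ adj (QSet D a) (qm D a b) :=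
  qm_mem_adj S ha hb hz.1 hz.2.2.1 hz.2.2.2

theorem edgeHom_mem (S : Fi24Setup D) {a b : G} (ha : a ∈ D) (hb : b ∈ adj D a) {z : ↥(edgeCent D a b)}
    (hz : (z : G) ∈ adj D a ∩ adj D b) : edgeHom S ha hb z ∈ QSet (QSet D a) (qm D a b) := by
  rw [edgeHom_eq]
  exact qm_mem (edge_qm_mem S ha hb hz)

theorem edgeHom_exists (S : Fi24Setup D) {a b : G} (ha : a ∈ D) (hb : b ∈ adj D a)
    {q : QL (QSet D a) (qm D a b)} (hq : q ∈ QSet (QSet D a) (qm D a b)) :
    ∃ z : ↥(edgeCent D a b), (z : G) ∈ adj D a ∩ adj D b ∧ edgeHom S ha hb z = q := by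
  obtain ⟨p, hp, rfl⟩ := (qset_eq (D := QSet D a) (qm D a b)).subset hq
  rw [qm_adj S ha hb] at hp
  obtain ⟨y, hy, rfl⟩ := hp
  exact ⟨⟨y, mem_edgeCent_of_mem hy⟩, hy, edgeHom_eq S ha hb _⟩

theorem edgeHom_inj (S : Fi24Setup D) {a b : G} (ha : a ∈ D) (hb : b ∈ adj D a) {z w : ↥(edgeCent D a b)}
    (hz : (z : G) ∈ adj D a ∩ adj D b) (hw : (w : G) ∈ adj D a ∩ adj D b)
    (h : edgeHom S ha hb z = edgeHom S ha hb w) : z = w := by
  rw [edgeHom_eq, edgeHom_eq] at h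
  exact Subtype.ext (qm_inj S ha hz.1 hw.1 (FischerM23.qm_inj (S.localSetup ha) (qm_mem hb)
    (edge_qm_mem S ha hb hz) (edge_qm_mem S ha hb hw) h))

theorem edgeHom_comm (S : Fi24Setup D) {a b : G} (ha : a ∈ D) (hb : b ∈ adj D a) {z w : ↥(edgeCent D a b)}
    (hz : (z : G) ∈ adj D a ∩ adj D b) (hw : (w : G) ∈ adj D a ∩ adj D b) :
    Commute (edgeHom S ha hb z) (edgeHom S ha hb w) ↔ Commute (z : G) w := by
  rw [edgeHom_eq, edgeHom_eq,
    FischerM23.qm_comm (S.localSetup ha) (qm_mem hb) (edge_qm_mem S ha hb hz) (edge_qm_mem S ha hb hw),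
    qm_comm S ha hz.1 hw.1]

theorem edgeHom_surjective (S : Fi24Setup D) {a b : G} (ha : a ∈ D) (hb : b ∈ adj D a) :
    Function.Surjective (edgeHom S ha hb) := by
  intro q
  have hq : q ∈ Subgroup.closure (QSet (QSet D a) (qm D a b)) := by
    rw [((S.localSetup ha).localSetup (qm_mem hb)).cls.2.2]; exact Subgroup.mem_top q
  have hle : Subgroup.closure (QSet (QSet D a) (qm D a b)) ≤ (edgeHom S ha hb).range :=
    (Subgroup.closure_le _).2 fun p hp => by
      obtain ⟨z, -, e⟩ := edgeHom_exists S ha hb hp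
      exact ⟨z, e⟩
  exact hle hq

/-- The kernel of the map on the centraliser of the edge. -/
theorem edgeHom_ker (S : Fi24Setup D) {a b : G} (ha : a ∈ D) (hb : b ∈ adj D a) {z : ↥(edgeCent D a b)}
    (h : edgeHom S ha hb z = 1) : (z : G) = 1 ∨ (z : G) = a ∨ (z : G) = b ∨ (z : G) = a * b := by
  have hlb := mem_loc_of_adj (D := D) hb
  have lift : ∀ {w : G}, w ∈ Loc D a → qm D a (z : G) = qm D a w →
      (z : G) = w ∨ (z : G) = w * a := by
    intro w hw e
    rw [qm_of_mem z.2.1, qm_of_mem hw] at e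
    rcases mem_center_loc S ha (QuotientGroup.eq.1 e.symm) with h1 | h1
    · exact Or.inl (inv_mul_eq_one.1 h1).symm
    · exact Or.inr (inv_mul_eq_iff_eq_mul.1 h1)
  rcases FischerM23.mem_center_loc (S.localSetup ha) (qm_mem hb) ((QuotientGroup.eq_one_iff _).1 h) with h1 | h1
  · rcases lift (one_mem _) (h1.trans ((qm_of_mem (one_mem _)).trans (map_one _)).symm) with e | e
    · exact Or.inl e
    · exact Or.inr (Or.inl (e.trans (one_mul a)))
  · rcases lift hlb h1 with e | e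
    · exact Or.inr (Or.inr (Or.inl e))
    · exact Or.inr (Or.inr (Or.inr (e.trans hb.2.2.symm.eq)))

theorem qm_self (S : Fi24Setup D) {a : G} (ha : a ∈ D) : qm D a a = 1 := by
  rw [qm_of_mem (mem_loc_self S ha)]
  exact (QuotientGroup.eq_one_iff _).2 ((mem_center_loc_iff S ha _).2 (Or.inr rfl))

theorem edgeHom_self (S : Fi24Setup D) {a b : G} (ha : a ∈ D) (hb : b ∈ adj D a) :
    edgeHom S ha hb ⟨a, (self_mem_edgeCent S ha hb).1⟩ = 1 ∧
      edgeHom S ha hb ⟨b, (self_mem_edgeCent S ha hb).2⟩ = 1 := by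
  constructor <;> rw [edgeHom_eq]
  · rw [show qm D a ((⟨a, (self_mem_edgeCent S ha hb).1⟩ : ↥(edgeCent D a b)) : G) = 1 from qm_self S ha,
      qm_of_mem (one_mem _)]
    exact map_one _
  · have h := FischerM23.mem_loc_self (S.localSetup ha) (qm_mem hb)
    rw [qm_of_mem h]
    exact (QuotientGroup.eq_one_iff _).2
      ((FischerM23.mem_center_loc_iff (S.localSetup ha) (qm_mem hb) _).2 (Or.inr rfl))

/-! ### products -/

/-- Six pairwise commuting distinct members of a group of type M(23) do not multiply to one. -/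
theorem six_ne_one {H : Type*} [Group H] [Finite H] {E : Set H} (S : FischerM23.Fi23Setup E)
    {x₁ x₂ x₃ x₄ x₅ x₆ : H} (hnd : [x₁, x₂, x₃, x₄, x₅, x₆].Nodup)
    (hm : ∀ x ∈ [x₁, x₂, x₃, x₄, x₅, x₆], x ∈ E)
    (hc : ∀ x ∈ [x₁, x₂, x₃, x₄, x₅, x₆], ∀ y ∈ [x₁, x₂, x₃, x₄, x₅, x₆], Commute x y) :
    [x₁, x₂, x₃, x₄, x₅, x₆].prod ≠ 1 := by
  intro h
  simp only [List.nodup_cons, List.mem_cons, List.not_mem_nil, or_false, not_or, List.nodup_nil, and_true,
    not_false_eq_true] at hnd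
  obtain ⟨⟨n12, n13, n14, n15, n16⟩, ⟨n23, -, -, -⟩, -, ⟨n45, n46⟩, n56⟩ := hnd
  simp only [List.forall_mem_cons, List.not_mem_nil, false_implies, implies_true, and_true] at hm hc
  obtain ⟨m1, m2, m3, m4, m5, m6⟩ := hm
  obtain ⟨⟨-, c12, c13, c14, c15, c16⟩, ⟨-, -, c23, c24, c25, c26⟩, ⟨-, -, -, c34, c35, c36⟩,
    ⟨-, -, -, -, c45, c46⟩, ⟨-, -, -, -, -, c56⟩, -⟩ := hc
  have hD := S.cls.1
  have e : x₁ * x₂ * x₃ = x₄ * x₅ * x₆ := by
    simp only [List.prod_cons, List.prod_nil, mul_one] at h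
    have h1 : x₁ * x₂ * x₃ * (x₄ * x₅ * x₆) = 1 := by simpa only [mul_assoc] using h
    have h2 : (x₄ * x₅ * x₆) * (x₄ * x₅ * x₆) = 1 := by
      calc (x₄ * x₅ * x₆) * (x₄ * x₅ * x₆) = x₄ * x₅ * (x₆ * (x₄ * x₅)) * x₆ := by group
        _ = x₄ * x₅ * (x₄ * x₅) := by
            rw [(c46.symm.mul_right c56.symm).eq]; simp only [mul_assoc, mul_self hD m6, mul_one]
        _ = 1 := by
            rw [show x₄ * x₅ * (x₄ * x₅) = x₄ * (x₅ * x₄) * x₅ by group, c45.symm.eq]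
            simp only [mul_assoc, mul_self_cancel hD m4, mul_self hD m5]
    calc x₁ * x₂ * x₃ = x₁ * x₂ * x₃ * ((x₄ * x₅ * x₆) * (x₄ * x₅ * x₆)) := by rw [h2, mul_one]
      _ = x₄ * x₅ * x₆ := by rw [← mul_assoc, h1, one_mul]
  rcases triple_mem S.cls S.cores.1 (FischerM23.adjSeparated S) m1 m2 m3 m4 m5 m6 n12 n13 n23 n45 n46 n56
    c12 c13 c23 c45 c46 c56 e with h | h | h
  exacts [n14 h, n15 h, n16 h]

/-- A list in the centraliser of the edge. -/
theorem edge_list (S : Fi24Setup D) {a b : G} (ha : a ∈ D) (hb : b ∈ adj D a) {L : List G}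
    (hm : ∀ y ∈ L, y ∈ adj D a ∩ adj D b) :
    ∃ h : L.prod ∈ edgeCent D a b,
      qm D a L.prod = (L.map (qm D a)).prod ∧
      edgeHom S ha hb ⟨L.prod, h⟩ = (L.map fun y => qm (QSet D a) (qm D a b) (qm D a y)).prod := by
  induction L with
  | nil =>
    refine ⟨one_mem _, (qm_of_mem (one_mem _)).trans (map_one _), ?_⟩
    exact map_one _
  | cons y L ih =>
    obtain ⟨h, e1, e2⟩ := ih fun z hz => hm z (List.mem_cons_of_mem _ hz)
    have hy := mem_edgeCent_of_mem (hm y List.mem_cons_self)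
    have hp : (y :: L).prod ∈ edgeCent D a b := by rw [List.prod_cons]; exact mul_mem hy h
    refine ⟨hp, ?_, ?_⟩
    · rw [List.map_cons, List.prod_cons, List.prod_cons, qm_mul hy.1 h.1, e1]
    · refine (congrArg (edgeHom S ha hb) (show (⟨(y :: L).prod, hp⟩ : ↥(edgeCent D a b)) =
        ⟨y, hy⟩ * ⟨L.prod, h⟩ from Subtype.ext List.prod_cons)).trans ?_
      rw [map_mul, e2, List.map_cons, List.prod_cons, ← edgeHom_eq S ha hb ⟨y, hy⟩]

theorem five_aux (S : Fi24Setup D) {a b c : G} (ha : a ∈ D) (hb : b ∈ adj D a) (hc : c ∈ adj D a ∩ adj D b)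
    {x₁ x₂ x₃ x₄ x₅ : G} (hnd : [x₁, x₂, x₃, x₄, x₅].Nodup)
    (hm : ∀ y ∈ [x₁, x₂, x₃, x₄, x₅], y ∈ triSet D a b c)
    (hcm : ∀ x ∈ [x₁, x₂, x₃, x₄, x₅], ∀ y ∈ [x₁, x₂, x₃, x₄, x₅], Commute x y)
    (hP : ∀ f : ↥(edgeCent D a b), (f : G) = [x₁, x₂, x₃, x₄, x₅].prod →
      edgeHom S ha hb f = 1 ∨ edgeHom S ha hb f = edgeHom S ha hb ⟨c, mem_edgeCent_of_mem hc⟩) :
    [x₁, x₂, x₃, x₄, x₅].prod = b * c ∨ [x₁, x₂, x₃, x₄, x₅].prod = a * b * c := by
  have hS1 := S.localSetup ha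
  have hS2 := hS1.localSetup (qm_mem hb)
  obtain ⟨hY, e1, e2⟩ := edge_list S ha hb (L := [x₁, x₂, x₃, x₄, x₅]) fun y hy => (hm y hy).1
  set L := [x₁, x₂, x₃, x₄, x₅] with hL
  set f : G → QL (QSet D a) (qm D a b) := fun y => qm (QSet D a) (qm D a b) (qm D a y) with hf
  have finj : ∀ y ∈ L, ∀ z ∈ L, f y = f z → y = z := fun y hy z hz h =>
    congrArg Subtype.val (edgeHom_inj S ha hb (z := ⟨y, mem_edgeCent_of_mem (hm y hy).1⟩)
      (w := ⟨z, mem_edgeCent_of_mem (hm z hz).1⟩) (hm y hy).1 (hm z hz).1 (by rw [edgeHom_eq, edgeHom_eq]; exact h))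
  have fmem : ∀ y ∈ L, f y ∈ QSet (QSet D a) (qm D a b) := fun y hy => qm_mem (edge_qm_mem S ha hb (hm y hy).1)
  have fcomm : ∀ y ∈ L, ∀ z ∈ L, Commute (f y) (f z) := fun y hy z hz =>
    (FischerM23.qm_comm hS1 (qm_mem hb) (edge_qm_mem S ha hb (hm y hy).1) (edge_qm_mem S ha hb (hm z hz).1)).2
      ((qm_comm S ha (hm y hy).1.1 (hm z hz).1.1).2 (hcm y hy z hz))
  -- five members do not multiply to one
  have hne : edgeHom S ha hb ⟨L.prod, hY⟩ ≠ 1 := by
    rw [e2]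
    intro h
    have hnd3 : [x₁, x₂, x₃].Nodup := hnd.sublist (List.take_sublist 3 L)
    have hnd2 : [x₄, x₅].Nodup := hnd.sublist (List.drop_sublist 3 L)
    have sub3 : ∀ {y}, y ∈ [x₁, x₂, x₃] → y ∈ L := fun hy => List.mem_of_mem_take (i := 3) hy
    have sub2 : ∀ {y}, y ∈ [x₄, x₅] → y ∈ L := fun hy => List.mem_of_mem_drop (i := 3) hy
    have p3 : FischerM22.IsProd (QSet (QSet D a) (qm D a b)) 3 ([x₁, x₂, x₃].map f).prod :=
      ⟨_, List.Nodup.map_on (fun y hy z hz => finj y (sub3 hy) z (sub3 hz)) hnd3, rfl,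
        fun q hq => by obtain ⟨y, hy, rfl⟩ := List.mem_map.1 hq; exact fmem y (sub3 hy),
        fun q hq r hr => by
          obtain ⟨y, hy, rfl⟩ := List.mem_map.1 hq
          obtain ⟨z, hz, rfl⟩ := List.mem_map.1 hr
          exact fcomm y (sub3 hy) z (sub3 hz), rfl⟩
    have p2 : FischerM22.IsProd (QSet (QSet D a) (qm D a b)) 2 ([x₄, x₅].map f).prod :=
      ⟨_, List.Nodup.map_on (fun y hy z hz => finj y (sub2 hy) z (sub2 hz)) hnd2, rfl,
        fun q hq => by obtain ⟨y, hy, rfl⟩ := List.mem_map.1 hq; exact fmem y (sub2 hy),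
        fun q hq r hr => by
          obtain ⟨y, hy, rfl⟩ := List.mem_map.1 hq
          obtain ⟨z, hz, rfl⟩ := List.mem_map.1 hr
          exact fcomm y (sub2 hy) z (sub2 hz), rfl⟩
    have hs := hS2.cls.1
    have e : ([x₁, x₂, x₃].map f).prod = ([x₄, x₅].map f).prod := by
      have h' : ([x₁, x₂, x₃].map f).prod * ([x₄, x₅].map f).prod = 1 := by
        rw [← List.prod_append, ← List.map_append]; exact h
      rw [eq_inv_of_mul_eq_one_left h']
      simp only [List.map_cons, List.map_nil, List.prod_cons, List.prod_nil, mul_one, mul_inv_rev,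
        inv_eq hs (fmem x₄ (sub2 (by simp))), inv_eq hs (fmem x₅ (sub2 (by simp)))]
      exact (fcomm x₅ (sub2 (by simp)) x₄ (sub2 (by simp))).eq
    have := FischerM22.prod_unique hS2 (m := 3) (m' := 2) (by norm_num) le_rfl (by norm_num) (by norm_num)
      p3 (e ▸ p2)
    omega
  have hc2 : edgeHom S ha hb ⟨L.prod, hY⟩ = edgeHom S ha hb ⟨c, mem_edgeCent_of_mem hc⟩ :=
    (hP _ rfl).resolve_left hne
  have hm' : ∀ y ∈ c :: L, y ∈ adj D a ∩ adj D b := by
    intro y hy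
    rcases List.mem_cons.1 hy with rfl | hy
    exacts [hc, (hm y hy).1]
  obtain ⟨hY6, e16, e26⟩ := edge_list S ha hb (L := c :: L) hm'
  have hker : edgeHom S ha hb ⟨(c :: L).prod, hY6⟩ = 1 := by
    rw [show (⟨(c :: L).prod, hY6⟩ : ↥(edgeCent D a b)) = ⟨c, mem_edgeCent_of_mem hc⟩ * ⟨L.prod, hY⟩ from
      Subtype.ext List.prod_cons, map_mul, hc2, edgeHom_eq]
    exact mul_self hS2.cls.1 (qm_mem (edge_qm_mem S ha hb hc))
  have hcD := mul_self S.cls.1 hc.1.1
  have hcl : ∀ {z}, c * L.prod = z → L.prod = c * z := fun h => by rw [← h, ← mul_assoc, hcD, one_mul]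
  -- six members do not multiply to one in the first quotient
  have h6 : qm D a (c :: L).prod ≠ 1 := by
    rw [e16]
    refine six_ne_one hS1 (List.Nodup.map_on (fun y hy z hz h => qm_inj S ha (hm' y hy).1 (hm' z hz).1 h)
      (List.nodup_cons.2 ⟨fun h => (hm c h).2.2.1 rfl, hnd⟩)) ?_ ?_
    · intro q hq
      obtain ⟨y, hy, rfl⟩ := List.mem_map.1 (show q ∈ (c :: L).map (qm D a) from hq)
      exact qm_mem (hm' y hy).1
    · intro q hq r hr
      obtain ⟨y, hy, rfl⟩ := List.mem_map.1 (show q ∈ (c :: L).map (qm D a) from hq)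
      obtain ⟨z, hz, rfl⟩ := List.mem_map.1 (show r ∈ (c :: L).map (qm D a) from hr)
      refine (qm_comm S ha (hm' y hy).1 (hm' z hz).1).2 ?_
      rcases List.mem_cons.1 hy with rfl | hy' <;> rcases List.mem_cons.1 hz with rfl | hz'
      exacts [Commute.refl _, (hm z hz').2.2.2, (hm y hy').2.2.2.symm, hcm y hy' z hz']
  rcases edgeHom_ker S ha hb hker with h | h | h | h <;> (change (c :: L).prod = _ at h)
  · exact absurd (by rw [h]; exact (qm_of_mem (one_mem _)).trans (map_one _)) h6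
  · exact absurd (by rw [h]; exact qm_self S ha) h6
  · exact Or.inl (by rw [hcl (by simpa [List.prod_cons] using h), (hc.2.2.2.symm : Commute c b).eq])
  · refine Or.inr ?_
    rw [hcl (by simpa [List.prod_cons] using h), ((hc.1.2.2.symm : Commute c a).mul_right hc.2.2.2.symm).eq]

/-- Five commuting members of `triSet a b c` with product in `⟨a, b, c⟩` have product `a b c`. -/
theorem five_eq (S : Fi24Setup D) {a b c : G} (ha : a ∈ D) (hb : b ∈ adj D a) (hc : c ∈ adj D a ∩ adj D b)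
    {x₁ x₂ x₃ x₄ x₅ : G} (hnd : [x₁, x₂, x₃, x₄, x₅].Nodup)
    (hm : ∀ y ∈ [x₁, x₂, x₃, x₄, x₅], y ∈ triSet D a b c)
    (hcm : ∀ x ∈ [x₁, x₂, x₃, x₄, x₅], ∀ y ∈ [x₁, x₂, x₃, x₄, x₅], Commute x y)
    (hP : [x₁, x₂, x₃, x₄, x₅].prod ∈ Subgroup.closure ({a, b, c} : Set G)) :
    [x₁, x₂, x₃, x₄, x₅].prod = a * b * c := by
  have main : ∀ {a b : G} (ha : a ∈ D) (hb : b ∈ adj D a) (hc : c ∈ adj D a ∩ adj D b),
      (∀ y ∈ [x₁, x₂, x₃, x₄, x₅], y ∈ triSet D a b c) →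
      [x₁, x₂, x₃, x₄, x₅].prod ∈ Subgroup.closure ({a, b, c} : Set G) →
      [x₁, x₂, x₃, x₄, x₅].prod = b * c ∨ [x₁, x₂, x₃, x₄, x₅].prod = a * b * c := by
    intro a b ha hb hc hm hP
    refine five_aux S ha hb hc hnd hm hcm fun f hf => ?_
    have hle : Subgroup.closure ({a, b, c} : Set G) ≤
        ((Subgroup.zpowers (edgeHom S ha hb ⟨c, mem_edgeCent_of_mem hc⟩)).comap (edgeHom S ha hb)).map
          (edgeCent D a b).subtype := by
      refine (Subgroup.closure_le _).2 ?_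
      intro z hz
      simp only [Set.mem_insert_iff, Set.mem_singleton_iff] at hz
      rw [SetLike.mem_coe, Subgroup.mem_map]
      rcases hz with hz | hz | hz <;> subst hz
      · exact ⟨⟨_, (self_mem_edgeCent S ha hb).1⟩, by
          rw [Subgroup.mem_comap, (edgeHom_self S ha hb).1]; exact one_mem _, rfl⟩
      · exact ⟨⟨_, (self_mem_edgeCent S ha hb).2⟩, by
          rw [Subgroup.mem_comap, (edgeHom_self S ha hb).2]; exact one_mem _, rfl⟩
      · exact ⟨⟨_, mem_edgeCent_of_mem hc⟩, Subgroup.mem_zpowers _, rfl⟩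
    obtain ⟨f', hf', e⟩ := hle hP
    obtain rfl : f' = f := Subtype.ext (e.trans hf.symm)
    obtain ⟨k, hk⟩ := Subgroup.mem_zpowers_iff.1 hf'
    have hsq : edgeHom S ha hb ⟨c, mem_edgeCent_of_mem hc⟩ ^ (2 : ℤ) = 1 := by
      rw [zpow_two, edgeHom_eq]
      exact mul_self ((S.localSetup ha).localSetup (qm_mem hb)).cls.1 (qm_mem (edge_qm_mem S ha hb hc))
    rcases Int.even_or_odd' k with ⟨j, rfl | rfl⟩
    · left; rw [← hk, zpow_mul, hsq, one_zpow]
    · right; rw [← hk, zpow_add, zpow_mul, hsq, one_zpow, one_mul, zpow_one]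
  have hba : a ∈ adj D b := adj_symm ha hb
  rcases main ha hb hc hm hP with h | h
  swap
  · exact h
  rcases main hb.1 hba ⟨hc.2, hc.1⟩ (fun y hy => by rw [triSet_swap]; exact hm y hy)
      (by rw [Set.insert_comm]; exact hP) with h' | h'
  · exact absurd (mul_right_cancel (h.symm.trans h')) hb.2.1
  · rw [h', hb.2.2.eq]

/-- Six members of `triSet a b c` from a hexad of the double quotient. -/
theorem exists_six_triple (S : Fi24Setup D) {a b c : G} (ha : a ∈ D) (hb : b ∈ adj D a)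
    (hc : c ∈ adj D a ∩ adj D b) :
    ∃ x₁ x₂ x₃ x₄ x₅ x₆ : G, [x₁, x₂, x₃, x₄, x₅, x₆].Nodup ∧
      (∀ y ∈ [x₁, x₂, x₃, x₄, x₅, x₆], y ∈ triSet D a b c) ∧
      (∀ x ∈ [x₁, x₂, x₃, x₄, x₅, x₆], ∀ y ∈ [x₁, x₂, x₃, x₄, x₅, x₆], Commute x y) ∧
      ∀ f : ↥(edgeCent D a b), (f : G) = [x₁, x₂, x₃, x₄, x₅, x₆].prod → edgeHom S ha hb f = 1 := by
  classical
  have hS2 := (S.localSetup ha).localSetup (qm_mem hb)
  set E := QSet (QSet D a) (qm D a b) with hE
  set c'' := edgeHom S ha hb ⟨c, mem_edgeCent_of_mem hc⟩ with hc''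
  have hcE : c'' ∈ E := edgeHom_mem S ha hb hc
  obtain ⟨x, hx⟩ := hS2.adj_nonempty hcE
  obtain ⟨y, hy⟩ : (adj E c'' ∩ adj E x).Nonempty := by
    rw [← Set.ncard_pos (Set.toFinite _), FischerM22.common_ncard hS2 hcE hx]; norm_num
  have hT : FischerM22.IsTriple E x y c'' :=
    ⟨hx.1, hy.1.1, hcE, hy.2.2.1.symm, hx.2.1, hy.1.2.1, hy.2.2.2, hx.2.2.symm, hy.1.2.2.symm⟩
  obtain ⟨u, hu, hu'⟩ : ∃ u ∈ adj E c'' ∩ adj E x ∩ adj E y, u ∉ hexSet E x y c'' := by
    by_contra hcon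
    have hsub : adj E c'' ∩ adj E x ∩ adj E y ⊆ hexSet E x y c'' := fun u hu => by
      by_contra h; exact hcon ⟨u, hu, h⟩
    have h := Set.ncard_le_ncard hsub (Set.toFinite _)
    rw [FischerM22.orth_ncard hS2 hcE hx hy.1 hy.2.2.1.symm hy.2.2.2, FischerM22.hexSet_ncard hS2 hT] at h
    omega
  have hT' : FischerM22.IsTriple E x y u :=
    ⟨hx.1, hy.1.1, hu.1.1.1, hy.2.2.1.symm, hu.1.2.2.1.symm, hu.2.2.1.symm, hy.2.2.2, hu.1.2.2.2, hu.2.2.2⟩
  obtain ⟨d, e, f, hnd, hmem, heq⟩ := exists_other_triple hS2.cls hS2.cores hS2.conn hS2.type22 hx.1 hy.1.1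
    hu.1.1.1 hy.2.2.1.symm hu.1.2.2.1.symm hu.2.2.1.symm hy.2.2.2 hu.1.2.2.2 hu.2.2.2
  have hcnot : c'' ∉ hexSet E x y u := fun h => by
    obtain ⟨s1, s2, s3⟩ := FischerM22.self_mem_hexSet hT'
    rw [FischerM22.hexSet_eq_of_mem hS2 hT' s1 s2 h hy.2.2.1.symm hx.2.1 hy.1.2.1] at hu'
    exact hu' s3
  have hadj : ∀ p ∈ [x, y, u, d, e, f], p ∈ adj E c'' := fun p hp => by
    have hp' := (hmem p).1 hp
    exact ⟨hp'.1, fun e' => hcnot (e' ▸ hp'),
      (hp'.2.2.2.2 c'' hcE hx.2.2 hy.1.2.2 hu.1.1.2.2).symm⟩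
  have hlift : ∀ p ∈ [x, y, u, d, e, f], ∃ z, z ∈ triSet D a b c ∧ ∃ h : z ∈ edgeCent D a b,
      edgeHom S ha hb ⟨z, h⟩ = p := fun p hp => by
    obtain ⟨⟨z, hzE⟩, hz, hzp⟩ := edgeHom_exists S ha hb (hadj p hp).1
    refine ⟨z, ⟨hz, hz.1.1, fun e' => (hadj p hp).2.1 ?_, ?_⟩, hzE, hzp⟩
    · rw [← hzp, hc'']; exact congrArg _ (Subtype.ext e')
    · refine (edgeHom_comm S ha hb (z := ⟨c, mem_edgeCent_of_mem hc⟩) hc hz).1 ?_
      rw [hzp]; exact (hadj p hp).2.2
  choose! z hz1 hz2 hz3 using hlift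
  refine ⟨z x, z y, z u, z d, z e, z f, ?_, ?_, ?_, ?_⟩
  · show ([x, y, u, d, e, f].map z).Nodup
    refine List.Nodup.map_on (fun p hp q hq h => ?_) hnd
    rw [← hz3 p hp, ← hz3 q hq]
    exact congrArg _ (Subtype.ext h)
  · intro w hw
    obtain ⟨p, hp, rfl⟩ := List.mem_map.1 (show w ∈ [x, y, u, d, e, f].map z from hw)
    exact hz1 p hp
  · intro w hw w' hw'
    obtain ⟨p, hp, rfl⟩ := List.mem_map.1 (show w ∈ [x, y, u, d, e, f].map z from hw)
    obtain ⟨q, hq, rfl⟩ := List.mem_map.1 (show w' ∈ [x, y, u, d, e, f].map z from hw')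
    refine (edgeHom_comm S ha hb (z := ⟨z p, hz2 p hp⟩) (w := ⟨z q, hz2 q hq⟩) (hz1 p hp).1 (hz1 q hq).1).1 ?_
    rw [hz3 p hp, hz3 q hq]
    exact hexSet_commute ((hmem p).1 hp) ((hmem q).1 hq)
  · intro g hg
    obtain ⟨hY, -, e2⟩ := edge_list S ha hb (L := [x, y, u, d, e, f].map z) (by
      intro w hw
      obtain ⟨p, hp, rfl⟩ := List.mem_map.1 hw
      exact (hz1 p hp).1)
    obtain rfl : g = ⟨_, hY⟩ := Subtype.ext hg
    rw [e2, List.map_map]
    rw [show [x, y, u, d, e, f].map ((fun y => qm (QSet D a) (qm D a b) (qm D a y)) ∘ z) = [x, y, u, d, e, f] from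
      (List.map_congr_left fun p hp => by
        show qm (QSet D a) (qm D a b) (qm D a (z p)) = id p
        rw [← edgeHom_eq S ha hb ⟨z p, hz2 p hp⟩]; exact hz3 p hp).trans (List.map_id _)]
    have hs := hS2.cls.1
    have m : ∀ {p}, p ∈ [x, y, u, d, e, f] → p ∈ E := fun hp => ((hmem _).1 hp).1
    have cm : ∀ {p q}, p ∈ [x, y, u, d, e, f] → q ∈ [x, y, u, d, e, f] → Commute p q := fun hp hq =>
      hexSet_commute ((hmem _).1 hp) ((hmem _).1 hq)
    simp only [List.prod_cons, List.prod_nil, mul_one]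
    calc x * (y * (u * (d * (e * f)))) = (x * y * u) * (d * e * f) := by simp only [mul_assoc]
      _ = (x * y * u) * (x * y * u) := by rw [heq]
      _ = x * y * (u * (x * y)) * u := by group
      _ = x * y * (x * y) := by
          rw [((cm (p := u) (q := x) (by simp) (by simp)).mul_right (cm (by simp) (by simp))).eq]
          simp only [mul_assoc, mul_self hs (m (p := u) (by simp)), mul_one]
      _ = 1 := by
          rw [show x * y * (x * y) = x * (y * x) * y by group, (cm (p := y) (q := x) (by simp) (by simp)).eq]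
          simp only [mul_assoc, mul_self_cancel hs (m (p := x) (by simp)), mul_self hs (m (p := y) (by simp))]

/-- Six commuting members of `triSet a b c` over the trivial element have product `a b`. -/
theorem six_eq (S : Fi24Setup D) {a b c : G} (ha : a ∈ D) (hb : b ∈ adj D a) (hc : c ∈ adj D a ∩ adj D b) :
    ∃ x₁ x₂ x₃ x₄ x₅ x₆ : G, (∀ y ∈ [x₁, x₂, x₃, x₄, x₅, x₆], y ∈ triSet D a b c) ∧
      [x₁, x₂, x₃, x₄, x₅, x₆].prod = a * b := by
  obtain ⟨x₁, x₂, x₃, x₄, x₅, x₆, hnd, hm, hcm, hP⟩ := exists_six_triple S ha hb hc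
  refine ⟨x₁, x₂, x₃, x₄, x₅, x₆, hm, ?_⟩
  have main : ∀ {a b : G} (ha : a ∈ D) (hb : b ∈ adj D a),
      (∀ y ∈ [x₁, x₂, x₃, x₄, x₅, x₆], y ∈ adj D a ∩ adj D b) →
      ([x₁, x₂, x₃, x₄, x₅, x₆].prod ∈ ({1, a, b, a * b} : Set G)) →
      [x₁, x₂, x₃, x₄, x₅, x₆].prod = b ∨ [x₁, x₂, x₃, x₄, x₅, x₆].prod = a * b := by
    intro a b ha hb hm h
    obtain ⟨-, e1, -⟩ := edge_list S ha hb (L := [x₁, x₂, x₃, x₄, x₅, x₆]) hm
    have h6 : qm D a [x₁, x₂, x₃, x₄, x₅, x₆].prod ≠ 1 := by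
      rw [e1]
      refine six_ne_one (S.localSetup ha) (List.Nodup.map_on (fun y hy z hz h => qm_inj S ha (hm y hy).1
        (hm z hz).1 h) hnd) ?_ ?_
      · intro q hq
        obtain ⟨y, hy, rfl⟩ := List.mem_map.1 (show q ∈ [x₁, x₂, x₃, x₄, x₅, x₆].map (qm D a) from hq)
        exact qm_mem (hm y hy).1
      · intro q hq r hr
        obtain ⟨y, hy, rfl⟩ := List.mem_map.1 (show q ∈ [x₁, x₂, x₃, x₄, x₅, x₆].map (qm D a) from hq)
        obtain ⟨z, hz, rfl⟩ := List.mem_map.1 (show r ∈ [x₁, x₂, x₃, x₄, x₅, x₆].map (qm D a) from hr)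
        exact (qm_comm S ha (hm y hy).1 (hm z hz).1).2 (hcm y hy z hz)
    rcases h with h | h | h | h
    · exact absurd (by rw [h]; exact (qm_of_mem (one_mem _)).trans (map_one _)) h6
    · exact absurd (by rw [h]; exact qm_self S ha) h6
    exacts [Or.inl h, Or.inr h]
  obtain ⟨hY, -, -⟩ := edge_list S ha hb (L := [x₁, x₂, x₃, x₄, x₅, x₆]) fun y hy => (hm y hy).1
  have hk := edgeHom_ker S ha hb (hP ⟨_, hY⟩ rfl)
  rcases main ha hb (fun y hy => (hm y hy).1) (by simpa using hk) with h | h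
  swap
  · exact h
  rcases main hb.1 (adj_symm ha hb) (fun y hy => ⟨(hm y hy).1.2, (hm y hy).1.1⟩) (by
      simp only [Set.mem_insert_iff, Set.mem_singleton_iff]; exact Or.inr (Or.inl h)) with h' | h'
  · exact absurd (h.symm.trans h') hb.2.1
  · rw [h', hb.2.2.eq]

/-- `a, b, c` lie in the group generated by the members commuting with them. -/
theorem triple_gen (S : Fi24Setup D) {a b c : G} (ha : a ∈ D) (hb : b ∈ adj D a) (hc : c ∈ adj D a ∩ adj D b) :
    a * b ∈ Subgroup.closure (triSet D a b c) ∧ a * c ∈ Subgroup.closure (triSet D a b c) := by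
  have key : ∀ {a b c : G}, a ∈ D → b ∈ adj D a → c ∈ adj D a ∩ adj D b →
      a * b ∈ Subgroup.closure (triSet D a b c) := by
    intro a b c ha hb hc
    obtain ⟨x₁, x₂, x₃, x₄, x₅, x₆, hm, e⟩ := six_eq S ha hb hc
    exact e ▸ list_prod_mem fun y hy => Subgroup.subset_closure (hm y hy)
  exact ⟨key ha hb hc, by
    rw [← triSet_swap']; exact key ha hc.1 ⟨hb, adj_symm hb.1 hc.2⟩⟩

end Cfsg.Agent.FischerM24
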