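/-
Every element of order two of a group of type M(24) commutes with a member.

If an element `x` fixes no member then `a, x a x` commute for every member `a`, and conjugation by `x` induces
an involutory automorphism without fixed member of the double local quotient of that edge.

Main result (namespace `Cfsg.Agent.FischerM24`):
* `exists_fixed_member`.
-/
import Cfsg.Agent.Lib.FischerM24.Pair
import Cfsg.Agent.Lib.FischerM22.AutFix

set_option autoImplicit false

namespace Cfsg.Agent.FischerM24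

open Cfsg.Agent.ThreeTrans
open Cfsg.Agent.FischerM23 (QL QSet qm qm_mem)

variable {G : Type*} [Group G] [Finite G] {D : Set G}

/-- Every element of order two commutes with a member. -/
theorem exists_fixed_member (S : Fi24Setup D) {x : G} (hx : x * x = 1) : ∃ a ∈ D, Commute x a := by
  by_contra hcon
  have hall : ∀ d ∈ D, ¬ Commute x d := fun d hd h => hcon ⟨d, hd, h⟩
  have hD := S.cls.1
  have hxi : x⁻¹ = x := inv_eq_of_mul_eq_one_left hx
  have hxx : ∀ u : G, x * (x * u * x⁻¹) * x⁻¹ = u := fun u => by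
    rw [hxi]; calc x * (x * u * x) * x = (x * x) * u * (x * x) := by group
      _ = u := by rw [hx, one_mul, mul_one]
  obtain ⟨a, ha, -⟩ := S.two_members
  set b := x * a * x⁻¹ with hb0
  have hbD : b ∈ D := S.conj_mem x ha
  have hxb : x * b * x⁻¹ = a := hxx a
  have hab : Commute a b := by
    by_contra hn
    refine hall (a * b * a⁻¹) (S.conj_mem a hbD) (mul_inv_eq_iff_eq_mul.1 ?_)
    rw [show x * (a * b * a⁻¹) * x⁻¹ = x * a * x⁻¹ * (x * b * x⁻¹) * (x * a * x⁻¹)⁻¹ by group, hxb, ← hb0,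
      inv_eq hD hbD, inv_eq hD ha, braid hD ha hbD hn]
  have hb : b ∈ adj D a := ⟨hbD, fun e => hall a ha (mul_inv_eq_iff_eq_mul.1 e), hab⟩
  have hmem : ∀ u : ↥(edgeCent D a b), x * (u : G) * x⁻¹ ∈ edgeCent D a b := by
    intro u
    obtain ⟨ua, ub⟩ := edgeCent_commute u.2
    refine ⟨?_, Subgroup.mem_centralizer_singleton_iff.2 ?_⟩
    · rw [← centralizer_eq_loc S ha]
      have h1 := (ub.map (MulAut.conj x).toMonoidHom).eq
      simp only [MulEquiv.coe_toMonoidHom, MulAut.conj_apply, hxb] at h1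
      exact Subgroup.mem_centralizer_singleton_iff.2 h1
    · have h1 := (ua.map (MulAut.conj x).toMonoidHom).eq
      simp only [MulEquiv.coe_toMonoidHom, MulAut.conj_apply, ← hb0] at h1
      exact h1
  let c : ↥(edgeCent D a b) →* ↥(edgeCent D a b) :=
    ((MulAut.conj x).toMonoidHom.comp (edgeCent D a b).subtype).codRestrict _ hmem
  obtain ⟨haY, hbY⟩ := self_mem_edgeCent S ha hb
  have hker : (edgeHom S ha hb).ker ≤ ((edgeHom S ha hb).comp c).ker := by
    intro z hz
    obtain ⟨e1, e2⟩ := edgeHom_self S ha hb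
    have ec : c ⟨a, haY⟩ = ⟨b, hbY⟩ := Subtype.ext rfl
    have ec' : c ⟨b, hbY⟩ = ⟨a, haY⟩ := Subtype.ext hxb
    rw [MonoidHom.mem_ker, MonoidHom.comp_apply]
    rcases edgeHom_ker S ha hb hz with h | h | h | h
    · rw [show z = 1 from Subtype.ext h, map_one, map_one]
    · rw [show z = ⟨a, haY⟩ from Subtype.ext h, ec, e2]
    · rw [show z = ⟨b, hbY⟩ from Subtype.ext h, ec', e1]
    · rw [show z = ⟨a, haY⟩ * ⟨b, hbY⟩ from Subtype.ext h, map_mul, map_mul, ec, ec', e1, e2, one_mul]
  let f := (edgeHom S ha hb).liftOfSurjective (edgeHom_surjective S ha hb) ⟨(edgeHom S ha hb).comp c, hker⟩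
  have hf : ∀ z, f (edgeHom S ha hb z) = edgeHom S ha hb (c z) := fun z =>
    MonoidHom.liftOfRightInverse_comp_apply _ _ _ _ z
  have hinv : ∀ q, f (f q) = q := fun q => by
    obtain ⟨z, rfl⟩ := edgeHom_surjective S ha hb q
    rw [hf, hf]
    exact congrArg _ (Subtype.ext (hxx z))
  let φ := MonoidHom.toMulEquiv f f (MonoidHom.ext hinv) (MonoidHom.ext hinv)
  have himg : ∀ {z : ↥(edgeCent D a b)}, (z : G) ∈ adj D a ∩ adj D b → (c z : G) ∈ adj D a ∩ adj D b := by
    intro z hz
    have mv : ∀ p, (z : G) ∈ adj D p → x * (z : G) * x⁻¹ ∈ adj D (x * p * x⁻¹) := fun p hp => by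
      rw [adj_conj_image S.grp.2.1]; exact ⟨z, hp, rfl⟩
    refine ⟨?_, by have := mv a hz.1; rwa [← hb0] at this⟩
    have := mv b hz.2
    rwa [hxb] at this
  have hpres : ∀ q, φ q ∈ QSet (QSet D a) (qm D a b) ↔ q ∈ QSet (QSet D a) (qm D a b) := by
    have fw : ∀ q, q ∈ QSet (QSet D a) (qm D a b) → f q ∈ QSet (QSet D a) (qm D a b) := fun q hq => by
      obtain ⟨z, hz, rfl⟩ := edgeHom_exists S ha hb hq
      rw [hf]; exact edgeHom_mem S ha hb (himg hz)
    exact fun q => ⟨fun h => hinv q ▸ fw _ h, fw q⟩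
  obtain ⟨q, hq, e⟩ := FischerM22.involution_fixes ((S.localSetup ha).localSetup (qm_mem hb)) φ hinv hpres
  obtain ⟨z, hz, rfl⟩ := edgeHom_exists S ha hb hq
  have e' : c z = z := edgeHom_inj S ha hb (himg hz) hz ((hf z).symm.trans e)
  exact hall z hz.1.1 (mul_inv_eq_iff_eq_mul.1 (congrArg Subtype.val e'))

end Cfsg.Agent.FischerM24
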