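/-
The elements of order two in a group of type M(24).

Main results (namespace `Cfsg.Agent.FischerM24`):
* `involution_prod` : every element of order two is a product of at most four commuting members;
* `lift_prod`, `proj_prod` : products of commuting members in the local group and in its quotient;
* `prod_conj`, `prod_order`, `prod_unique`, `exists_isProd` : the four classes of elements of order two.
-/
import Cfsg.Agent.Lib.FischerM24.Fixed
import Cfsg.Agent.Lib.FischerM24.Parity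
import Cfsg.Agent.Lib.FischerM23.Involutions

set_option autoImplicit false

namespace Cfsg.Agent.FischerM24

open Cfsg.Agent.ThreeTrans Cfsg.Agent.ThreeTransSU
open Cfsg.Agent.FischerM22 (adj_symm IsProd IsTriple isProd_one isProd_two isProd_three isProd_cases)
open Cfsg.Agent.FischerM23 (QL QSet qm qm_mem qm_of_mem qm_mul qset_eq mem_loc_of_adj)

variable {G : Type*} [Group G] [Finite G] {D : Set G}

omit [Finite G] in
theorem isProd_zero : IsProd D 0 (1 : G) := ⟨[], by simp, rfl, by simp, by simp, rfl⟩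

omit [Finite G] in
theorem isProd_cons {m : ℕ} {a P : G} (ha : a ∈ D) {l : List G} (hl : l.length = m) (hn : l.Nodup)
    (hm : ∀ y ∈ l, y ∈ adj D a) (hc : ∀ y ∈ l, ∀ z ∈ l, Commute y z) (hP : l.prod = P) :
    IsProd D (m + 1) (a * P) := by
  refine ⟨a :: l, List.nodup_cons.2 ⟨fun h => (hm a h).2.1 rfl, hn⟩, by simp [hl], fun y hy => ?_,
    fun y hy z hz => ?_, by rw [List.prod_cons, hP]⟩
  · rcases List.mem_cons.1 hy with rfl | hy
    exacts [ha, (hm y hy).1]
  · rcases List.mem_cons.1 hy with e | hy' <;> rcases List.mem_cons.1 hz with e' | hz'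
    exacts [e ▸ e' ▸ Commute.refl _, e ▸ (hm z hz').2.2, e' ▸ (hm y hy').2.2.symm, hc y hy' z hz']

omit [Finite G] in
/-- The product of a list of neighbours in the quotient. -/
theorem qm_list {a : G} : ∀ {l : List G}, (∀ y ∈ l, y ∈ adj D a) →
    l.prod ∈ Loc D a ∧ qm D a l.prod = (l.map (qm D a)).prod
  | [], _ => ⟨one_mem _, (qm_of_mem (one_mem _)).trans (map_one _)⟩
  | y :: l, h => by
    obtain ⟨h1, h2⟩ := qm_list (l := l) fun z hz => h z (List.mem_cons_of_mem _ hz)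
    have hy := mem_loc_of_adj (h y List.mem_cons_self)
    exact ⟨by rw [List.prod_cons]; exact mul_mem hy h1,
      by rw [List.prod_cons, qm_mul hy h1, h2, List.map_cons, List.prod_cons]⟩

/-- Commuting neighbours multiply to a product of as many commuting members of the quotient. -/
theorem proj_prod (S : Fi24Setup D) {a : G} (ha : a ∈ D) {l : List G} (hn : l.Nodup)
    (hm : ∀ y ∈ l, y ∈ adj D a) (hc : ∀ y ∈ l, ∀ z ∈ l, Commute y z) :
    l.prod ∈ Loc D a ∧ IsProd (QSet D a) l.length (qm D a l.prod) := by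
  refine ⟨(qm_list hm).1, l.map (qm D a), List.Nodup.map_on (fun y hy z hz h => qm_inj S ha (hm y hy) (hm z hz) h) hn,
    by simp, fun q hq => ?_, fun q hq r hr => ?_, (qm_list hm).2.symm⟩
  · obtain ⟨y, hy, rfl⟩ := List.mem_map.1 hq
    exact qm_mem (hm y hy)
  · obtain ⟨y, hy, rfl⟩ := List.mem_map.1 hq
    obtain ⟨z, hz, rfl⟩ := List.mem_map.1 hr
    exact (qm_comm S ha (hm y hy) (hm z hz)).2 (hc y hy z hz)

/-- A product of commuting members of the quotient lifts. -/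
theorem lift_prod (S : Fi24Setup D) {a : G} (ha : a ∈ D) {m : ℕ} {w : QL D a} (h : IsProd (QSet D a) m w) :
    ∃ P, P ∈ Loc D a ∧ qm D a P = w ∧ IsProd D m P ∧ IsProd D (m + 1) (a * P) := by
  obtain ⟨l, hn, hlen, hD, hc, rfl⟩ := h
  have hl : ∀ l : List (QL D a), (∀ q ∈ l, q ∈ QSet D a) →
      ∃ l' : List G, (∀ y ∈ l', y ∈ adj D a) ∧ l'.map (qm D a) = l := by
    intro l
    induction l with
    | nil => exact fun _ => ⟨[], by simp, rfl⟩
    | cons q l ih =>
      intro hq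
      obtain ⟨y, hy, e⟩ := (qset_eq a).subset (hq q List.mem_cons_self)
      obtain ⟨l', k1, k2⟩ := ih fun z hz => hq z (List.mem_cons_of_mem _ hz)
      refine ⟨y :: l', fun z hz => ?_, by rw [List.map_cons, e, k2]⟩
      rcases List.mem_cons.1 hz with rfl | hz
      exacts [hy, k1 z hz]
  obtain ⟨l', k1, rfl⟩ := hl l hD
  have hn' : l'.Nodup := List.Nodup.of_map _ hn
  have hlen' : l'.length = m := by simpa using hlen
  have hc' : ∀ y ∈ l', ∀ z ∈ l', Commute y z := fun y hy z hz =>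
    (qm_comm S ha (k1 y hy) (k1 z hz)).1 (hc _ (List.mem_map_of_mem hy) _ (List.mem_map_of_mem hz))
  exact ⟨l'.prod, (qm_list k1).1, (qm_list k1).2, ⟨l', hn', hlen', fun y hy => (k1 y hy).1, hc', rfl⟩,
    isProd_cons ha hlen' hn' k1 hc' rfl⟩

/-- Every element of order two is the product of at most four commuting members. -/
theorem involution_prod (S : Fi24Setup D) {x : G} (hx : x * x = 1) (hx1 : x ≠ 1) :
    ∃ m, 1 ≤ m ∧ m ≤ 4 ∧ IsProd D m x := by
  obtain ⟨a, ha, hxa⟩ := exists_fixed_member S hx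
  have hxL : x ∈ Loc D a := by
    rw [← centralizer_eq_loc S ha]; exact Subgroup.mem_centralizer_singleton_iff.2 hxa
  by_cases hq1 : qm D a x = 1
  · rw [qm_of_mem hxL] at hq1
    rcases mem_center_loc S ha ((QuotientGroup.eq_one_iff _).1 hq1) with h | h
    · exact absurd h hx1
    · have hxa' : x = a := h
      exact ⟨1, le_rfl, by norm_num, hxa' ▸ isProd_one ha⟩
  have hsq : qm D a x * qm D a x = 1 := by
    rw [← qm_mul hxL hxL, hx, qm_of_mem (one_mem _)]; exact map_one _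
  obtain ⟨m, h1, h3, hm⟩ := FischerM23.involution_prod (S.localSetup ha) hsq hq1
  obtain ⟨P, hP, e, p1, p2⟩ := lift_prod S ha hm
  rw [qm_of_mem hP, qm_of_mem hxL] at e
  rcases mem_center_loc S ha (QuotientGroup.eq.1 e) with h | h
  · refine ⟨m, h1, by omega, ?_⟩
    rwa [(inv_mul_eq_one.1 h : P = x)] at p1
  · refine ⟨m + 1, by omega, by omega, ?_⟩
    rwa [(inv_mul_eq_iff_eq_mul.1 h : x = P * a), (commute_of_mem_Loc hP).eq]

/-! ### conjugacy -/

theorem quad_conj (S : Fi24Setup D) {a b c d a' b' c' d' : G} (ha : a ∈ D) (hb : b ∈ adj D a) (hc : c ∈ adj D a)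
    (hd : d ∈ adj D a) (hT : IsTriple D b c d) (ha' : a' ∈ D) (hb' : b' ∈ adj D a') (hc' : c' ∈ adj D a')
    (hd' : d' ∈ adj D a') (hT' : IsTriple D b' c' d') :
    ∃ g, g * a * g⁻¹ = a' ∧ g * b * g⁻¹ = b' ∧ g * c * g⁻¹ = c' ∧ g * d * g⁻¹ = d' := by
  obtain ⟨g, rfl⟩ := class_conj S.cls ha ha'
  have mv : ∀ {u}, u ∈ adj D a → g * u * g⁻¹ ∈ adj D (g * a * g⁻¹) := fun {u} hu => by
    rw [adj_conj_image S.grp.2.1]; exact ⟨u, hu, rfl⟩
  have hQ : ∀ {u v w}, u ∈ adj D (g * a * g⁻¹) → v ∈ adj D (g * a * g⁻¹) → w ∈ adj D (g * a * g⁻¹) →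
      IsTriple D u v w → IsTriple (QSet D (g * a * g⁻¹)) (qm D (g * a * g⁻¹) u) (qm D (g * a * g⁻¹) v)
        (qm D (g * a * g⁻¹) w) := fun hu hv hw h =>
    ⟨qm_mem hu, qm_mem hv, qm_mem hw, fun e => h.2.2.2.1 (qm_inj S ha' hu hv e),
      fun e => h.2.2.2.2.1 (qm_inj S ha' hu hw e), fun e => h.2.2.2.2.2.1 (qm_inj S ha' hv hw e),
      (qm_comm S ha' hu hv).2 h.2.2.2.2.2.2.1, (qm_comm S ha' hu hw).2 h.2.2.2.2.2.2.2.1,
      (qm_comm S ha' hv hw).2 h.2.2.2.2.2.2.2.2⟩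
  have hTg : IsTriple D (g * b * g⁻¹) (g * c * g⁻¹) (g * d * g⁻¹) := by
    obtain ⟨t1, t2, t3, n1, n2, n3, c1, c2, c3⟩ := hT
    exact ⟨S.conj_mem g t1, S.conj_mem g t2, S.conj_mem g t3, fun e => n1 (mul_left_cancel (mul_right_cancel e)),
      fun e => n2 (mul_left_cancel (mul_right_cancel e)), fun e => n3 (mul_left_cancel (mul_right_cancel e)),
      c1.map (MulAut.conj g).toMonoidHom, c2.map (MulAut.conj g).toMonoidHom, c3.map (MulAut.conj g).toMonoidHom⟩
  obtain ⟨q, e1, e2, e3⟩ := FischerM23.triple_conj (S.localSetup ha') (hQ (mv hb) (mv hc) (mv hd) hTg)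
    (hQ hb' hc' hd' hT')
  obtain ⟨k, rfl⟩ := QuotientGroup.mk'_surjective _ q
  rw [← FischerM23.qm_coe k] at e1 e2 e3
  refine ⟨(k : G) * g, ?_, ?_, ?_, ?_⟩
  · rw [show (k : G) * g * a * ((k : G) * g)⁻¹ = k * (g * a * g⁻¹) * (k : G)⁻¹ by group]
    exact FischerM22.conj_eq_self_of_loc k.2
  all_goals
    rw [show ∀ u, (k : G) * g * u * ((k : G) * g)⁻¹ = k * (g * u * g⁻¹) * (k : G)⁻¹ from fun u => by group]
  · exact conj_eq_of_qm S ha' k.2 (mv hb) hb' e1
  · exact conj_eq_of_qm S ha' k.2 (mv hc) hc' e2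
  · exact conj_eq_of_qm S ha' k.2 (mv hd) hd' e3

omit [Finite G] in
theorem isProd_cases4 {m : ℕ} {x : G} (h1 : 1 ≤ m) (h4 : m ≤ 4) (h : IsProd D m x) :
    (m = 1 ∧ x ∈ D) ∨ (m = 2 ∧ ∃ a ∈ D, ∃ b ∈ adj D a, x = a * b) ∨
      (m = 3 ∧ ∃ a b c, IsTriple D a b c ∧ x = a * b * c) ∨
      (m = 4 ∧ ∃ a b c d, a ∈ D ∧ b ∈ adj D a ∧ c ∈ adj D a ∧ d ∈ adj D a ∧ IsTriple D b c d ∧
        x = a * (b * c * d)) := by
  rcases (by omega : m ≤ 3 ∨ m = 4) with h3 | rfl
  · rcases isProd_cases h1 h3 h with h | h | h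
    exacts [Or.inl h, Or.inr (Or.inl h), Or.inr (Or.inr (Or.inl h))]
  obtain ⟨l, hn, hlen, hD, hc, rfl⟩ := h
  match l, hlen with
  | [a, b, c, d], _ =>
    simp only [List.nodup_cons, List.mem_cons, List.not_mem_nil, or_false, not_or, not_false_eq_true,
      List.nodup_nil, and_true] at hn
    obtain ⟨⟨n1, n2, n3⟩, ⟨n4, n5⟩, n6⟩ := hn
    exact Or.inr (Or.inr (Or.inr ⟨rfl, a, b, c, d, hD a (by simp), ⟨hD b (by simp), Ne.symm n1,
      hc a (by simp) b (by simp)⟩, ⟨hD c (by simp), Ne.symm n2, hc a (by simp) c (by simp)⟩,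
      ⟨hD d (by simp), Ne.symm n3, hc a (by simp) d (by simp)⟩,
      ⟨hD b (by simp), hD c (by simp), hD d (by simp), n4, n5, n6, hc b (by simp) c (by simp),
        hc b (by simp) d (by simp), hc c (by simp) d (by simp)⟩, by simp [mul_assoc]⟩))

theorem pair_conj (S : Fi24Setup D) {a b a' b' : G} (ha : a ∈ D) (hb : b ∈ adj D a) (ha' : a' ∈ D)
    (hb' : b' ∈ adj D a') : ∃ g, g * a * g⁻¹ = a' ∧ g * b * g⁻¹ = b' := by
  obtain ⟨g, rfl⟩ := class_conj S.cls ha ha'
  have hgb : g * b * g⁻¹ ∈ adj D (g * a * g⁻¹) := by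
    rw [adj_conj_image S.grp.2.1]; exact ⟨b, hb, rfl⟩
  obtain ⟨k, hk, hke⟩ := loc_transitive S.cls S.two_members S.cores ha' hgb hb'
  refine ⟨k * g, ?_, by rw [← hke]; group⟩
  rw [show k * g * a * (k * g)⁻¹ = k * (g * a * g⁻¹) * k⁻¹ by group]
  exact FischerM22.conj_eq_self_of_loc hk

theorem triple_conj (S : Fi24Setup D) {a b c a' b' c' : G} (h : IsTriple D a b c)
    (h' : IsTriple D a' b' c') : ∃ g, g * a * g⁻¹ = a' ∧ g * b * g⁻¹ = b' ∧ g * c * g⁻¹ = c' := by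
  obtain ⟨ha, hb, hc, n1, n2, n3, c1, c2, c3⟩ := h
  obtain ⟨g, rfl⟩ := class_conj S.cls ha h'.1
  obtain ⟨-, hb', hc', m1, m2, m3, d1, d2, d3⟩ := h'
  have mv : ∀ {u}, u ∈ adj D a → g * u * g⁻¹ ∈ adj D (g * a * g⁻¹) := fun {u} hu => by
    rw [adj_conj_image S.grp.2.1]; exact ⟨u, hu, rfl⟩
  obtain ⟨k, hk, e1, e2⟩ := trans_commuting S (S.conj_mem g ha) (mv ⟨hb, n1.symm, c1⟩)
    (mv ⟨hc, n2.symm, c2⟩) (fun e => n3 (mul_left_cancel (mul_right_cancel e)))
    (c3.map (MulAut.conj g).toMonoidHom) ⟨hb', m1.symm, d1⟩ ⟨hc', m2.symm, d2⟩ m3 d3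
  refine ⟨k * g, ?_, by rw [← e1]; group, by rw [← e2]; group⟩
  rw [show k * g * a * (k * g)⁻¹ = k * (g * a * g⁻¹) * k⁻¹ by group]
  exact FischerM22.conj_eq_self_of_loc hk

theorem prod_conj (S : Fi24Setup D) {m : ℕ} {x y : G} (h1 : 1 ≤ m) (h4 : m ≤ 4) (hx : IsProd D m x)
    (hy : IsProd D m y) : IsConj x y := by
  rw [isConj_iff]
  rcases isProd_cases4 h1 h4 hx with ⟨rfl, hx'⟩ | ⟨rfl, a, ha, b, hb, rfl⟩ | ⟨rfl, a, b, c, hT, rfl⟩ |
      ⟨rfl, a, b, c, d, ha, hb, hc, hd, hT, rfl⟩ <;>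
    rcases isProd_cases4 h1 h4 hy with ⟨e, hy'⟩ | ⟨e, a', ha', b', hb', rfl⟩ | ⟨e, a', b', c', hT', rfl⟩ |
        ⟨e, a', b', c', d', ha', hb', hc', hd', hT', rfl⟩ <;>
      first
        | omega
        | exact class_conj S.cls hx' hy'
        | (obtain ⟨g, k1, k2, k3, k4⟩ := quad_conj S ha hb hc hd hT ha' hb' hc' hd' hT'
           exact ⟨g, by rw [← k1, ← k2, ← k3, ← k4]; group⟩)
        | (obtain ⟨g, k1, k2⟩ := pair_conj S ha hb ha' hb'
           exact ⟨g, by rw [← k1, ← k2]; group⟩)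
        | (obtain ⟨g, k1, k2, k3⟩ := triple_conj S hT hT'
           exact ⟨g, by rw [← k1, ← k2, ← k3]; group⟩)

/-! ### distinctness -/

theorem prod_parity (S : Fi24Setup D) {m m' : ℕ} {x : G} (h : IsProd D m x) (h' : IsProd D m' x) :
    m % 2 = m' % 2 := by
  obtain ⟨χ, hχ⟩ := exists_parity S
  have hv : ∀ {k : ℕ}, IsProd D k x → χ x = (-1) ^ k := by
    intro k hk
    obtain ⟨l, -, hlen, hD, -, hp⟩ := hk
    rw [← hp, ← hlen, map_list_prod, List.prod_eq_pow_card _ (-1 : ℤˣ) (by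
      intro z hz
      obtain ⟨y, hy, rfl⟩ := List.mem_map.1 hz
      exact hχ y (hD y hy)), List.length_map]
  have h2 := (hv h).symm.trans (hv h')
  rw [Int.units_pow_eq_pow_mod_two, Int.units_pow_eq_pow_mod_two (-1) m'] at h2
  rcases Nat.mod_two_eq_zero_or_one m with e | e <;> rcases Nat.mod_two_eq_zero_or_one m' with e' | e' <;>
    simp [e, e'] at h2 ⊢

/-- A product of three commuting members is not a member. -/
theorem one_ne_three (S : Fi24Setup D) {u a b c : G} (hu : u ∈ D) (hT : IsTriple D a b c) : u ≠ a * b * c := by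
  intro e
  obtain ⟨ha, hb, hc, n1, n2, n3, c1, c2, c3⟩ := hT
  have hD := S.cls.1
  have hb' : b ∈ adj D a := ⟨hb, n1.symm, c1⟩
  have hc' : c ∈ adj D a := ⟨hc, n2.symm, c2⟩
  have hau : Commute a u := e ▸ ((Commute.refl a).mul_right c1).mul_right c2
  by_cases hua : u = a
  · rw [hua, mul_assoc, left_eq_mul] at e
    exact n3 (mul_left_cancel ((mul_self hD hb).trans e.symm))
  have hu' : u ∈ adj D a := ⟨hu, hua, hau⟩
  have hP : [b, c].prod ∈ Loc D a ∧ IsProd (QSet D a) 2 (qm D a [b, c].prod) :=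
    proj_prod S ha (by simp [n3]) (by simp [hb', hc'])
      (by simp [c3, c3.symm])
  have h1 : qm D a [b, c].prod = qm D a u := by
    rw [e, mul_assoc, qm_mul (mem_loc_self S ha) (mul_mem (mem_loc_of_adj hb') (mem_loc_of_adj hc')), qm_self S ha,
      one_mul]
    simp
  rw [h1] at hP
  have := FischerM23.prod_unique (S.localSetup ha) (by norm_num) (by norm_num) le_rfl (by norm_num) hP.2
    (isProd_one (qm_mem hu'))
  omega

/-- A product of four commuting members is not a product of two. -/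
theorem two_ne_four (S : Fi24Setup D) {u v a b c d : G} (hu : u ∈ D) (hv : v ∈ adj D u) (ha : a ∈ D)
    (hb : b ∈ adj D a) (hc : c ∈ adj D a) (hd : d ∈ adj D a) (hT : IsTriple D b c d) :
    u * v ≠ a * (b * c * d) := by
  intro e
  have hD := S.cls.1
  have hac : Commute a (u * v) := e ▸ (Commute.refl a).mul_right ((hb.2.2.mul_right hc.2.2).mul_right hd.2.2)
  obtain ⟨au, av⟩ := (commute_mul_iff hD hu hv.1 ha hv.2.1.symm hv.2.2).1 hac
  by_cases hua : u = a
  · rw [hua] at e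
    exact one_ne_three S hv.1 hT (mul_left_cancel e)
  by_cases hva : v = a
  · rw [hva, (show Commute u a from au.symm).eq] at e
    exact one_ne_three S hu hT (mul_left_cancel e)
  have hu' : u ∈ adj D a := ⟨hu, hua, au⟩
  have hv' : v ∈ adj D a := ⟨hv.1, hva, av⟩
  obtain ⟨t1, t2, t3, n1, n2, n3, c1, c2, c3⟩ := hT
  have hP : [b, c, d].prod ∈ Loc D a ∧ IsProd (QSet D a) 3 (qm D a [b, c, d].prod) :=
    proj_prod S ha (by simp [n1, n2, n3]) (by simp [hb, hc, hd]) (by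
      simp [c1, c2, c3, c1.symm, c2.symm, c3.symm])
  have hQ : [u, v].prod ∈ Loc D a ∧ IsProd (QSet D a) 2 (qm D a [u, v].prod) :=
    proj_prod S ha (by simp [hv.2.1.symm]) (by simp [hu', hv'])
      (by simp [hv.2.2, hv.2.2.symm])
  have h1 : qm D a [b, c, d].prod = qm D a [u, v].prod := by
    rw [show [u, v].prod = u * v by simp, e, qm_mul (mem_loc_self S ha)
      (mul_mem (mul_mem (mem_loc_of_adj hb) (mem_loc_of_adj hc)) (mem_loc_of_adj hd)), qm_self S ha, one_mul]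
    simp [mul_assoc]
  rw [h1] at hP
  have := FischerM23.prod_unique (S.localSetup ha) (by norm_num) le_rfl (by norm_num) (by norm_num) hP.2 hQ.2
  omega

theorem prod_ne_one (S : Fi24Setup D) {m : ℕ} {x : G} (h1 : 1 ≤ m) (h4 : m ≤ 4) (h : IsProd D m x) : x ≠ 1 := by
  intro hx
  have hpar := prod_parity S (hx ▸ h) isProd_zero
  have hD := S.cls.1
  rcases isProd_cases4 h1 h4 h with ⟨rfl, -⟩ | ⟨rfl, a, ha, b, hb, rfl⟩ | ⟨rfl, -⟩ |
      ⟨rfl, a, b, c, d, ha, hb, hc, hd, hT, rfl⟩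
  · omega
  · exact hb.2.1 (mul_left_cancel ((mul_self hD ha).trans hx.symm)).symm
  · omega
  · exact one_ne_three S ha hT (mul_left_cancel ((mul_self hD ha).trans hx.symm))

theorem prod_unique (S : Fi24Setup D) {m m' : ℕ} {x : G} (h1 : 1 ≤ m) (h4 : m ≤ 4) (h1' : 1 ≤ m')
    (h4' : m' ≤ 4) (h : IsProd D m x) (h' : IsProd D m' x) : m = m' := by
  have hpar := prod_parity S h h'
  rcases isProd_cases4 h1 h4 h with ⟨rfl, hx⟩ | ⟨rfl, a, ha, b, hb, e⟩ | ⟨rfl, a, b, c, hT, e⟩ |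
      ⟨rfl, a, b, c, d, ha, hb, hc, hd, hT, e⟩ <;>
    rcases isProd_cases4 h1' h4' h' with ⟨rfl, hx'⟩ | ⟨rfl, a', ha', b', hb', e'⟩ | ⟨rfl, a', b', c', hT', e'⟩ |
        ⟨rfl, a', b', c', d', ha', hb', hc', hd', hT', e'⟩ <;>
      first
        | omega
        | exact absurd e' (one_ne_three S hx hT')
        | exact absurd e (one_ne_three S hx' hT)
        | exact absurd (e.symm.trans e') (two_ne_four S ha hb ha' hb' hc' hd' hT')
        | exact absurd (e'.symm.trans e) (two_ne_four S ha' hb' ha hb hc hd hT)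

theorem prod_order (S : Fi24Setup D) {m : ℕ} {x : G} (h1 : 1 ≤ m) (h4 : m ≤ 4) (h : IsProd D m x) :
    orderOf x = 2 := by
  refine orderOf_eq_prime ?_ (prod_ne_one S h1 h4 h)
  obtain ⟨l, -, -, hD, hc, rfl⟩ := h
  clear h1 h4
  induction l with
  | nil => simp
  | cons a l ih =>
    rw [List.prod_cons, (Commute.list_prod_right l a fun y hy => hc a (by simp) y (by simp [hy])).mul_pow,
      ih (fun y hy => hD y (by simp [hy])) (fun y hy z hz => hc y (by simp [hy]) z (by simp [hz])), pow_two,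
      mul_self S.cls.1 (hD a (by simp)), one_mul]

theorem exists_isProd (S : Fi24Setup D) {m : ℕ} (h1 : 1 ≤ m) (h4 : m ≤ 4) : ∃ x : G, IsProd D m x := by
  obtain ⟨a, ha, -⟩ := S.two_members
  rcases (by omega : m ≤ 3 ∨ m = 4) with h3 | rfl
  · obtain ⟨w, hw⟩ := FischerM23.exists_isProd (S.localSetup ha) h1 h3
    obtain ⟨P, -, -, hP, -⟩ := lift_prod S ha hw
    exact ⟨P, hP⟩
  · obtain ⟨w, hw⟩ := FischerM23.exists_isProd (S.localSetup ha) (m := 3) (by norm_num) le_rfl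
    obtain ⟨P, -, -, -, hP⟩ := lift_prod S ha hw
    exact ⟨a * P, hP⟩

end Cfsg.Agent.FischerM24
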