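/-
The group generated by the common neighbours of three commuting members of a group of type M(24): a central
extension of PSU(6,2) with a sign character that is -1 on all these members and on the three members.

Main results (namespace `Cfsg.Agent.FischerM24`):
* `TriModel`, `exists_triModel` : the point model of `triSet a b c` with the map onto PSU(6,2);
* `tri_transitive`, `tri_stab` : transitivity and point stabilisers;
* `exists_chiTri` : the sign character.
-/
import Cfsg.Agent.Lib.FischerM24.Pair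
import Cfsg.Agent.Lib.FischerM22.LocModel
import Cfsg.Agent.Lib.ThreeTransSU.SixExt

set_option autoImplicit false

namespace Cfsg.Agent.FischerM24

open Cfsg.Agent.Unitary Cfsg.Agent.U62Cover Cfsg.Agent.ThreeTrans Cfsg.Agent.ThreeTransSU
open Cfsg.Agent.FischerM22 (adj_symm tvPerp stab_point)
open Cfsg.Agent.FischerM23 (QL QSet qm)

variable {G : Type*} [Group G] [Finite G] {D : Set G}

/-! ### sign characters -/

/-- A character of a subgroup of index two, invariant under an outside involution, extends. -/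
theorem exists_extend {K : Type*} [Group K] (H : Subgroup K) (hH : H.index = 2) {t : K} (ht : t ∉ H)
    (ht2 : t * t = 1) (χ : ↥H →* ℤˣ) (hχ : ∀ (h : ↥H) (h' : t * h * t ∈ H), χ ⟨t * h * t, h'⟩ = χ h)
    (e : ℤˣ) : ∃ φ : K →* ℤˣ, φ t = e ∧ ∀ h : ↥H, φ h = χ h := by
  classical
  have hmul : ∀ {x : K}, x ∉ H → x * t ∈ H := fun hx =>
    (Subgroup.mul_mem_iff_of_index_two hH).2 ⟨fun h => absurd h hx, fun h => absurd h ht⟩
  have hconj : ∀ {x : K}, x ∈ H → t * x * t ∈ H := fun {x} hx => by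
    rw [Subgroup.mul_mem_iff_of_index_two hH, Subgroup.mul_mem_iff_of_index_two hH]
    simp [hx]
  let f : K → ℤˣ := fun x => if h : x ∈ H then χ ⟨x, h⟩ else χ ⟨x * t, hmul h⟩ * e
  have f1 : ∀ {x} (h : x ∈ H), f x = χ ⟨x, h⟩ := fun h => dif_pos h
  have f2 : ∀ {x} (h : x ∉ H), f x = χ ⟨x * t, hmul h⟩ * e := fun h => dif_neg h
  have hee : e * e = 1 := Int.units_mul_self e
  refine ⟨⟨⟨f, (f1 (one_mem H)).trans (map_one χ)⟩, fun x y => ?_⟩, ?_, fun h => f1 h.2⟩
  · show f (x * y) = f x * f y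
    by_cases hx : x ∈ H <;> by_cases hy : y ∈ H
    · rw [f1 hx, f1 hy, f1 (mul_mem hx hy), ← map_mul]; rfl
    · have hxy : x * y ∉ H := fun h => hy ((Subgroup.mul_mem_iff_of_index_two hH).1 h |>.1 hx)
      rw [f1 hx, f2 hy, f2 hxy, ← mul_assoc (χ _), ← map_mul]
      exact congrArg (χ · * e) (Subtype.ext (mul_assoc x y t))
    · have hxy : x * y ∉ H := fun h => hx ((Subgroup.mul_mem_iff_of_index_two hH).1 h |>.2 hy)
      rw [f2 hx, f1 hy, f2 hxy, ← hχ ⟨y, hy⟩ (hconj hy), mul_right_comm, ← map_mul]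
      refine congrArg (χ · * e) (Subtype.ext ?_)
      show x * y * t = x * t * (t * y * t)
      rw [mul_assoc t y t, ← mul_assoc (x * t) t, mul_assoc x t t, ht2, mul_one, ← mul_assoc]
    · have hxy : x * y ∈ H := (Subgroup.mul_mem_iff_of_index_two hH).2 (iff_of_false hx hy)
      have hty : t * y ∈ H := (Subgroup.mul_mem_iff_of_index_two hH).2 (iff_of_false ht hy)
      have h' : χ ⟨t * y, hty⟩ = χ ⟨y * t, hmul hy⟩ := by
        rw [← hχ ⟨y * t, hmul hy⟩ (hconj (hmul hy))]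
        refine congrArg χ (Subtype.ext ?_)
        show t * y = t * (y * t) * t
        rw [mul_assoc t (y * t), mul_assoc y t t, ht2, mul_one]
      rw [f2 hx, f2 hy, f1 hxy, mul_mul_mul_comm, hee, mul_one, ← h', ← map_mul]
      refine congrArg χ (Subtype.ext ?_)
      show x * y = x * t * (t * y)
      rw [← mul_assoc (x * t), mul_assoc x t t, ht2, mul_one]
  · show f t = e
    rw [f2 ht, show (⟨t * t, hmul ht⟩ : ↥H) = 1 from Subtype.ext ht2, map_one, one_mul]

/-- The group generated by the members commuting with `a, b, c`. -/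
def triGroup (D : Set G) (a b c : G) : Subgroup G := Subgroup.closure (triSet D a b c)

omit [Finite G] in
theorem triGroup_le (a b c : G) : triGroup D a b c ≤ edgeCent D a b :=
  (Subgroup.closure_le _).2 fun _ hy => mem_edgeCent_of_mem hy.1

omit [Finite G] in
theorem triGroup_swap (a b c : G) : triGroup D b a c = triGroup D a b c := by
  rw [triGroup, triGroup, triSet_swap]

omit [Finite G] in
theorem tri_commute {a b c u : G} (hu : u ∈ triGroup D a b c) {x : G}
    (hx : x ∈ Subgroup.closure ({a, b, c} : Set G)) : Commute u x := by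
  have h : Subgroup.closure ({a, b, c} : Set G) ≤ Subgroup.centralizer ({u} : Set G) := by
    refine (Subgroup.closure_le _).2 fun z hz => Subgroup.mem_centralizer_singleton_iff.2 ?_
    have hle : triGroup D a b c ≤ Subgroup.centralizer ({z} : Set G) := by
      refine (Subgroup.closure_le _).2 fun y hy => Subgroup.mem_centralizer_singleton_iff.2 ?_
      rcases hz with rfl | rfl | rfl
      exacts [hy.1.1.2.2.symm, hy.1.2.2.2.symm, hy.2.2.2.symm]
    exact (Subgroup.mem_centralizer_singleton_iff.1 (hle hu)).symm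
  exact (Subgroup.mem_centralizer_singleton_iff.1 (h hx)).symm

section Triple

variable {a b c : G}

theorem triple_sq (S : Fi24Setup D) (ha : a ∈ D) (hb : b ∈ adj D a) (hc : c ∈ adj D a ∩ adj D b) {x : G}
    (hx : x ∈ Subgroup.closure ({a, b, c} : Set G)) : x * x = 1 := by
  have hcomm : ∀ p ∈ ({a, b, c} : Set G), ∀ q ∈ ({a, b, c} : Set G), Commute p q := by
    rintro p (rfl | rfl | rfl) q (rfl | rfl | rfl)
    exacts [Commute.refl _, hb.2.2, hc.1.2.2, hb.2.2.symm, Commute.refl _, hc.2.2.2, hc.1.2.2.symm,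
      hc.2.2.2.symm, Commute.refl _]
  have hab : ∀ p ∈ Subgroup.closure ({a, b, c} : Set G), ∀ q ∈ Subgroup.closure ({a, b, c} : Set G),
      Commute p q := fun p hp q hq => by
    refine Subgroup.closure_induction (p := fun y _ => Commute p y) (fun y hy => ?_) (Commute.one_right p)
      (fun _ _ _ _ => Commute.mul_right) (fun _ _ => Commute.inv_right) hq
    exact Subgroup.closure_induction (p := fun z _ => Commute z y) (fun z hz => hcomm z hz y hy)
      (Commute.one_left y) (fun _ _ _ _ => Commute.mul_left) (fun _ _ => Commute.inv_left) hp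
  induction hx using Subgroup.closure_induction with
  | mem z hz =>
    rcases hz with rfl | rfl | rfl
    exacts [mul_self S.cls.1 ha, mul_self S.cls.1 hb.1, mul_self S.cls.1 hc.1.1]
  | one => exact one_mul 1
  | mul p q hp hq ihp ihq => rw [(hab q hq p hp).mul_mul_mul_comm, ihp, ihq, one_mul]
  | inv p _ ih => rw [← mul_inv_rev, ih, inv_one]

/-- The image of `c` in the double local quotient. -/
noncomputable abbrev imgC (S : Fi24Setup D) (ha : a ∈ D) (hb : b ∈ adj D a) (hc : c ∈ adj D a ∩ adj D b) :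
    QL (QSet D a) (qm D a b) := edgeHom S ha hb ⟨c, mem_edgeCent_of_mem hc⟩

theorem tri_mem (S : Fi24Setup D) (ha : a ∈ D) (hb : b ∈ adj D a) (hc : c ∈ adj D a ∩ adj D b)
    {z : ↥(edgeCent D a b)} (hz : (z : G) ∈ triSet D a b c) :
    edgeHom S ha hb z ∈ adj (QSet (QSet D a) (qm D a b)) (imgC S ha hb hc) :=
  ⟨edgeHom_mem S ha hb hz.1, fun e => hz.2.2.1 (congrArg Subtype.val (edgeHom_inj S ha hb hz.1 hc e)),
    (edgeHom_comm S ha hb (z := ⟨c, mem_edgeCent_of_mem hc⟩) hc hz.1).2 hz.2.2.2⟩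

theorem tri_lift (S : Fi24Setup D) (ha : a ∈ D) (hb : b ∈ adj D a) (hc : c ∈ adj D a ∩ adj D b)
    {p : QL (QSet D a) (qm D a b)} (hp : p ∈ adj (QSet (QSet D a) (qm D a b)) (imgC S ha hb hc)) :
    ∃ z : ↥(edgeCent D a b), (z : G) ∈ triSet D a b c ∧ edgeHom S ha hb z = p := by
  obtain ⟨z, hz, rfl⟩ := edgeHom_exists S ha hb hp.1
  exact ⟨z, ⟨hz, hz.1.1, fun e => hp.2.1 (congrArg _ (Subtype.ext e)),
    (edgeHom_comm S ha hb (z := ⟨c, mem_edgeCent_of_mem hc⟩) hc hz).1 hp.2.2⟩, rfl⟩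

/-- The point model of the members commuting with `a, b, c`. -/
structure TriModel {F : Type*} [Field F] [Fintype F] (D : Set G) (a b c : G) (pt : (Fin 6 → F) → G)
    (θ : ↥(triGroup D a b c) →* Cfsg.PSU 6 F 2) : Prop where
  card : Fintype.card F = 4
  mem : ∀ v, Iso v → pt v ∈ triSet D a b c
  surj : ∀ y ∈ triSet D a b c, ∃ v, Iso v ∧ pt v = y
  smul : ∀ (v : Fin 6 → F) (k : F), Iso v → k ≠ 0 → pt (k • v) = pt v
  inj : ∀ u v, Iso u → Iso v → pt u = pt v → ∃ k : F, k ≠ 0 ∧ v = k • u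
  comm : ∀ u v, Iso u → Iso v → (Commute (pt u) (pt v) ↔ hf u v = 0)
  onto : Function.Surjective θ
  image : ∀ v, Iso v → ∀ h : pt v ∈ triGroup D a b c, θ ⟨pt v, h⟩ = toPSU 6 F (tv card v)
  ker : ∀ x, θ x = 1 → (x : G) ∈ Subgroup.closure ({a, b, c} : Set G)
  conj : ∀ (u : ↥(triGroup D a b c)) (g : Cfsg.SU 6 F 2), θ u = toPSU 6 F g →
    ∀ v, Iso v → (u : G) * pt v * (u : G)⁻¹ = pt (act g v)

theorem exists_triModel (S : Fi24Setup D) (ha : a ∈ D) (hb : b ∈ adj D a) (hc : c ∈ adj D a ∩ adj D b) :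
    ∃ (F : Type) (_ : Field F) (_ : Fintype F) (pt : (Fin 6 → F) → G)
      (θ : ↥(triGroup D a b c) →* Cfsg.PSU 6 F 2), TriModel D a b c pt θ := by
  classical
  have hS2 := (S.localSetup ha).localSetup (FischerM23.qm_mem hb)
  have hcE : imgC S ha hb hc ∈ QSet (QSet D a) (qm D a b) := edgeHom_mem S ha hb hc
  obtain ⟨F, _, _, pt₂, θ₂, L⟩ := FischerM22.exists_locModel hS2 hcE
  have M := L.M
  have hF := M.card
  let E := QSet (QSet D a) (qm D a b)
  let c₂ := imgC S ha hb hc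
  let f : ↥(triGroup D a b c) →* QL (QSet D a) (qm D a b) :=
    (edgeHom S ha hb).comp (Subgroup.inclusion (triGroup_le a b c))
  have hrange : ∀ u, f u ∈ Loc E c₂ := by
    intro u
    have hle : triGroup D a b c ≤ ((Loc E c₂).comap (edgeHom S ha hb)).map (edgeCent D a b).subtype :=
      (Subgroup.closure_le _).2 fun y hy => ⟨⟨y, mem_edgeCent_of_mem hy.1⟩,
        Subgroup.subset_closure (tri_mem S ha hb hc (z := ⟨y, mem_edgeCent_of_mem hy.1⟩) hy), rfl⟩
    obtain ⟨z, hz, e⟩ := hle u.2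
    rwa [show f u = edgeHom S ha hb z from congrArg (edgeHom S ha hb) (Subtype.ext e.symm)]
  let f' : ↥(triGroup D a b c) →* ↥(Loc E c₂) := f.codRestrict _ hrange
  let θ := θ₂.comp f'
  have hf : ∀ (v : Fin 6 → F), Iso v → ∃ z : ↥(edgeCent D a b), (z : G) ∈ triSet D a b c ∧
      edgeHom S ha hb z = pt₂ v := fun v hv => tri_lift S ha hb hc (M.mem v hv)
  choose! z hz1 hz2 using hf
  let pt : (Fin 6 → F) → G := fun v => (z v : G)
  have himg : ∀ v, Iso v → ∀ h : pt v ∈ triGroup D a b c, f ⟨pt v, h⟩ = pt₂ v := fun v hv h => by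
    rw [← hz2 v hv]; rfl
  have hinj : ∀ {y y' : ↥(edgeCent D a b)}, (y : G) ∈ triSet D a b c → (y' : G) ∈ triSet D a b c →
      edgeHom S ha hb y = edgeHom S ha hb y' → (y : G) = y' := fun hy hy' h =>
    congrArg Subtype.val (edgeHom_inj S ha hb hy.1 hy'.1 h)
  refine ⟨F, inferInstance, inferInstance, pt, θ, hF, hz1, fun y hy => ?_, fun v k hv hk => ?_,
    fun u v hu hv e => ?_, fun u v hu hv => ?_, ?_, fun v hv h => ?_, fun x hx => ?_,
    fun u g hug v hv => ?_⟩
  · obtain ⟨v, hv, e⟩ := M.surj _ (tri_mem S ha hb hc (z := ⟨y, mem_edgeCent_of_mem hy.1⟩) hy)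
    exact ⟨v, hv, hinj (hz1 v hv) hy ((hz2 v hv).trans e)⟩
  · exact hinj (hz1 _ (hv.smul hF hk)) (hz1 v hv) (by rw [hz2 _ (hv.smul hF hk), hz2 v hv, M.smul v k hv hk])
  · refine M.inj u v hu hv ?_
    rw [← hz2 u hu, ← hz2 v hv, show z u = z v from Subtype.ext e]
  · rw [← M.comm u v hu hv, ← hz2 u hu, ← hz2 v hv, edgeHom_comm S ha hb (hz1 u hu).1 (hz1 v hv).1]
  · refine L.surj.comp fun q => ?_
    have hle : Loc E c₂ ≤ f.range := (Subgroup.closure_le _).2 fun p hp => by
      obtain ⟨y, hy, e⟩ := tri_lift S ha hb hc hp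
      exact ⟨⟨y, Subgroup.subset_closure hy⟩, e⟩
    obtain ⟨u, hu⟩ := hle q.2
    exact ⟨u, Subtype.ext hu⟩
  · show θ₂ (f' ⟨pt v, h⟩) = _
    have hm : pt₂ v ∈ Loc E c₂ := Subgroup.subset_closure (M.mem v hv)
    rw [show f' ⟨pt v, h⟩ = ⟨pt₂ v, hm⟩ from Subtype.ext (himg v hv h)]
    exact L.image v hv hm
  · have h1 := L.ker _ hx
    have hab : ∀ {p : G}, p = 1 ∨ p = a ∨ p = b ∨ p = a * b → p ∈ Subgroup.closure ({a, b, c} : Set G) := by
      rintro p (rfl | rfl | rfl | rfl)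
      exacts [one_mem _, Subgroup.subset_closure (by simp), Subgroup.subset_closure (by simp),
        mul_mem (Subgroup.subset_closure (by simp)) (Subgroup.subset_closure (by simp))]
    rcases (FischerM22.mem_center_loc_iff hS2 hcE _).1 h1 with h2 | h2
    · exact hab (edgeHom_ker S ha hb (z := Subgroup.inclusion (triGroup_le a b c) x) h2)
    · have h3 := edgeHom_ker S ha hb
        (z := (⟨c, mem_edgeCent_of_mem hc⟩ : ↥(edgeCent D a b))⁻¹ * Subgroup.inclusion (triGroup_le a b c) x)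
        (by rw [map_mul, map_inv, inv_mul_eq_one]; exact h2.symm)
      have h4 := hab h3
      rw [Subgroup.coe_mul, Subgroup.coe_inv] at h4
      exact (Subgroup.mul_mem_cancel_left _ (inv_mem (Subgroup.subset_closure (by simp)))).1 h4
  · have hu : ∀ p ∈ ({a, b, c} : Set G), (u : G) * p * (u : G)⁻¹ = p := fun p hp => by
      rw [(tri_commute u.2 (Subgroup.subset_closure hp)).eq, mul_inv_cancel_right]
    have hcv : ∀ {p y : G}, p ∈ ({a, b, c} : Set G) → y ∈ adj D p → (u : G) * y * (u : G)⁻¹ ∈ adj D p := by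
      intro p y hp hy
      have := (adj_conj_image S.grp.2.1 (u : G) p).symm.subset ⟨y, hy, rfl⟩
      rwa [hu p hp] at this
    have hm : (u : G) * pt v * (u : G)⁻¹ ∈ triSet D a b c :=
      ⟨⟨hcv (by simp) (hz1 v hv).1.1, hcv (by simp) (hz1 v hv).1.2⟩, hcv (by simp) (hz1 v hv).2⟩
    have hY := triGroup_le a b c u.2
    refine hinj (y := ⟨u, hY⟩ * z v * ⟨u, hY⟩⁻¹) (y' := z (act g v)) hm (hz1 _ (hv.act g)) ?_
    rw [map_mul, map_mul, map_inv, hz2 v hv, hz2 _ (hv.act g)]
    exact L.conj_pt hS2 hcE (h := f' u) hug hv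

variable {F : Type*} [Field F] [Fintype F] {pt : (Fin 6 → F) → G} {θ : ↥(triGroup D a b c) →* Cfsg.PSU 6 F 2}

/-- The group moves every member to every other. -/
theorem tri_transitive (S : Fi24Setup D) (ha : a ∈ D) (hb : b ∈ adj D a) (hc : c ∈ adj D a ∩ adj D b)
    {x y : G} (hx : x ∈ triSet D a b c) (hy : y ∈ triSet D a b c) :
    ∃ u ∈ triGroup D a b c, u * x * u⁻¹ = y := by
  obtain ⟨F, _, _, pt, θ, M⟩ := exists_triModel S ha hb hc
  obtain ⟨v, hv, rfl⟩ := M.surj x hx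
  obtain ⟨w, hw, rfl⟩ := M.surj y hy
  obtain ⟨g, hg⟩ := exists_act M.card (by norm_num) hv hw
  obtain ⟨u, hu⟩ := M.onto (toPSU 6 F g)
  exact ⟨u, u.2, by rw [M.conj u g hu v hv, hg]⟩

/-- The stabiliser of a member. -/
theorem tri_stab (S : Fi24Setup D) (ha : a ∈ D) (hb : b ∈ adj D a) (hc : c ∈ adj D a ∩ adj D b)
    {d u : G} (hd : d ∈ triSet D a b c) (hu : u ∈ triGroup D a b c) (hud : Commute u d) :
    u ∈ Subgroup.closure ({a, b, c} ∪ {y | y ∈ triSet D a b c ∧ Commute y d}) := by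
  obtain ⟨F, _, _, pt, θ, M⟩ := exists_triModel S ha hb hc
  have hF := M.card
  obtain ⟨v, hv, rfl⟩ := M.surj d hd
  obtain ⟨g, hg⟩ := QuotientGroup.mk'_surjective _ (θ ⟨u, hu⟩)
  have h1 : pt (act g v) = pt v := by
    rw [← M.conj ⟨u, hu⟩ g hg.symm v hv]
    show u * pt v * u⁻¹ = _
    rw [hud.eq, mul_inv_cancel_right]
  obtain ⟨k, -, hgv⟩ := M.inj _ _ hv (hv.act g) h1.symm
  obtain ⟨z, hz, t, ht, rfl⟩ := stab_point hF hv hgv
  set K := Subgroup.closure ({a, b, c} ∪ {y | y ∈ triSet D a b c ∧ Commute y (pt v)}) with hK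
  have hle : tvPerp F hF v ≤ ((K.subgroupOf (triGroup D a b c)).map θ).comap (toPSU 6 F) := by
    rw [tvPerp, Subgroup.closure_le]
    rintro _ ⟨w, hw, hwv, rfl⟩
    exact ⟨⟨pt w, Subgroup.subset_closure (M.mem w hw)⟩,
      Subgroup.subset_closure (Or.inr ⟨M.mem w hw, (M.comm w v hw hv).2 hwv⟩), M.image w hw _⟩
  obtain ⟨r, hr, hrθ⟩ := hle ht
  rw [SetLike.mem_coe, Subgroup.mem_subgroupOf] at hr
  have hker : θ (r⁻¹ * ⟨u, hu⟩) = 1 := by
    rw [map_mul, map_inv, hrθ, ← hg, map_mul]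
    show (toPSU 6 F t)⁻¹ * (toPSU 6 F z * toPSU 6 F t) = 1
    rw [toPSU_eq_one.2 hz, one_mul, inv_mul_cancel]
  have h2 : ((r⁻¹ * ⟨u, hu⟩ : ↥(triGroup D a b c)) : G) ∈ K :=
    Subgroup.closure_mono Set.subset_union_left (M.ker _ hker)
  rw [Subgroup.coe_mul, Subgroup.coe_inv] at h2
  exact (Subgroup.mul_mem_cancel_left _ (inv_mem hr)).1 h2

omit [Finite G] in
theorem orth_pair_six (hF : Fintype.card F = 4) : ∃ u w : Fin 6 → F, OrthPair u w := by
  refine ⟨![1, 1, 0, 0, 0, 0], ![0, 0, 1, 1, 0, 0], ⟨fun h => ?_, ?_⟩, ⟨fun h => ?_, ?_⟩, ?_, fun k hk => ?_⟩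
  · simpa using congrFun h 0
  · simp [hf, Cfsg.hermForm, Fin.sum_univ_six, add_self hF]
  · simpa using congrFun h 2
  · simp [hf, Cfsg.hermForm, Fin.sum_univ_six, add_self hF]
  · simp [hf, Cfsg.hermForm, Fin.sum_univ_six]
  · simpa using congrFun hk 2

omit [Finite G] in
theorem TriModel.line_nodup (M : TriModel D a b c pt θ) {ω : F} (hω : ω ^ 2 = ω + 1) {u w : Fin 6 → F}
    (hP : OrthPair u w) : ((linePts ω u w).map pt).Nodup := by
  have hiso := linePts_iso M.card ω hP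
  have hli := LinearIndependent.pair_iff.1 hP.li
  have key : ∀ p q : Fin 6 → F, ∀ α β α' β' : F, p = α • u + β • w → q = α' • u + β' • w →
      Iso p → Iso q → α * β' ≠ α' * β → pt p ≠ pt q := by
    intro p q α β α' β' ep eq hp hq hne e1
    obtain ⟨s, -, e2⟩ := M.inj p q hp hq e1
    rw [ep, eq, smul_add, smul_smul, smul_smul] at e2
    obtain ⟨q1, q2⟩ := hli (α' - s * α) (β' - s * β) (by
      rw [sub_smul, sub_smul, sub_add_sub_comm, e2, sub_self])
    exact hne (by linear_combination α * q2 - β * q1)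
  have hω1 : ω ≠ 1 := fun e => by
    rw [e] at hω; exact one_ne_zero (show (1 : F) = 0 by linear_combination -hω)
  have hω0 : ω ≠ 0 := fun e => by
    rw [e] at hω; exact one_ne_zero (show (1 : F) = 0 by linear_combination -hω)
  have hω2 : ω ^ 2 ≠ 1 := fun e => hω0 (by linear_combination e - hω)
  have hω3 : ω ^ 2 ≠ ω := fun e => one_ne_zero (show (1 : F) = 0 by linear_combination e - hω)
  have eu : u = (1 : F) • u + (0 : F) • w := by simp
  have ew : w = (0 : F) • u + (1 : F) • w := by simp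
  have e1 : u + w = (1 : F) • u + (1 : F) • w := by simp
  have e2 : ∀ t : F, u + t • w = (1 : F) • u + t • w := by simp
  have i0 := hiso u (by simp [linePts])
  have i1 := hiso w (by simp [linePts])
  have i2 := hiso (u + w) (by simp [linePts])
  have i3 := hiso (u + ω • w) (by simp [linePts])
  have i4 := hiso (u + ω ^ 2 • w) (by simp [linePts])
  have n01 := key _ _ _ _ _ _ eu ew i0 i1 (by simp)
  have n02 := key _ _ _ _ _ _ eu e1 i0 i2 (by simp)
  have n03 := key _ _ _ _ _ _ eu (e2 ω) i0 i3 (by simpa using hω0)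
  have n04 := key _ _ _ _ _ _ eu (e2 (ω ^ 2)) i0 i4 (by simpa using hω0)
  have n12 := key _ _ _ _ _ _ ew e1 i1 i2 (by simp)
  have n13 := key _ _ _ _ _ _ ew (e2 ω) i1 i3 (by simp)
  have n14 := key _ _ _ _ _ _ ew (e2 (ω ^ 2)) i1 i4 (by simp)
  have n23 := key _ _ _ _ _ _ e1 (e2 ω) i2 i3 (by simpa using hω1)
  have n24 := key _ _ _ _ _ _ e1 (e2 (ω ^ 2)) i2 i4 (by simpa using hω2)
  have n34 := key _ _ _ _ _ _ (e2 ω) (e2 (ω ^ 2)) i3 i4 (by simpa using hω3)
  simp only [linePts, List.map_cons, List.map_nil, List.nodup_cons, List.mem_cons,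
    List.not_mem_nil, or_false, not_or, List.nodup_nil, and_true, not_false_eq_true]
  exact ⟨⟨n01, n02, n03, n04⟩, ⟨n12, n13, n14⟩, ⟨n23, n24⟩, n34⟩

/-- Five members on a line multiply to `a b c`. -/
theorem TriModel.line_prod (M : TriModel D a b c pt θ) (S : Fi24Setup D) (ha : a ∈ D) (hb : b ∈ adj D a)
    (hc : c ∈ adj D a ∩ adj D b) {ω : F} (hω : ω ^ 2 = ω + 1) {u w : Fin 6 → F} (hP : OrthPair u w) :
    ((linePts ω u w).map pt).prod = a * b * c := by
  have hiso := linePts_iso M.card ω hP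
  have hm : ∀ p ∈ linePts ω u w, pt p ∈ triGroup D a b c := fun p hp =>
    Subgroup.subset_closure (M.mem p (hiso p hp))
  have key : ∀ L : List (Fin 6 → F), (∀ p ∈ L, Iso p) → ∃ h : (L.map pt).prod ∈ triGroup D a b c,
      θ ⟨_, h⟩ = toPSU 6 F (L.map (tv M.card)).prod := by
    intro L
    induction L with
    | nil => exact fun _ => ⟨one_mem _, (map_one θ).trans (map_one _).symm⟩
    | cons p L ih =>
      intro hL
      obtain ⟨h, e⟩ := ih fun q hq => hL q (List.mem_cons_of_mem _ hq)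
      have hp := hL p List.mem_cons_self
      have hpm : pt p ∈ triGroup D a b c := Subgroup.subset_closure (M.mem p hp)
      refine ⟨mul_mem hpm h, ?_⟩
      refine (congrArg θ (show (⟨_, mul_mem hpm h⟩ : ↥(triGroup D a b c)) = ⟨pt p, hpm⟩ * ⟨_, h⟩ from rfl)).trans ?_
      rw [map_mul, M.image p hp hpm, e, ← map_mul]
      rfl
  obtain ⟨h, e⟩ := key _ hiso
  rw [tv_line M.card hω hP, map_one] at e
  have h5 : ((linePts ω u w).map pt).prod = [pt u, pt w, pt (u + w), pt (u + ω • w), pt (u + ω ^ 2 • w)].prod := rfl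
  have hmem : ∀ y ∈ (linePts ω u w).map pt, y ∈ triSet D a b c := fun y hy => by
    obtain ⟨p, hp, rfl⟩ := List.mem_map.1 hy
    exact M.mem p (hiso p hp)
  have hcm : ∀ x ∈ (linePts ω u w).map pt, ∀ y ∈ (linePts ω u w).map pt, Commute x y := fun x hx y hy => by
    obtain ⟨p, hp, rfl⟩ := List.mem_map.1 hx
    obtain ⟨q, hq, rfl⟩ := List.mem_map.1 hy
    exact (M.comm p q (hiso p hp) (hiso q hq)).2 (linePts_mutual M.card ω hP p hp q hq)
  rw [h5]
  exact five_eq S ha hb hc (M.line_nodup hω hP) hmem hcm (h5 ▸ M.ker _ e)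

theorem tri_self_mem (S : Fi24Setup D) (ha : a ∈ D) (hb : b ∈ adj D a) (hc : c ∈ adj D a ∩ adj D b) :
    a ∈ triGroup D a b c ∧ b ∈ triGroup D a b c ∧ c ∈ triGroup D a b c := by
  obtain ⟨F, _, _, pt, θ, M⟩ := exists_triModel S ha hb hc
  obtain ⟨ω, -, hω⟩ := exists_omega M.card
  obtain ⟨u, w, hP⟩ := orth_pair_six M.card
  have hν : a * b * c ∈ triGroup D a b c := by
    rw [← M.line_prod S ha hb hc hω hP]
    refine list_prod_mem fun y hy => ?_
    obtain ⟨p, hp, rfl⟩ := List.mem_map.1 hy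
    exact Subgroup.subset_closure (M.mem p (linePts_iso M.card ω hP p hp))
  obtain ⟨hab, hac⟩ : a * b ∈ triGroup D a b c ∧ a * c ∈ triGroup D a b c := triple_gen S ha hb hc
  have hcc : c ∈ triGroup D a b c := (Subgroup.mul_mem_cancel_left _ hab).1 hν
  have haa : a ∈ triGroup D a b c := (Subgroup.mul_mem_cancel_right _ hcc).1 hac
  exact ⟨haa, (Subgroup.mul_mem_cancel_left _ haa).1 hab, hcc⟩

end Triple

/-! ### the cover with twisted transvections -/

section Cover

variable {U : Type*} [Group U] [Finite U] {F : Type*} [Field F] [Fintype F]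

/-- The twisted lifts, paired with the transvections. -/
def coverGroup (hF : Fintype.card F = 4) (p : (Fin 6 → F) → U) (ν : U) : Subgroup (U × Cfsg.SU 6 F 2) :=
  Subgroup.closure {x | ∃ v, Iso v ∧ x = (p v * ν, tv hF v)}

variable (hF : Fintype.card F = 4) {θ : U →* Cfsg.PSU 6 F 2} {p : (Fin 6 → F) → U} {ν : U}

omit [Finite U] in
theorem cover_compat (hθp : ∀ v, Iso v → θ (p v) = toPSU 6 F (tv hF v)) (hθν : θ ν = 1)
    {x : U × Cfsg.SU 6 F 2} (hx : x ∈ coverGroup hF p ν) : θ x.1 = toPSU 6 F x.2 := by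
  induction hx using Subgroup.closure_induction with
  | mem y hy =>
    obtain ⟨v, hv, rfl⟩ := hy
    exact ((map_mul θ _ _).trans (by rw [hθν, mul_one])).trans (hθp v hv)
  | one => exact (map_one θ).trans (map_one _).symm
  | mul y y' _ _ h h' =>
    exact (map_mul θ y.1 y'.1).trans ((congrArg₂ _ h h').trans (map_mul _ y.2 y'.2).symm)
  | inv y _ h => exact (map_inv θ y.1).trans ((congrArg _ h).trans (map_inv _ y.2).symm)

omit [Finite U] in
theorem cover_cube (hθp : ∀ v, Iso v → θ (p v) = toPSU 6 F (tv hF v)) (hθν : θ ν = 1)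
    (hker : ∀ x, θ x = 1 → x * x = 1) {x : U} {z : Cfsg.SU 6 F 2} (h : (x, z) ∈ coverGroup hF p ν)
    (hx : θ x = 1) : (x, (1 : Cfsg.SU 6 F 2)) ∈ coverGroup hF p ν := by
  have hz : z ∈ Subgroup.center (Cfsg.SU 6 F 2) :=
    toPSU_eq_one.1 ((cover_compat hF hθp hθν h).symm.trans hx)
  have h3 : ((x, z) : U × Cfsg.SU 6 F 2) ^ 3 ∈ coverGroup hF p ν := pow_mem h 3
  rw [Prod.pow_mk, center_cube hF (by norm_num) hz, pow_succ, pow_two, hker x hx, one_mul] at h3
  exact h3

/-- The kernel of the cover has at most four elements. -/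
theorem cover_bound (hθp : ∀ v, Iso v → θ (p v) = toPSU 6 F (tv hF v)) (hθν : θ ν = 1)
    (hker : ∀ x, θ x = 1 → x * x = 1) (hνc : ∀ u, Commute u ν) (hν2 : ν * ν = 1)
    (hpsq : ∀ v, Iso v → p v * p v = 1) (hps : ∀ (v : Fin 6 → F) (k : F), Iso v → k ≠ 0 → p (k • v) = p v)
    (hconj : ∀ (u : U) (g : Cfsg.SU 6 F 2), θ u = toPSU 6 F g → ∀ v, Iso v → u * p v * u⁻¹ = p (act g v))
    (hline : ∃ u w : Fin 6 → F, OrthPair u w ∧
      ∀ ω : F, ω ^ 2 = ω + 1 → p u * p w * p (u + w) * p (u + ω • w) * p (u + ω ^ 2 • w) = ν) :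
    {x : U | (x, (1 : Cfsg.SU 6 F 2)) ∈ coverGroup hF p ν}.ncard ≤ 4 := by
  classical
  set gens : Set (U × Cfsg.SU 6 F 2) := {x | ∃ v, Iso v ∧ x = (p v * ν, tv hF v)} with hgens
  let ψ : ↥(coverGroup hF p ν) →* Cfsg.SU 6 F 2 := (MonoidHom.snd _ _).comp (coverGroup hF p ν).subtype
  have hgen : ∀ v, Iso v → (p v * ν, tv hF v) ∈ coverGroup hF p ν := fun v hv =>
    Subgroup.subset_closure ⟨v, hv, rfl⟩
  let s : (Fin 6 → F) → ↥(coverGroup hF p ν) := fun v => if h : Iso v then ⟨_, hgen v h⟩ else 1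
  have hs : ∀ v, Iso v → (s v : U × Cfsg.SU 6 F 2) = (p v * ν, tv hF v) := fun v hv => by
    simp only [s, dif_pos hv]
  have E : Ext ψ s :=
    { card := hF
      five := by norm_num
      surj := fun g => by
        have h : g ∈ Subgroup.closure {A : Cfsg.SU 6 F 2 | ∃ v, Iso v ∧ A = tv hF v} := by
          rw [closure_tv hF (by norm_num)]; exact Subgroup.mem_top g
        have hle : Subgroup.closure {A : Cfsg.SU 6 F 2 | ∃ v, Iso v ∧ A = tv hF v} ≤ ψ.range :=
          (Subgroup.closure_le _).2 (by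
            rintro _ ⟨v, hv, rfl⟩
            exact ⟨s v, congrArg Prod.snd (hs v hv)⟩)
        exact hle h
      ker := by
        rintro ⟨⟨⟨x, z⟩, hm⟩, hx⟩
        obtain rfl : z = 1 := hx
        refine ⟨1, Subtype.ext (Subtype.ext ?_)⟩
        show ((x, (1 : Cfsg.SU 6 F 2)) : U × Cfsg.SU 6 F 2) ^ 2 ^ 1 = 1
        rw [pow_one, pow_two, Prod.mk_mul_mk, one_mul,
          hker x ((cover_compat hF hθp hθν hm).trans (map_one _))]
        rfl
      map_s := fun v hv => congrArg Prod.snd (hs v hv)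
      sq := fun v hv => Subtype.ext (by
        rw [Subgroup.coe_mul, hs v hv, Prod.mk_mul_mk, (hνc (p v)).symm.mul_mul_mul_comm, hpsq v hv, hν2,
          one_mul, tv_sq hF hv.2]
        rfl)
      smul := fun v k hv hk => Subtype.ext (by
        rw [hs _ (hv.smul hF hk), hs v hv, tv_smul hF hv hk, hps v k hv hk])
      equiv := fun x v hv => Subtype.ext (by
        rw [Subgroup.coe_mul, Subgroup.coe_mul, Subgroup.coe_inv, hs v hv, hs _ (hv.act _)]
        refine Prod.ext ?_ (tv_conj_inv hF _ hv.2)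
        show (x : U × Cfsg.SU 6 F 2).1 * (p v * ν) * ((x : U × Cfsg.SU 6 F 2).1)⁻¹ = p (act (ψ x) v) * ν
        rw [← hconj (x : U × Cfsg.SU 6 F 2).1 (ψ x) (cover_compat hF hθp hθν x.2) v hv, ← mul_assoc,
          mul_assoc _ ν,
          ← (hνc _).eq, ← mul_assoc])
      gen := by
        have e : {x : ↥(coverGroup hF p ν) | ∃ v, Iso v ∧ x = s v} = Subtype.val ⁻¹' gens := by
          ext x
          constructor
          · rintro ⟨v, hv, rfl⟩; exact ⟨v, hv, hs v hv⟩
          · rintro ⟨v, hv, e⟩; exact ⟨v, hv, Subtype.ext (e.trans (hs v hv).symm)⟩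
        rw [e]
        exact Subgroup.closure_closure_coe_preimage
      line := by
        obtain ⟨u, w, hP, hl⟩ := hline
        refine ⟨u, w, hP, fun ω hω => Subtype.ext ?_⟩
        have hi := linePts_iso hF ω hP
        have h0 := hi u (by simp [linePts])
        have h1 := hi w (by simp [linePts])
        have h2 := hi (u + w) (by simp [linePts])
        have h3 := hi (u + ω • w) (by simp [linePts])
        have h4 := hi (u + ω ^ 2 • w) (by simp [linePts])
        have ht := tv_line hF hω hP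
        simp only [linePts, List.map_cons, List.map_nil, List.prod_cons, List.prod_nil, mul_one] at ht
        simp only [lineProd, Subgroup.coe_mul, hs _ h0, hs _ h1, hs _ h2, hs _ h3, hs _ h4, Prod.mk_mul_mk]
        have hmove : ∀ x y : U, x * ν * (y * ν) = x * y := fun x y => by
          rw [(hνc y).symm.mul_mul_mul_comm, hν2, mul_one]
        rw [hmove, mul_assoc (p u * p w) _ _, show p (u + w) * ν * (p (u + ω • w) * ν) = p (u + w) * p (u + ω • w)
          from hmove _ _, ← mul_assoc (p u * p w), ← mul_assoc, hl ω hω, hν2]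
        refine Prod.ext rfl ?_
        show _ = (1 : Cfsg.SU 6 F 2)
        rw [← ht]; simp only [mul_assoc] }
  refine le_trans ?_ E.card_ker_six
  rw [← Nat.card_coe_set_eq]
  exact Nat.card_le_card_of_injective (fun x => ⟨⟨(x.1, 1), x.2⟩, rfl⟩) fun x y h =>
    Subtype.ext (congrArg (fun q : ↥ψ.ker => ((q : ↥(coverGroup hF p ν)) : U × Cfsg.SU 6 F 2).1) h)

end Cover

section Triple

variable {a b c : G}

omit [Finite G] in
theorem TriModel.map_triple {F : Type*} [Field F] [Fintype F] {pt : (Fin 6 → F) → G}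
    {θ : ↥(triGroup D a b c) →* Cfsg.PSU 6 F 2} (M : TriModel D a b c pt θ)
    {x : ↥(triGroup D a b c)} (hx : (x : G) ∈ Subgroup.closure ({a, b, c} : Set G)) : θ x = 1 := by
  have hcen : θ x ∈ Subgroup.center (Cfsg.PSU 6 F 2) := Subgroup.mem_center_iff.2 fun q => by
    obtain ⟨u, rfl⟩ := M.onto q
    rw [← map_mul, ← map_mul, show u * x = x * u from Subtype.ext (tri_commute u.2 hx).eq]
  rwa [FischerM22.center_psu_eq_bot M.card, Subgroup.mem_bot] at hcen

/-- The sign character of the group of three commuting members. -/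
theorem exists_chiTri (S : Fi24Setup D) (ha : a ∈ D) (hb : b ∈ adj D a) (hc : c ∈ adj D a ∩ adj D b) :
    ∃ χ : ↥(triGroup D a b c) →* ℤˣ,
      ∀ u : ↥(triGroup D a b c), (u : G) ∈ triSet D a b c ∪ {a, b, c} → χ u = -1 := by
  classical
  obtain ⟨F, _, _, pt, θ, M⟩ := exists_triModel S ha hb hc
  have hF := M.card
  obtain ⟨haU, hbU, hcU⟩ := tri_self_mem S ha hb hc
  let U := triGroup D a b c
  let A : ↥U := ⟨a, haU⟩
  let B : ↥U := ⟨b, hbU⟩
  let C : ↥U := ⟨c, hcU⟩
  let ν : ↥U := A * B * C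
  have kA : (A : G) ∈ Subgroup.closure ({a, b, c} : Set G) := Subgroup.subset_closure (Or.inl rfl)
  have kB : (B : G) ∈ Subgroup.closure ({a, b, c} : Set G) := Subgroup.subset_closure (Or.inr (Or.inl rfl))
  have kC : (C : G) ∈ Subgroup.closure ({a, b, c} : Set G) := Subgroup.subset_closure (Or.inr (Or.inr rfl))
  have kν : (ν : G) ∈ Subgroup.closure ({a, b, c} : Set G) := mul_mem (mul_mem kA kB) kC
  have hcomm : ∀ {x : ↥U}, (x : G) ∈ Subgroup.closure ({a, b, c} : Set G) → ∀ u : ↥U, Commute u x :=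
    fun hx u => Subtype.ext (tri_commute u.2 hx).eq
  have hsq : ∀ {x : ↥U}, (x : G) ∈ Subgroup.closure ({a, b, c} : Set G) → x * x = 1 :=
    fun hx => Subtype.ext (triple_sq S ha hb hc hx)
  have hν2 := hsq kν
  have hθν : θ ν = 1 := M.map_triple kν
  have hker : ∀ x : ↥U, θ x = 1 → x * x = 1 := fun x hx => hsq (M.ker x hx)
  have hpU : ∀ v, Iso v → pt v ∈ U := fun v hv => Subgroup.subset_closure (M.mem v hv)
  let p : (Fin 6 → F) → ↥U := fun v => if h : Iso v then ⟨pt v, hpU v h⟩ else 1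
  have hp : ∀ v, Iso v → (p v : G) = pt v := fun v hv => by simp only [p, dif_pos hv]
  have hpθ : ∀ v, Iso v → θ (p v) = toPSU 6 F (tv hF v) := fun v hv => by
    simp only [p, dif_pos hv]; exact M.image v hv (hpU v hv)
  have hpsq : ∀ v, Iso v → p v * p v = 1 := fun v hv => Subtype.ext (by
    rw [Subgroup.coe_mul, hp v hv]; exact mul_self S.cls.1 (M.mem v hv).1.1.1)
  have hline : ∃ u w : Fin 6 → F, OrthPair u w ∧
      ∀ ω : F, ω ^ 2 = ω + 1 → p u * p w * p (u + w) * p (u + ω • w) * p (u + ω ^ 2 • w) = ν := by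
    obtain ⟨u, w, hP⟩ := orth_pair_six hF
    refine ⟨u, w, hP, fun ω hω => Subtype.ext ?_⟩
    have hl := M.line_prod S ha hb hc hω hP
    have hi := linePts_iso hF ω hP
    simp only [linePts, List.map_cons, List.map_nil, List.prod_cons, List.prod_nil, mul_one] at hl
    simp only [Subgroup.coe_mul, hp u (hi _ (by simp [linePts])), hp w (hi _ (by simp [linePts])),
      hp (u + w) (hi _ (by simp [linePts])), hp (u + ω • w) (hi _ (by simp [linePts])),
      hp (u + ω ^ 2 • w) (hi _ (by simp [linePts]))]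
    show _ = a * b * c
    simpa only [mul_assoc] using hl
  have hbound := cover_bound hF hpθ hθν hker (hcomm kν) hν2 hpsq
    (fun v k hv hk => Subtype.ext (by rw [hp _ (hv.smul hF hk), hp v hv, M.smul v k hv hk]))
    (fun u g hg v hv => Subtype.ext (by
      rw [Subgroup.coe_mul, Subgroup.coe_mul, Subgroup.coe_inv, hp v hv, hp _ (hv.act g)]
      exact M.conj u g hg v hv)) hline
  let K : Set ↥U := {x | (x, (1 : Cfsg.SU 6 F 2)) ∈ coverGroup hF p ν}
  have hmove : ∀ x y : ↥U, x * ν * (y * ν) = x * y := fun x y => by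
    rw [(hcomm kν y).symm.mul_mul_mul_comm, hν2, mul_one]
  have six : ∀ {x : ↥U}, (x : G) ∈ Subgroup.closure ({a, b, c} : Set G) →
      (∃ x₁ x₂ x₃ x₄ x₅ x₆ : G, (∀ y ∈ [x₁, x₂, x₃, x₄, x₅, x₆], y ∈ triSet D a b c) ∧
        [x₁, x₂, x₃, x₄, x₅, x₆].prod = (x : G)) → x ∈ K := by
    rintro x hx ⟨x₁, x₂, x₃, x₄, x₅, x₆, hm, e⟩
    simp only [List.forall_mem_cons, List.not_mem_nil, false_implies, implies_true, and_true] at hm
    obtain ⟨m1, m2, m3, m4, m5, m6⟩ := hm
    obtain ⟨v1, hv1, r1⟩ := M.surj _ m1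
    obtain ⟨v2, hv2, r2⟩ := M.surj _ m2
    obtain ⟨v3, hv3, r3⟩ := M.surj _ m3
    obtain ⟨v4, hv4, r4⟩ := M.surj _ m4
    obtain ⟨v5, hv5, r5⟩ := M.surj _ m5
    obtain ⟨v6, hv6, r6⟩ := M.surj _ m6
    have g : ∀ v, Iso v → ((p v * ν, tv hF v) : ↥U × Cfsg.SU 6 F 2) ∈ coverGroup hF p ν :=
      fun v hv => Subgroup.subset_closure ⟨v, hv, rfl⟩
    have h := mul_mem (mul_mem (mul_mem (g v1 hv1) (g v2 hv2)) (mul_mem (g v3 hv3) (g v4 hv4)))
      (mul_mem (g v5 hv5) (g v6 hv6))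
    simp only [Prod.mk_mul_mk] at h
    rw [hmove, hmove, hmove, show p v1 * p v2 * (p v3 * p v4) * (p v5 * p v6) = x from
      Subtype.ext (by
        simp only [Subgroup.coe_mul, hp _ hv1, hp _ hv2, hp _ hv3, hp _ hv4, hp _ hv5, hp _ hv6,
          r1, r2, r3, r4, r5, r6]
        rw [← e]
        simp only [List.prod_cons, List.prod_nil, mul_one, mul_assoc])] at h
    exact cover_cube hF hpθ hθν hker h (M.map_triple hx)
  have hAB : A * B ∈ K := six (mul_mem kA kB) (six_eq S ha hb hc)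
  have hAC : A * C ∈ K := six (mul_mem kA kC) (by
    rw [← triSet_swap']
    exact six_eq S ha hc.1 ⟨hb, adj_symm hb.1 hc.2⟩)
  have hBC : B * C ∈ K := six (mul_mem kB kC) (by
    have h := six_eq S hb.1 hc.2 (c := a) ⟨adj_symm ha hb, adj_symm ha hc.1⟩
    rw [show triSet D b c a = triSet D a b c by rw [triSet_swap', triSet_swap]] at h
    exact h)
  have h1K : (1 : ↥U) ∈ K := one_mem (coverGroup hF p ν)
  have sA := hsq kA
  have sB := hsq kB
  have sC := hsq kC
  have nAB : A ≠ B := fun h => hb.2.1 (congrArg Subtype.val h).symm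
  have nAC : A ≠ C := fun h => hc.1.2.1 (congrArg Subtype.val h).symm
  have nBC : B ≠ C := fun h => hc.2.2.1 (congrArg Subtype.val h).symm
  have nA : A ≠ 1 := fun h => ne_one S.cls.1 ha (congrArg Subtype.val h)
  have nB : B ≠ 1 := fun h => ne_one S.cls.1 hb.1 (congrArg Subtype.val h)
  have nC : C ≠ 1 := fun h => ne_one S.cls.1 hc.1.1 (congrArg Subtype.val h)
  have cBA : Commute B A := hcomm kA B
  have cCA : Commute C A := hcomm kA C
  have cBC : Commute B C := hcomm kC B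
  have inv1 : ∀ {q r : ↥U}, q * q = 1 → q * r = 1 → q = r := fun h h' => mul_left_cancel (h.trans h'.symm)
  have e12 : A * B ≠ 1 := fun h => nAB (inv1 sA h)
  have e13 : A * C ≠ 1 := fun h => nAC (inv1 sA h)
  have e14 : B * C ≠ 1 := fun h => nBC (inv1 sB h)
  have e15 : ν ≠ 1 := fun h => by
    have h1 : A * B = C := inv1 (hsq (mul_mem kA kB)) h
    have h2 : imgC S ha hb hc = 1 := by
      rw [imgC, show (⟨c, mem_edgeCent_of_mem hc⟩ : ↥(edgeCent D a b)) =
        ⟨a, (self_mem_edgeCent S ha hb).1⟩ * ⟨b, (self_mem_edgeCent S ha hb).2⟩ from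
        Subtype.ext (congrArg Subtype.val h1).symm, map_mul, (edgeHom_self S ha hb).1,
        (edgeHom_self S ha hb).2, one_mul]
    exact ne_one ((S.localSetup ha).localSetup (FischerM23.qm_mem hb)).cls.1 (edgeHom_mem S ha hb hc) h2
  have e23 : A * B ≠ A * C := fun h => nBC (mul_left_cancel h)
  have e24 : A * B ≠ B * C := fun h => nAC (mul_left_cancel (cBA.eq.trans h))
  have e25 : ν ≠ A * B := fun h => nC (mul_left_cancel (h.trans (mul_one _).symm))
  have e34 : A * C ≠ B * C := fun h => nAB (mul_right_cancel h)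
  have e35 : ν ≠ A * C := fun h => nB (mul_right_cancel
    ((mul_left_cancel ((mul_assoc A B C).symm.trans h)).trans (one_mul C).symm))
  have e45 : ν ≠ B * C := fun h => nA (mul_right_cancel
    ((mul_right_cancel (b := C) h).trans (one_mul B).symm))
  have hνK : ν ∉ K := by
    intro h
    have hsub : ({1, A * B, A * C, B * C, ν} : Set ↥U) ⊆ K := by
      rintro x (rfl | rfl | rfl | rfl | rfl)
      exacts [h1K, hAB, hAC, hBC, h]
    have h5 := (Set.ncard_le_ncard hsub (Set.toFinite _)).trans hbound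
    rw [Set.ncard_insert_of_notMem (by simp [e12.symm, e13.symm, e14.symm, e15.symm]) (Set.toFinite _),
      Set.ncard_insert_of_notMem (by simp [e23, e24, e25.symm]) (Set.toFinite _),
      Set.ncard_insert_of_notMem (by simp [e34, e35.symm]) (Set.toFinite _),
      Set.ncard_pair e45.symm] at h5
    omega
  let V : Subgroup ↥U := (coverGroup hF p ν).map (MonoidHom.fst _ _)
  have hKV : ∀ {x}, x ∈ K → x ∈ V := fun h => ⟨_, h, rfl⟩
  have hνV : ν ∉ V := by
    rintro ⟨⟨x, z⟩, hx, e⟩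
    obtain rfl : x = ν := e
    exact hνK (cover_cube hF hpθ hθν hker hx hθν)
  have hpV : ∀ v, Iso v → p v * ν ∈ V := fun v hv => ⟨_, Subgroup.subset_closure ⟨v, hv, rfl⟩, rfl⟩
  have hzn : (Subgroup.zpowers ν).Normal := ⟨fun n hn g => by
    obtain ⟨j, rfl⟩ := Subgroup.mem_zpowers_iff.1 hn
    rw [((hcomm kν g).zpow_right j).eq, mul_inv_cancel_right]; exact hn⟩
  have hdec : ∀ x : ↥U, x ∈ V ∨ x * ν ∈ V := by
    intro x
    have hle : U ≤ (V ⊔ Subgroup.zpowers ν).map U.subtype := (Subgroup.closure_le _).2 fun y hy => by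
      obtain ⟨v, hv, rfl⟩ := M.surj y hy
      refine ⟨p v * ν * ν, mul_mem (Subgroup.mem_sup_left (hpV v hv))
        (Subgroup.mem_sup_right (Subgroup.mem_zpowers ν)), ?_⟩
      rw [mul_assoc, hν2, mul_one]; exact hp v hv
    obtain ⟨y, hy, e⟩ := hle x.2
    obtain rfl : y = x := Subtype.ext e
    obtain ⟨v, hv, z, hz, rfl⟩ := Subgroup.mem_sup_of_normal_right.1 hy
    obtain ⟨j, rfl⟩ := Subgroup.mem_zpowers_iff.1 hz
    have h2 : ν ^ (2 : ℤ) = 1 := by rw [zpow_two]; exact hν2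
    rcases Int.even_or_odd' j with ⟨l, rfl | rfl⟩
    · left; rwa [zpow_mul, h2, one_zpow, mul_one]
    · right; rwa [zpow_add, zpow_mul, h2, one_zpow, one_mul, zpow_one, mul_assoc, hν2, mul_one]
  have hidx : V.index = 2 := Subgroup.index_eq_two_iff.2 ⟨ν, fun x => by
    rcases hdec x with h | h
    · exact Or.inr ⟨h, fun h' => hνV ((Subgroup.mul_mem_cancel_left _ h).1 h')⟩
    · exact Or.inl ⟨h, fun h' => hνV ((Subgroup.mul_mem_cancel_left _ h').1 h)⟩⟩
  obtain ⟨χ, hχν, hχV⟩ := exists_extend V hidx hνV hν2 1 (fun _ _ => rfl) (-1)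
  refine ⟨χ, ?_⟩
  have h1 : ∀ {x : ↥U}, x ∈ V → χ x = 1 := fun h => hχV ⟨_, h⟩
  have eAB := h1 (hKV hAB)
  have eAC := h1 (hKV hAC)
  have eBC := h1 (hKV hBC)
  rw [map_mul] at eAB eAC eBC
  have eν : χ A * χ B * χ C = -1 := by rw [← map_mul, ← map_mul]; exact hχν
  rintro ⟨u, hu⟩ (h | h | h | h)
  · obtain ⟨v, hv, rfl⟩ := M.surj u h
    have h2 := h1 (hpV v hv)
    rw [map_mul, hχν] at h2
    rw [show (⟨pt v, hu⟩ : ↥U) = p v from Subtype.ext (hp v hv).symm]
    exact (mul_eq_one_iff_eq_inv.1 h2).trans (Int.units_inv_eq_self _)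
  · rw [show (⟨u, hu⟩ : ↥U) = A from Subtype.ext h]
    rwa [mul_assoc, eBC, mul_one] at eν
  · rw [show (⟨u, hu⟩ : ↥U) = B from Subtype.ext h]
    rwa [mul_comm (χ A), mul_assoc, eAC, mul_one] at eν
  · rw [show (⟨u, hu⟩ : ↥U) = C from Subtype.ext h]
    rwa [eAB, one_mul] at eν

end Triple

end Cfsg.Agent.FischerM24
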