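/-
Sign characters of the centraliser of an edge and of the local group in a group of type M(24).

Two transfers: from the stabiliser of an unordered commuting pair (index 1216215) to the centraliser of the
edge, and from there (index 31671) to the local group.

Main result (namespace `Cfsg.Agent.FischerM24`):
* `exists_chiLoc` : a character of `Loc a` that is -1 on `a` and on its neighbours.
-/
import Cfsg.Agent.Lib.FischerM24.ParityThree

set_option autoImplicit false

namespace Cfsg.Agent.FischerM24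

open Cfsg.Agent.ThreeTrans
open Cfsg.Agent.FischerM22 (adj_symm)
open Cfsg.Agent.FischerM23 (QL QSet qm qm_mem mem_loc_of_adj)

/-- Transfer of a sign character from a subgroup of odd index. -/
theorem exists_odd_transfer {K : Type*} [Group K] [Finite K] (H : Subgroup K) (φ : ↥H →* ℤˣ)
    (hodd : Odd H.index) :
    ∃ T : K →* ℤˣ, ∀ z (h : z ∈ H), z ∈ Subgroup.center K → T z = φ ⟨z, h⟩ := by
  refine ⟨MonoidHom.transfer φ, fun z h hz => ?_⟩
  rw [MonoidHom.transfer_eq_pow φ z fun k g₀ _ => by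
    rw [mul_assoc, ← Subgroup.mem_center_iff.1 (pow_mem hz k) g₀, ← mul_assoc, inv_mul_cancel, one_mul],
    show (⟨z ^ H.index, _⟩ : ↥H) = ⟨z, h⟩ ^ H.index from rfl, map_pow,
    Int.units_pow_eq_pow_mod_two, Nat.odd_iff.1 hodd, pow_one]

/-- `y c d y` moves `c` to `d`. -/
theorem swap_conj {G : Type*} [Group G] {D : Set G} (hD : Cfsg.IsThreeTranspositionSet D) {c d y : G}
    (hc : c ∈ D) (hd : d ∈ D) (hy : y ∈ D) (hcd : Commute c d) (hyc : ¬ Commute y c) (hyd : ¬ Commute y d) :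
    y * c * d * y * c * (y * c * d * y) = d := by
  calc y * c * d * y * c * (y * c * d * y) = y * c * d * (y * c * y) * c * d * y := by group
    _ = y * c * d * (c * y * c) * c * d * y := by rw [braid hD hy hc hyc]
    _ = y * (c * d * c) * (y * ((c * c) * (d * y))) := by simp only [mul_assoc]
    _ = y * d * (y * (d * y)) := by
        rw [mul_self hD hc, one_mul, show c * d * c = d by
          rw [hcd.eq, mul_assoc, mul_self hD hc, mul_one]]
    _ = (y * d * y) * (d * y) := by simp only [mul_assoc]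
    _ = d := by
        rw [braid hD hy hd hyd]
        simp only [mul_assoc, mul_self_cancel hD hd, mul_self hD hy, mul_one]

variable {G : Type*} [Group G] [Finite G] {D : Set G} {a b : G}

theorem edgeCent_conj (S : Fi24Setup D) {u x : G} (hu : u ∈ edgeCent D a b) (hx : x ∈ adj D a ∩ adj D b) :
    u * x * u⁻¹ ∈ adj D a ∩ adj D b := by
  refine ⟨conj_mem_adj_loc S hu.1 hx.1, ?_⟩
  have := (adj_conj_image S.grp.2.1 u b).symm.subset ⟨x, hx.2, rfl⟩
  rwa [show u * b * u⁻¹ = b by rw [(edgeCent_commute hu).2.eq, mul_inv_cancel_right]] at this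

/-- The centraliser of the edge is transitive on the common neighbours. -/
theorem edge_transitive (S : Fi24Setup D) (ha : a ∈ D) (hb : b ∈ adj D a) {x y : G}
    (hx : x ∈ adj D a ∩ adj D b) (hy : y ∈ adj D a ∩ adj D b) :
    ∃ u ∈ edgeCent D a b, u * x * u⁻¹ = y := by
  have hS2 := (S.localSetup ha).localSetup (qm_mem hb)
  obtain ⟨g, hg⟩ := class_conj hS2.cls (edgeHom_mem S ha hb (z := ⟨x, mem_edgeCent_of_mem hx⟩) hx)
    (edgeHom_mem S ha hb (z := ⟨y, mem_edgeCent_of_mem hy⟩) hy)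
  obtain ⟨u, rfl⟩ := edgeHom_surjective S ha hb g
  refine ⟨u, u.2, ?_⟩
  exact congrArg Subtype.val (edgeHom_inj S ha hb (z := u * ⟨x, mem_edgeCent_of_mem hx⟩ * u⁻¹)
    (w := ⟨y, mem_edgeCent_of_mem hy⟩) (edgeCent_conj S u.2 hx) hy (by rw [map_mul, map_mul, map_inv]; exact hg))

/-- The centraliser of a member in the centraliser of the edge. -/
theorem edge_stab (S : Fi24Setup D) (ha : a ∈ D) (hb : b ∈ adj D a) {c : G} (hc : c ∈ adj D a ∩ adj D b) :
    edgeCent D a b ⊓ Subgroup.centralizer ({c} : Set G) = triGroup D a b c := by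
  refine le_antisymm ?_ (le_inf (triGroup_le a b c) fun u hu => Subgroup.mem_centralizer_singleton_iff.2
    (tri_commute hu (Subgroup.subset_closure (Or.inr (Or.inr rfl)))))
  rintro u ⟨hu, huc⟩
  have hS2 := (S.localSetup ha).localSetup (qm_mem hb)
  have h1 : edgeHom S ha hb ⟨u, hu⟩ ∈ Loc (QSet (QSet D a) (qm D a b)) (imgC S ha hb hc) := by
    rw [← FischerM22.centralizer_eq_loc hS2 (edgeHom_mem S ha hb hc)]
    refine Subgroup.mem_centralizer_singleton_iff.2 (Commute.map ?_ (edgeHom S ha hb)).eq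
    exact Subtype.ext (Subgroup.mem_centralizer_singleton_iff.1 huc)
  have hle : Loc (QSet (QSet D a) (qm D a b)) (imgC S ha hb hc) ≤
      ((triGroup D a b c).subgroupOf (edgeCent D a b)).map (edgeHom S ha hb) :=
    (Subgroup.closure_le _).2 fun p hp => by
      obtain ⟨z, hz, e⟩ := tri_lift S ha hb hc hp
      exact ⟨z, Subgroup.subset_closure hz, e⟩
  obtain ⟨w, hw, e⟩ := hle h1
  have h2 := edgeHom_ker S ha hb (z := w⁻¹ * ⟨u, hu⟩) (by rw [map_mul, map_inv, e, inv_mul_cancel])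
  obtain ⟨haU, hbU, -⟩ := tri_self_mem S ha hb hc
  have h3 : ((w⁻¹ * ⟨u, hu⟩ : ↥(edgeCent D a b)) : G) ∈ triGroup D a b c := by
    rcases h2 with h | h | h | h <;> rw [h]
    exacts [one_mem _, haU, hbU, mul_mem haU hbU]
  rw [Subgroup.coe_mul, Subgroup.coe_inv] at h3
  exact (Subgroup.mul_mem_cancel_left _ (inv_mem hw)).1 h3

theorem edge_card (S : Fi24Setup D) (ha : a ∈ D) (hb : b ∈ adj D a) {c : G} (hc : c ∈ adj D a ∩ adj D b) :
    Nat.card ↥(edgeCent D a b) = 3510 * Nat.card ↥(triGroup D a b c) := by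
  have h := FischerM22.card_orbit_mul (edgeCent D a b) c c
  have e : {p : G × G | ∃ u ∈ edgeCent D a b, u * c * u⁻¹ = p.1 ∧ u * c * u⁻¹ = p.2}
      = (fun x : G => (x, x)) '' (adj D a ∩ adj D b) := by
    ext ⟨x, y⟩
    constructor
    · rintro ⟨u, hu, rfl, rfl⟩
      exact ⟨_, edgeCent_conj S hu hc, rfl⟩
    · rintro ⟨z, hz, e'⟩
      obtain ⟨rfl, rfl⟩ := Prod.ext_iff.1 e'
      obtain ⟨u, hu, rfl⟩ := edge_transitive S ha hb hc hz
      exact ⟨u, hu, rfl, rfl⟩
  rwa [e, Set.ncard_image_of_injective _ fun x y h => congrArg Prod.fst h, common_ncard S ha hb, inf_assoc,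
    inf_idem, edge_stab S ha hb hc] at h

theorem tri_card (S : Fi24Setup D) (ha : a ∈ D) (hb : b ∈ adj D a) {c d : G} (hc : c ∈ adj D a ∩ adj D b)
    (hd : d ∈ triSet D a b c) :
    Nat.card ↥(triGroup D a b c) = 693 * Nat.card ↥(triGroup D a b c ⊓ Subgroup.centralizer ({d} : Set G)) := by
  have h := FischerM22.card_orbit_mul (triGroup D a b c) d d
  have e : {p : G × G | ∃ u ∈ triGroup D a b c, u * d * u⁻¹ = p.1 ∧ u * d * u⁻¹ = p.2}
      = (fun x : G => (x, x)) '' triSet D a b c := by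
    ext ⟨x, y⟩
    constructor
    · rintro ⟨u, hu, rfl, rfl⟩
      refine ⟨_, ⟨edgeCent_conj S (triGroup_le a b c hu) hd.1, ?_⟩, rfl⟩
      have := (adj_conj_image S.grp.2.1 u c).symm.subset ⟨d, hd.2, rfl⟩
      rwa [show u * c * u⁻¹ = c by
        rw [(tri_commute hu (Subgroup.subset_closure (Or.inr (Or.inr rfl)))).eq, mul_inv_cancel_right]] at this
    · rintro ⟨z, hz, e'⟩
      obtain ⟨rfl, rfl⟩ := Prod.ext_iff.1 e'
      obtain ⟨u, hu, rfl⟩ := tri_transitive S ha hb hc hd hz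
      exact ⟨u, hu, rfl, rfl⟩
  rwa [e, Set.ncard_image_of_injective _ fun x y h => congrArg Prod.fst h,
    show (triSet D a b c).ncard = 693 from triple_ncard S ha hb hc.1 hc.2.2.1.symm hc.2.2.2,
    inf_assoc, inf_idem] at h

/-- A common neighbour commuting with neither of two commuting ones. -/
theorem exists_far_pair (S : Fi24Setup D) (ha : a ∈ D) (hb : b ∈ adj D a) {c d : G}
    (hc : c ∈ adj D a ∩ adj D b) (hd : d ∈ adj D a ∩ adj D b) :
    ∃ y ∈ adj D a ∩ adj D b, ¬ Commute y c ∧ ¬ Commute y d := by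
  by_contra hcon
  have hsub : adj D a ∩ adj D b ⊆ ({c, d} : Set G) ∪ (triSet D a b c ∪ triSet D a b d) := by
    intro y hy
    by_cases h1 : y = c
    · exact Or.inl (Or.inl h1)
    by_cases h2 : y = d
    · exact Or.inl (Or.inr h2)
    by_cases h3 : Commute y c
    · exact Or.inr (Or.inl ⟨hy, hy.1.1, h1, h3.symm⟩)
    by_cases h4 : Commute y d
    · exact Or.inr (Or.inr ⟨hy, hy.1.1, h2, h4.symm⟩)
    exact absurd ⟨y, hy, h3, h4⟩ hcon
  have h := ((Set.ncard_le_ncard hsub (Set.toFinite _)).trans (Set.ncard_union_le _ _)).trans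
    (Nat.add_le_add ((Set.ncard_insert_le _ _).trans (by rw [Set.ncard_singleton])) (Set.ncard_union_le _ _))
  rw [common_ncard S ha hb, show (triSet D a b c).ncard = 693 from
    triple_ncard S ha hb hc.1 hc.2.2.1.symm hc.2.2.2, show (triSet D a b d).ncard = 693 from
    triple_ncard S ha hb hd.1 hd.2.2.1.symm hd.2.2.2] at h
  omega

/-- The sign character of the centraliser of an edge. -/
theorem exists_chiEdge (S : Fi24Setup D) (ha : a ∈ D) (hb : b ∈ adj D a) :
    ∃ χ : ↥(edgeCent D a b) →* ℤˣ,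
      ∀ u : ↥(edgeCent D a b), (u : G) ∈ adj D a ∩ adj D b ∪ {a, b} → χ u = -1 := by
  classical
  have hD := S.cls.1
  obtain ⟨c, hc⟩ : (adj D a ∩ adj D b).Nonempty := by
    rw [← Set.ncard_pos (Set.toFinite _), common_ncard S ha hb]; norm_num
  obtain ⟨d, hd⟩ : (triSet D a b c).Nonempty := by
    rw [← Set.ncard_pos (Set.toFinite _), show (triSet D a b c).ncard = 693 from
      triple_ncard S ha hb hc.1 hc.2.2.1.symm hc.2.2.2]
    norm_num
  have hdM := hd.1
  have hcd : Commute c d := hd.2.2.2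
  obtain ⟨y, hy, hyc, hyd⟩ := exists_far_pair S ha hb hc hdM
  obtain ⟨haU, hbU, hcU⟩ := tri_self_mem S ha hb hc
  obtain ⟨χU, hχU⟩ := exists_chiTri S ha hb hc
  set C := triGroup D a b c ⊓ Subgroup.centralizer ({d} : Set G) with hC
  have hCY : C ≤ edgeCent D a b := inf_le_left.trans (triGroup_le a b c)
  have hCfix : ∀ {x}, x ∈ C → x * c * x⁻¹ = c ∧ x * d * x⁻¹ = d := fun {x} hx => by
    refine ⟨?_, ?_⟩
    · rw [(tri_commute hx.1 (Subgroup.subset_closure (Or.inr (Or.inr rfl)))).eq, mul_inv_cancel_right]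
    · rw [(Subgroup.mem_centralizer_singleton_iff.1 hx.2 : x * d = d * x), mul_inv_cancel_right]
  have hinvfix : ∀ {x p q : G}, x * p * x⁻¹ = q → x⁻¹ * q * x⁻¹⁻¹ = p := fun h => by rw [← h]; group
  have hcomp : ∀ {x z p q r : G}, z * p * z⁻¹ = q → x * q * x⁻¹ = r → x * z * p * (x * z)⁻¹ = r := fun h h' => by
    rw [← h', ← h]; group
  -- the stabiliser of the unordered pair
  let N : Subgroup G :=
    { carrier := {x | x ∈ edgeCent D a b ∧
        ((x * c * x⁻¹ = c ∧ x * d * x⁻¹ = d) ∨ (x * c * x⁻¹ = d ∧ x * d * x⁻¹ = c))}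
      one_mem' := ⟨one_mem _, Or.inl ⟨by group, by group⟩⟩
      mul_mem' := by
        rintro x z ⟨hx, hx'⟩ ⟨hz, hz'⟩
        refine ⟨mul_mem hx hz, ?_⟩
        rcases hx' with ⟨h1, h2⟩ | ⟨h1, h2⟩ <;> rcases hz' with ⟨k1, k2⟩ | ⟨k1, k2⟩
        exacts [Or.inl ⟨hcomp k1 h1, hcomp k2 h2⟩, Or.inr ⟨hcomp k1 h2, hcomp k2 h1⟩,
          Or.inr ⟨hcomp k1 h1, hcomp k2 h2⟩, Or.inl ⟨hcomp k1 h2, hcomp k2 h1⟩]
      inv_mem' := by
        rintro x ⟨hx, hx'⟩
        refine ⟨inv_mem hx, ?_⟩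
        rcases hx' with ⟨h1, h2⟩ | ⟨h1, h2⟩
        exacts [Or.inl ⟨hinvfix h1, hinvfix h2⟩, Or.inr ⟨hinvfix h2, hinvfix h1⟩] }
  have hNY : N ≤ edgeCent D a b := fun x hx => hx.1
  have hCN : C ≤ N := fun x hx => ⟨hCY hx, Or.inl (hCfix hx)⟩
  have hfixC : ∀ {x}, x ∈ edgeCent D a b → x * c * x⁻¹ = c → x * d * x⁻¹ = d → x ∈ C := fun {x} hx h1 h2 => by
    refine ⟨?_, Subgroup.mem_centralizer_singleton_iff.2 (mul_inv_eq_iff_eq_mul.1 h2)⟩
    rw [← edge_stab S ha hb hc]
    exact ⟨hx, Subgroup.mem_centralizer_singleton_iff.2 (mul_inv_eq_iff_eq_mul.1 h1)⟩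
  -- the swap
  let t : G := y * c * d * y
  have hmy := mem_edgeCent_of_mem hy
  have htY : t ∈ edgeCent D a b :=
    mul_mem (mul_mem (mul_mem hmy (mem_edgeCent_of_mem hc)) (mem_edgeCent_of_mem hdM)) hmy
  have ht2 : t * t = 1 := by
    calc y * c * d * y * (y * c * d * y) = y * (c * (d * ((y * y) * (c * (d * y))))) := by simp only [mul_assoc]
      _ = y * ((c * d) * (c * d)) * y := by rw [mul_self hD hy.1.1, one_mul]; simp only [mul_assoc]
      _ = 1 := by
          rw [hcd.symm.mul_mul_mul_comm, mul_self hD hc.1.1, mul_self hD hdM.1.1, one_mul, mul_one,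
            mul_self hD hy.1.1]
  have htinv : t⁻¹ = t := inv_eq_of_mul_eq_one_left ht2
  have htc : t * c * t⁻¹ = d := by
    rw [htinv]; exact swap_conj hD hc.1.1 hdM.1.1 hy.1.1 hcd hyc hyd
  have htd : t * d * t⁻¹ = c := by
    rw [htinv, show t = y * d * c * y by rw [show y * d * c = y * c * d by rw [mul_assoc, ← hcd.eq, ← mul_assoc]]]
    exact swap_conj hD hdM.1.1 hc.1.1 hy.1.1 hcd.symm hyd hyc
  have htN : t ∈ N := ⟨htY, Or.inr ⟨htc, htd⟩⟩
  have hdc : d ≠ c := hd.2.2.1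
  have htC : t ∉ C := fun h => hdc (htc.symm.trans (hCfix h).1)
  have hidxC : (C.subgroupOf N).index = 2 := by
    refine Subgroup.index_eq_two_iff.2 ⟨⟨t, htN⟩, fun x => ?_⟩
    simp only [Subgroup.mem_subgroupOf, Subgroup.coe_mul]
    rcases x.2.2 with ⟨h1, h2⟩ | ⟨h1, h2⟩
    · refine Or.inr ⟨hfixC x.2.1 h1 h2, fun h => hdc ?_⟩
      exact ((hcomp htc h2).symm.trans (hCfix h).1)
    · refine Or.inl ⟨hfixC (mul_mem x.2.1 htY) (hcomp htc h2) (hcomp htd h1), fun h => hdc ?_⟩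
      exact h1.symm.trans (hCfix h).1
  -- invariance of the character under the swap
  have hgens : ∀ {x}, x ∈ C → ∃ (h : x ∈ triGroup D a b c) (h' : t * x * t ∈ triGroup D a b c),
      χU ⟨t * x * t, h'⟩ = χU ⟨x, h⟩ := by
    intro x hx
    have hgen := tri_stab S ha hb hc hd hx.1 (Subgroup.mem_centralizer_singleton_iff.1 hx.2)
    clear hx
    induction hgen using Subgroup.closure_induction with
    | mem z hz =>
      obtain ⟨hta, htb⟩ := edgeCent_commute htY
      have key : z ∈ triSet D a b c ∪ {a, b, c} ∧ t * z * t ∈ triSet D a b c ∪ {a, b, c} := by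
        rcases hz with (rfl | rfl | rfl) | ⟨hz, hzd⟩
        · exact ⟨Or.inr (Or.inl rfl), Or.inr (Or.inl (by rw [hta.eq, mul_assoc, ht2, mul_one]))⟩
        · exact ⟨Or.inr (Or.inr (Or.inl rfl)), Or.inr (Or.inr (Or.inl (by rw [htb.eq, mul_assoc, ht2, mul_one])))⟩
        · refine ⟨Or.inr (Or.inr (Or.inr rfl)), Or.inl ?_⟩
          rw [show t * z * t = d by rw [← htc, htinv]]; exact hd
        · refine ⟨Or.inl hz, ?_⟩
          rw [show t * z * t = t * z * t⁻¹ by rw [htinv]]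
          have h1 := edgeCent_conj S htY hz.1
          by_cases e : t * z * t⁻¹ = c
          · exact Or.inr (Or.inr (Or.inr e))
          refine Or.inl ⟨h1, h1.1.1, e, ?_⟩
          rw [← htd]
          exact hzd.symm.map (MulAut.conj t).toMonoidHom
      have mem : ∀ {w}, w ∈ triSet D a b c ∪ {a, b, c} → w ∈ triGroup D a b c := by
        rintro w (h | rfl | rfl | rfl)
        exacts [Subgroup.subset_closure h, haU, hbU, hcU]
      exact ⟨mem key.1, mem key.2, (hχU _ key.2).trans (hχU ⟨z, mem key.1⟩ key.1).symm⟩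
    | one =>
      refine ⟨one_mem _, by rw [mul_one, ht2]; exact one_mem _, congrArg χU (Subtype.ext ?_)⟩
      show t * 1 * t = 1
      rw [mul_one, ht2]
    | mul p q _ _ ihp ihq =>
      obtain ⟨hp, hp', ep⟩ := ihp
      obtain ⟨hq, hq', eq⟩ := ihq
      have e : t * (p * q) * t = t * p * t * (t * q * t) := by
        rw [show t * p * t * (t * q * t) = t * p * (t * t) * q * t by group, ht2]; group
      refine ⟨mul_mem hp hq, e ▸ mul_mem hp' hq', ?_⟩
      rw [show (⟨t * (p * q) * t, _⟩ : ↥(triGroup D a b c)) = ⟨_, hp'⟩ * ⟨_, hq'⟩ from Subtype.ext e, map_mul,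
        ep, eq, ← map_mul]
      rfl
    | inv p _ ih =>
      obtain ⟨hp, hp', ep⟩ := ih
      have e : t * p⁻¹ * t = (t * p * t)⁻¹ := by
        rw [show (t * p * t)⁻¹ = t⁻¹ * p⁻¹ * t⁻¹ by group, htinv]
      refine ⟨inv_mem hp, e ▸ inv_mem hp', ?_⟩
      rw [show (⟨t * p⁻¹ * t, _⟩ : ↥(triGroup D a b c)) = ⟨_, hp'⟩⁻¹ from Subtype.ext e, map_inv, ep, ← map_inv]
      rfl
  let ι : ↥(C.subgroupOf N) →* ↥(triGroup D a b c) :=
    (Subgroup.inclusion (inf_le_left : C ≤ triGroup D a b c)).comp (Subgroup.subgroupOfEquivOfLe hCN).toMonoidHom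
  obtain ⟨φ, -, hφ⟩ := exists_extend (C.subgroupOf N) hidxC (t := ⟨t, htN⟩) htC (Subtype.ext ht2)
    (χU.comp ι) (fun h h' => by
      obtain ⟨hh, hh', e⟩ := hgens (x := ((h : ↥N) : G)) h.2
      exact e) 1
  -- transfer
  let H := N.subgroupOf (edgeCent D a b)
  let φ' : ↥H →* ℤˣ := φ.comp (Subgroup.subgroupOfEquivOfLe hNY).toMonoidHom
  have hcardN : Nat.card ↥N = Nat.card ↥C * 2 := by
    rw [← Subgroup.card_mul_index (C.subgroupOf N), hidxC,
      Nat.card_congr (Subgroup.subgroupOfEquivOfLe hCN).toEquiv]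
  have hodd : Odd H.index := by
    have h := Subgroup.card_mul_index H
    rw [Nat.card_congr (Subgroup.subgroupOfEquivOfLe hNY).toEquiv, hcardN, edge_card S ha hb hc,
      tri_card S ha hb hc hd, ← hC] at h
    have hpos : 0 < Nat.card ↥C := Nat.card_pos
    have h' : Nat.card ↥C * (2 * H.index) = Nat.card ↥C * 2432430 := by
      rw [← mul_assoc, h]; ring
    have := Nat.eq_of_mul_eq_mul_left hpos h'
    exact ⟨608107, by omega⟩
  obtain ⟨T, hT⟩ := exists_odd_transfer H φ' hodd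
  refine ⟨T, ?_⟩
  obtain ⟨haY, hbY⟩ := self_mem_edgeCent S ha hb
  have hcen : ∀ {z : G} (h : z ∈ edgeCent D a b), z = a ∨ z = b → T ⟨z, h⟩ = -1 := by
    intro z h hz
    have hzU : z ∈ triGroup D a b c := by rcases hz with rfl | rfl; exacts [haU, hbU]
    have hzC : z ∈ C := ⟨hzU, Subgroup.mem_centralizer_singleton_iff.2 (by
      rcases hz with rfl | rfl
      exacts [hdM.1.2.2, hdM.2.2.2])⟩
    have hcen' : (⟨z, h⟩ : ↥(edgeCent D a b)) ∈ Subgroup.center _ := Subgroup.mem_center_iff.2 fun u =>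
      Subtype.ext (by
        rcases hz with rfl | rfl
        exacts [(edgeCent_commute u.2).1, (edgeCent_commute u.2).2])
    rw [hT ⟨z, h⟩ (hCN hzC) hcen']
    refine (hφ ⟨⟨z, hCN hzC⟩, hzC⟩).trans (hχU _ (Or.inr ?_))
    rcases hz with rfl | rfl
    exacts [Or.inl rfl, Or.inr (Or.inl rfl)]
  have hMeq : ∀ {u v : ↥(edgeCent D a b)}, (u : G) ∈ adj D a ∩ adj D b → (v : G) ∈ adj D a ∩ adj D b →
      T u = T v := by
    intro u v hu hv
    obtain ⟨g, hg, e⟩ := edge_transitive S ha hb hu hv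
    rw [show v = ⟨g, hg⟩ * u * ⟨g, hg⟩⁻¹ from Subtype.ext e.symm, map_mul, map_mul, map_inv, mul_comm,
      inv_mul_cancel_left]
  -- the value on the common neighbours
  set τ := T ⟨c, mem_edgeCent_of_mem hc⟩ with hτ
  have hτ1 : τ = -1 := by
    obtain ⟨x₁, x₂, x₃, x₄, x₅, x₆, hm, e⟩ := six_eq S hb.1 hc.2 (c := a) ⟨adj_symm ha hb, adj_symm ha hc.1⟩
    have hval : ∀ L : List G, (∀ z ∈ L, z ∈ adj D a ∩ adj D b) →
        ∃ h : L.prod ∈ edgeCent D a b, T ⟨L.prod, h⟩ = τ ^ L.length := by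
      intro L
      induction L with
      | nil => exact fun _ => ⟨one_mem _, (map_one T).trans (pow_zero _).symm⟩
      | cons z L ih =>
        intro hL
        obtain ⟨h, e1⟩ := ih fun w hw => hL w (List.mem_cons_of_mem _ hw)
        have hz := hL z List.mem_cons_self
        refine ⟨mul_mem (mem_edgeCent_of_mem hz) h, ?_⟩
        refine (congrArg T (show (⟨_, mul_mem (mem_edgeCent_of_mem hz) h⟩ : ↥(edgeCent D a b)) =
          ⟨z, mem_edgeCent_of_mem hz⟩ * ⟨_, h⟩ from rfl)).trans ?_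
        rw [map_mul, hMeq (v := ⟨c, mem_edgeCent_of_mem hc⟩) hz hc, e1, List.length_cons, pow_succ']
    obtain ⟨h6, e6⟩ := hval [x₁, x₂, x₃, x₄, x₅, x₆] fun z hz => by
      have := hm z hz
      exact ⟨this.2, this.1.1⟩
    rw [show (⟨_, h6⟩ : ↥(edgeCent D a b)) = ⟨b, hbY⟩ * ⟨c, mem_edgeCent_of_mem hc⟩ from Subtype.ext e, map_mul,
      hcen hbY (Or.inr rfl), ← hτ, Int.units_pow_eq_pow_mod_two] at e6
    simpa [neg_eq_iff_eq_neg] using e6
  rintro u (hu | hu)
  · rw [hMeq (v := ⟨c, mem_edgeCent_of_mem hc⟩) hu hc]; exact hτ1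
  · exact hcen u.2 hu

/-- The sign character of the local group. -/
theorem exists_chiLoc (S : Fi24Setup D) (ha : a ∈ D) :
    ∃ χ : ↥(Loc D a) →* ℤˣ, ∀ u : ↥(Loc D a), (u : G) ∈ adj D a ∪ {a} → χ u = -1 := by
  classical
  obtain ⟨b, hb⟩ := S.adj_nonempty ha
  obtain ⟨χY, hχY⟩ := exists_chiEdge S ha hb
  have hYL : edgeCent D a b ≤ Loc D a := inf_le_left
  let H := (edgeCent D a b).subgroupOf (Loc D a)
  have hodd : Odd H.index := by
    have h := FischerM22.card_orbit_mul (Loc D a) b b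
    have e : {p : G × G | ∃ u ∈ Loc D a, u * b * u⁻¹ = p.1 ∧ u * b * u⁻¹ = p.2}
        = (fun x : G => (x, x)) '' adj D a := by
      ext ⟨x, y⟩
      constructor
      · rintro ⟨u, hu, rfl, rfl⟩
        exact ⟨_, conj_mem_adj_loc S hu hb, rfl⟩
      · rintro ⟨z, hz, e'⟩
        obtain ⟨rfl, rfl⟩ := Prod.ext_iff.1 e'
        obtain ⟨u, hu, rfl⟩ := loc_transitive S.cls S.two_members S.cores ha hb hz
        exact ⟨u, hu, rfl, rfl⟩
    rw [e, Set.ncard_image_of_injective _ fun x y h => congrArg Prod.fst h, adj_ncard S ha, inf_assoc,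
      inf_idem] at h
    have h' := Subgroup.card_mul_index H
    rw [Nat.card_congr (Subgroup.subgroupOfEquivOfLe hYL).toEquiv, h, mul_comm] at h'
    have := Nat.eq_of_mul_eq_mul_right (Nat.card_pos) h'
    exact ⟨15835, by omega⟩
  obtain ⟨T, hT⟩ := exists_odd_transfer H (χY.comp (Subgroup.subgroupOfEquivOfLe hYL).toMonoidHom) hodd
  refine ⟨T, ?_⟩
  have haL := mem_loc_self S ha
  have hTa : T ⟨a, haL⟩ = -1 := by
    rw [hT ⟨a, haL⟩ (self_mem_edgeCent S ha hb).1 ((mem_center_loc_iff S ha _).2 (Or.inr rfl))]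
    exact hχY _ (Or.inr (Or.inl rfl))
  have hconst : ∀ {u v : ↥(Loc D a)}, (u : G) ∈ adj D a → (v : G) ∈ adj D a → T u = T v := by
    intro u v hu hv
    obtain ⟨g, hg, e⟩ := loc_transitive S.cls S.two_members S.cores ha hu hv
    rw [show v = ⟨g, hg⟩ * u * ⟨g, hg⟩⁻¹ from Subtype.ext e.symm, map_mul, map_mul, map_inv, mul_comm,
      inv_mul_cancel_left]
  set τ := T ⟨b, mem_loc_of_adj hb⟩ with hτ
  have hτ1 : τ = -1 := by
    obtain ⟨c, hc⟩ : (adj D a ∩ adj D b).Nonempty := by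
      rw [← Set.ncard_pos (Set.toFinite _), common_ncard S ha hb]; norm_num
    obtain ⟨x₁, x₂, x₃, x₄, x₅, x₆, hm, e⟩ := six_eq S ha hb hc
    have hval : ∀ L : List G, (∀ z ∈ L, z ∈ adj D a) → ∃ h : L.prod ∈ Loc D a, T ⟨L.prod, h⟩ = τ ^ L.length := by
      intro L
      induction L with
      | nil => exact fun _ => ⟨one_mem _, (map_one T).trans (pow_zero _).symm⟩
      | cons z L ih =>
        intro hL
        obtain ⟨h, e1⟩ := ih fun w hw => hL w (List.mem_cons_of_mem _ hw)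
        have hz := hL z List.mem_cons_self
        refine ⟨mul_mem (mem_loc_of_adj hz) h, ?_⟩
        refine (congrArg T (show (⟨_, mul_mem (mem_loc_of_adj hz) h⟩ : ↥(Loc D a)) =
          ⟨z, mem_loc_of_adj hz⟩ * ⟨_, h⟩ from rfl)).trans ?_
        rw [map_mul, hconst (v := ⟨b, mem_loc_of_adj hb⟩) hz hb, e1, List.length_cons, pow_succ']
    obtain ⟨h6, e6⟩ := hval [x₁, x₂, x₃, x₄, x₅, x₆] fun z hz => (hm z hz).1.1
    rw [show (⟨_, h6⟩ : ↥(Loc D a)) = ⟨a, haL⟩ * ⟨b, mem_loc_of_adj hb⟩ from Subtype.ext e, map_mul, hTa, ← hτ,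
      Int.units_pow_eq_pow_mod_two] at e6
    simpa [neg_eq_iff_eq_neg] using e6
  rintro u (hu | hu)
  · rw [hconst (v := ⟨b, mem_loc_of_adj hb⟩) hu hb]; exact hτ1
  · rw [show u = ⟨a, haL⟩ from Subtype.ext hu]; exact hTa

end Cfsg.Agent.FischerM24
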