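/-
Parity in a group of type M(24): monodromy on the signed members shows that the group has a character
that is -1 on every member, so the layer has index two.

Main results (namespace `Cfsg.Agent.FischerM24`):
* `sgnSet_mono` : the signed members satisfy the local conditions for monodromy;
* `exists_parity` : a homomorphism onto `ℤˣ` that is -1 on the members;
* `layer_eq_commutator`, `layer_index` : the layer is the commutator subgroup and has index two.
-/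
import Cfsg.Agent.Lib.FischerM24.ParityPair
import Cfsg.Agent.Lib.FischerM24.Total

set_option autoImplicit false

namespace Cfsg.Agent.FischerM24

open Cfsg.Agent.ThreeTrans Cfsg.Agent.ThreeTransSU
open Cfsg.Agent.FischerM22 (adj_symm)
open Cfsg.Agent.FischerM23 (mem_loc_of_adj commute_of_mem_closure_common)

variable {G : Type*} [Group G] {D : Set G}

/-- A member with the sign -1. -/
def sgn (x : G) : G × ℤˣ := (x, -1)

/-- The signed members. -/
def sgnSet (D : Set G) : Set (G × ℤˣ) := sgn '' D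

theorem sgn_inj : Function.Injective (sgn : G → G × ℤˣ) := fun _ _ h => congrArg Prod.fst h

theorem sgn_comm {x y : G} : Commute (sgn x) (sgn y) ↔ Commute x y :=
  ⟨fun h => h.map (MonoidHom.fst G ℤˣ), fun h => Prod.ext h.eq (mul_comm _ _)⟩

theorem sgn_adj (a : G) : adj (sgnSet D) (sgn a) = sgn '' adj D a := by
  ext q
  constructor
  · rintro ⟨⟨y, hy, rfl⟩, hne, hc⟩
    exact ⟨y, ⟨hy, fun e => hne (congrArg sgn e), sgn_comm.1 hc⟩, rfl⟩
  · rintro ⟨y, ⟨hy, hne, hc⟩, rfl⟩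
    exact ⟨⟨y, hy, rfl⟩, fun e => hne (sgn_inj e), sgn_comm.2 hc⟩

theorem sgn_common (a b : G) : common (sgnSet D) (sgn a) (sgn b) = sgn '' common D a b := by
  rw [common, common, sgn_adj, sgn_adj, Set.image_inter sgn_inj]

theorem sgnSet_set (h : Cfsg.IsThreeTranspositionSet D) : Cfsg.IsThreeTranspositionSet (sgnSet D) := by
  refine ⟨?_, ?_⟩
  · rintro _ ⟨x, hx, rfl⟩
    refine orderOf_eq_prime ?_ fun e => ne_one h hx (congrArg Prod.fst e)
    rw [pow_two]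
    exact Prod.ext (mul_self h hx) (Int.units_mul_self _)
  · rintro _ ⟨x, hx, rfl⟩ _ ⟨y, hy, rfl⟩
    have e : sgn x * sgn y = (x * y, 1) := Prod.ext rfl (Int.units_mul_self _)
    rw [e]
    refine (h.2 x hx y hy).imp (fun h2 => ?_) fun h3 => ?_ <;>
      simp [Prod.pow_mk, *]

variable [Finite G]

/-- An element over a member of the signed local group, and its sign. -/
theorem loc_sgn (S : Fi24Setup D) {a : G} (ha : a ∈ D) (χ : ↥(Loc D a) →* ℤˣ)
    (hχ : ∀ u : ↥(Loc D a), (u : G) ∈ adj D a ∪ {a} → χ u = -1) (q : G × ℤˣ) :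
    q ∈ Loc (sgnSet D) (sgn a) ↔ ∃ h : q.1 ∈ Loc D a, q.2 = χ ⟨q.1, h⟩ := by
  have hle : Loc (sgnSet D) (sgn a) ≤
      (MonoidHom.prod (Loc D a).subtype χ).range := by
    refine (Subgroup.closure_le _).2 ?_
    rw [sgn_adj]
    rintro _ ⟨y, hy, rfl⟩
    exact ⟨⟨y, mem_loc_of_adj hy⟩, Prod.ext rfl (hχ _ (Or.inl hy))⟩
  constructor
  · intro hq
    obtain ⟨u, rfl⟩ := hle hq
    exact ⟨u.2, rfl⟩
  · rintro ⟨h, e⟩
    have hsurj : Loc D a ≤ (Loc (sgnSet D) (sgn a)).map (MonoidHom.fst G ℤˣ) := by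
      refine (Subgroup.closure_le _).2 fun y hy => ⟨sgn y, Subgroup.subset_closure ?_, rfl⟩
      rw [sgn_adj]; exact ⟨y, hy, rfl⟩
    obtain ⟨q', hq', e'⟩ := hsurj h
    obtain ⟨u, rfl⟩ := hle hq'
    rwa [show q = MonoidHom.prod (Loc D a).subtype χ u from
      Prod.ext e'.symm (e.trans (congrArg χ (Subtype.ext e'.symm)))]

theorem sgn_self_loc (S : Fi24Setup D) {a : G} (ha : a ∈ D) : sgn a ∈ Loc (sgnSet D) (sgn a) := by
  obtain ⟨χ, hχ⟩ := exists_chiLoc S ha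
  exact (loc_sgn S ha χ hχ _).2 ⟨mem_loc_self S ha, (hχ ⟨a, mem_loc_self S ha⟩ (Or.inr rfl)).symm⟩

/-- The characters of two adjacent local groups agree where they meet. -/
theorem chi_agree (S : Fi24Setup D) {a y : G} (ha : a ∈ D) (hy : y ∈ adj D a)
    (χ : ↥(Loc D a) →* ℤˣ) (hχ : ∀ u : ↥(Loc D a), (u : G) ∈ adj D a ∪ {a} → χ u = -1)
    (χ' : ↥(Loc D y) →* ℤˣ) (hχ' : ∀ u : ↥(Loc D y), (u : G) ∈ adj D y ∪ {y} → χ' u = -1)
    {h : G} (hh : h ∈ Loc D a) (hc : Commute h y) :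
    ∃ h' : h ∈ Loc D y, χ' ⟨h, h'⟩ = χ ⟨h, hh⟩ := by
  have key : ∀ t ∈ Subgroup.closure (adj D a ∩ adj D y), ∃ (p : t ∈ Loc D a) (q : t ∈ Loc D y),
      χ' ⟨t, q⟩ = χ ⟨t, p⟩ := by
    intro t ht
    induction ht using Subgroup.closure_induction with
    | mem z hz =>
      exact ⟨mem_loc_of_adj hz.1, mem_loc_of_adj hz.2,
        (hχ' _ (Or.inl hz.2)).trans (hχ ⟨z, _⟩ (Or.inl hz.1)).symm⟩
    | one => exact ⟨one_mem _, one_mem _, (map_one χ').trans (map_one χ).symm⟩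
    | mul u v _ _ hu hv =>
      obtain ⟨p, q, e⟩ := hu
      obtain ⟨p', q', e'⟩ := hv
      exact ⟨mul_mem p p', mul_mem q q',
        (map_mul χ' ⟨u, q⟩ ⟨v, q'⟩).trans ((congrArg₂ _ e e').trans (map_mul χ ⟨u, p⟩ ⟨v, p'⟩).symm)⟩
    | inv u _ hu =>
      obtain ⟨p, q, e⟩ := hu
      exact ⟨inv_mem p, inv_mem q, (map_inv χ' ⟨u, q⟩).trans ((congrArg _ e).trans (map_inv χ ⟨u, p⟩).symm)⟩
  obtain ⟨t, ht, rfl | rfl⟩ := stab_edge_exists S ha hy hh hc
  · obtain ⟨p, q, e⟩ := key h ht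
    exact ⟨q, e⟩
  · obtain ⟨p, q, e⟩ := key t ht
    have hay : a ∈ adj D y := adj_symm ha hy
    refine ⟨mul_mem q (mem_loc_of_adj hay), ?_⟩
    refine (map_mul χ' ⟨t, q⟩ ⟨a, mem_loc_of_adj hay⟩).trans ((congrArg₂ _ e ?_).trans (map_mul χ ⟨t, p⟩ ⟨a, mem_loc_self S ha⟩).symm)
    exact (hχ' _ (Or.inl hay)).trans (hχ ⟨a, _⟩ (Or.inr rfl)).symm

theorem sgnSet_mono (S : Fi24Setup D) : Mono (sgnSet D) where
  set := sgnSet_set S.cls.1
  conj := by
    rintro ⟨g, e⟩ _ ⟨x, hx, rfl⟩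
    exact ⟨g * x * g⁻¹, S.conj_mem g hx, Prod.ext rfl (by
      show -1 = e * -1 * e⁻¹
      rw [mul_right_comm, mul_inv_cancel, one_mul])⟩
  self_loc := by
    rintro _ ⟨a, ha, rfl⟩
    exact sgn_self_loc S ha
  edge := by
    rintro _ ⟨a, ha, rfl⟩ _ hy' ⟨h, e⟩ hh hc
    rw [sgn_adj] at hy'
    obtain ⟨y, hy, rfl⟩ := hy'
    obtain ⟨χ, hχ⟩ := exists_chiLoc S ha
    obtain ⟨χ', hχ'⟩ := exists_chiLoc S hy.1
    obtain ⟨hh1, he⟩ := (loc_sgn S ha χ hχ _).1 hh
    obtain ⟨h', e'⟩ := chi_agree S ha hy χ hχ χ' hχ' hh1 (hc.map (MonoidHom.fst G ℤˣ))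
    exact (loc_sgn S hy.1 χ' hχ' _).2 ⟨h', he.trans e'.symm⟩
  transport := by
    rintro _ ⟨y, hy, rfl⟩ _ hx _ hx' _ hy' c1 c2 n1 n2
    rw [sgn_adj] at hx hx' hy'
    obtain ⟨x, hx, rfl⟩ := hx
    obtain ⟨x', hx', rfl⟩ := hx'
    obtain ⟨y', hy', rfl⟩ := hy'
    obtain ⟨r, hr, hc, e⟩ := exists_transport S hy hx hx' hy' (sgn_comm.1 c1) (sgn_comm.1 c2)
      (fun e => n1 (congrArg sgn e)) fun e => n2 (congrArg sgn e)
    obtain ⟨χ, hχ⟩ := exists_chiLoc S hy
    refine ⟨(r, χ ⟨r, hr⟩), (loc_sgn S hy χ hχ _).2 ⟨hr, rfl⟩, Prod.ext hc.eq (mul_comm _ _), Prod.ext e ?_⟩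
    show χ ⟨r, hr⟩ * -1 * (χ ⟨r, hr⟩)⁻¹ = -1
    rw [mul_right_comm, mul_inv_cancel, one_mul]
  pair := by
    rintro _ ⟨x, hx, rfl⟩ _ hx'
    rw [sgn_adj] at hx'
    obtain ⟨x', hx', rfl⟩ := hx'
    rw [sgn_adj, sgn_adj, ← Set.image_inter sgn_inj]
    exact ((mono_of_setup S).pair x hx x' hx').image _
  triple := by
    rintro _ ⟨a, ha, rfl⟩ _ hx _ hy hne hc
    rw [sgn_adj] at hx hy
    obtain ⟨x, hx, rfl⟩ := hx
    obtain ⟨y, hy, rfl⟩ := hy
    rw [sgn_adj, sgn_adj, sgn_adj, ← Set.image_inter sgn_inj, ← Set.image_inter sgn_inj]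
    exact ((mono_of_setup S).triple a ha x hx y hy (fun e => hne (congrArg sgn e)) (sgn_comm.1 hc)).image _
  quad := by
    rintro _ ⟨x, hx, rfl⟩ _ hx' _ hy _ hy' hyy
    rw [sgn_adj] at hx'
    obtain ⟨x', hx', rfl⟩ := hx'
    rw [sgn_common] at hy hy'
    obtain ⟨y, hy, rfl⟩ := hy
    obtain ⟨y', hy', rfl⟩ := hy'
    rw [sgn_adj, sgn_adj, sgn_adj, sgn_adj, ← Set.image_inter sgn_inj, ← Set.image_inter sgn_inj,
      ← Set.image_inter sgn_inj]
    exact ((mono_of_setup S).quad x hx x' hx' y hy y' hy' fun h => hyy (sgn_comm.2 h)).image _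
  deg := by
    rintro _ ⟨a, ha, rfl⟩ _ ⟨x, hx, rfl⟩ hax _ hb
    rw [sgn_common] at hb ⊢
    obtain ⟨b, hb, rfl⟩ := hb
    rw [sgn_adj, ← Set.image_inter sgn_inj]
    exact ((mono_of_setup S).deg a ha x hx (fun h => hax (sgn_comm.2 h)) b hb).image _
  far := by
    rintro _ ⟨a, ha, rfl⟩ _ ⟨x, hx, rfl⟩ hax
    rw [sgn_common]
    exact (common_nonempty S ha hx fun h => hax (sgn_comm.2 h)).image _
  far_commute := by
    rintro _ ⟨a, ha, rfl⟩ _ ⟨e, he, rfl⟩ hae _ hp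
    rw [sgn_adj] at hp
    obtain ⟨p, hp, rfl⟩ := hp
    obtain ⟨y, hy, hc⟩ := exists_common_commute S ha he (fun h => hae (sgn_comm.2 h)) hp
    refine ⟨sgn y, ?_, sgn_comm.2 hc⟩
    rw [sgn_common]; exact ⟨y, hy, rfl⟩

/-- A character that is -1 on every member. -/
theorem exists_parity (S : Fi24Setup D) : ∃ χ : G →* ℤˣ, ∀ d ∈ D, χ d = -1 := by
  obtain ⟨a, ha, -⟩ := S.two_members
  set K := Subgroup.closure (sgnSet D) with hK
  let π : ↥K →* G := (MonoidHom.fst G ℤˣ).comp K.subtype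
  have hsurj : Function.Surjective π := fun g => by
    have hle : Subgroup.closure D ≤ π.range := (Subgroup.closure_le _).2 fun x hx =>
      ⟨⟨sgn x, Subgroup.subset_closure ⟨x, hx, rfl⟩⟩, rfl⟩
    exact hle (S.cls.2.2 ▸ Subgroup.mem_top g)
  have hinj : Function.Injective π := by
    rw [injective_iff_map_eq_one]
    rintro ⟨⟨g, e⟩, hq⟩ hg
    obtain rfl : g = 1 := hg
    obtain ⟨χ, hχ⟩ := exists_chiLoc S ha
    have h := (sgnSet_mono S).mem_loc_of_commute (a := sgn a) ⟨a, ha, rfl⟩ hq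
      (Prod.ext ((one_mul a).trans (mul_one a).symm) (mul_comm _ _))
    obtain ⟨h1, he⟩ := (loc_sgn S ha χ hχ _).1 h
    obtain rfl : e = 1 := he.trans (map_one χ)
    rfl
  let φ : ↥K ≃* G := MulEquiv.ofBijective π ⟨hinj, hsurj⟩
  refine ⟨((MonoidHom.snd G ℤˣ).comp K.subtype).comp φ.symm.toMonoidHom, fun d hd => ?_⟩
  have e : φ.symm d = ⟨sgn d, Subgroup.subset_closure ⟨d, hd, rfl⟩⟩ :=
    φ.injective ((φ.apply_symm_apply d).trans rfl)
  show ((φ.symm d : ↥K) : G × ℤˣ).2 = -1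
  rw [e]; rfl

/-- The layer is the commutator subgroup, of index two. -/
theorem layer_eq_commutator (S : Fi24Setup D) :
    Cfsg.layer G = commutator G ∧ (commutator G).index = 2 := by
  obtain ⟨χ, hχ⟩ := exists_parity S
  obtain ⟨a, ha, -⟩ := S.two_members
  have hle : commutator G ≤ χ.ker := Abelianization.commutator_subset_ker χ
  obtain ⟨L, hL, -, he⟩ := exists_component S.cls S.two_members S.cores
  have hLc : L ≤ commutator G := fun x hx => by
    have h1 : (⟨x, hx⟩ : ↥L) ∈ commutator ↥L := by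
      rw [hL.2.1.commutator_eq_top]; exact Subgroup.mem_top _
    have h2 : (commutator ↥L).map L.subtype ≤ commutator G := by
      rw [commutator_def, Subgroup.map_commutator]
      exact Subgroup.commutator_mono le_top le_top
    exact h2 ⟨_, h1, rfl⟩
  have hne : (commutator G).index ≠ 1 := fun h => by
    have := hle (Subgroup.index_eq_one.1 h ▸ Subgroup.mem_top a)
    rw [MonoidHom.mem_ker, hχ a ha] at this
    exact absurd this (by decide)
  have hdvd := Subgroup.index_dvd_of_le hLc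
  have h2 := layer_index_le S
  have hpos : L.index ≠ 0 := Subgroup.index_ne_zero_of_finite
  have hcpos : (commutator G).index ≠ 0 := Subgroup.index_ne_zero_of_finite
  have hcle := Nat.le_of_dvd (Nat.pos_of_ne_zero hpos) hdvd
  rw [he] at h2 ⊢
  have hi : (commutator G).index = 2 := by omega
  refine ⟨?_, hi⟩
  refine Subgroup.eq_of_le_of_card_ge hLc (le_of_eq ?_)
  have e1 := Subgroup.card_mul_index L
  have e2 := Subgroup.card_mul_index (commutator G)
  rw [show L.index = 2 by omega] at e1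
  rw [hi] at e2
  omega

theorem layer_index (S : Fi24Setup D) : (Cfsg.layer G).index = 2 := by
  rw [(layer_eq_commutator S).1]; exact (layer_eq_commutator S).2

end Cfsg.Agent.FischerM24
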