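/-
The centraliser in the derived group of a product of two commuting members of a group of type M(24).

Main results (namespace `Cfsg.Agent.FischerM24`):
* `edgeKer`, `edgeKer_perfect`, `edgeKer_eq` : the derived part of the centraliser of an edge;
* `edgeKer_model` : it maps onto the double local quotient with kernel `⟨a b⟩`;
* `pairProd_quasisimple` : it is quasisimple, self-centralising of index two in the centraliser of `a b`;
* `pairProd_mulAut` : modulo `⟨a b⟩` that centraliser is the automorphism group of the simple quotient, if this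
  has an outer automorphism group of order two.
-/
import Cfsg.Agent.Lib.FischerM24.TripleProd
import Cfsg.Agent.Lib.FischerM24.ParityPair

set_option autoImplicit false

namespace Cfsg.Agent.FischerM24

open Cfsg.Agent.ThreeTrans Cfsg.Agent.ThreeTransSU
open Cfsg.Agent.FischerM22 (adj_symm IsTriple)
open Cfsg.Agent.FischerM23 (QL QSet qm qm_mem)

variable {G : Type*} [Group G] [Finite G] {D : Set G} {a b : G}

theorem edgeCent_eq (S : Fi24Setup D) (ha : a ∈ D) :
    edgeCent D a b = Subgroup.centralizer ({a, b} : Set G) := by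
  ext x
  rw [edgeCent, ← centralizer_eq_loc S ha, Subgroup.mem_inf, Subgroup.mem_centralizer_singleton_iff,
    Subgroup.mem_centralizer_singleton_iff]
  constructor
  · rintro ⟨h1, h2⟩ p (rfl | rfl)
    exacts [h1.symm, h2.symm]
  · exact fun h => ⟨(h a (Or.inl rfl)).symm, (h b (Or.inr rfl)).symm⟩

theorem exists_common (S : Fi24Setup D) (ha : a ∈ D) (hb : b ∈ adj D a) : ∃ c, c ∈ adj D a ∩ adj D b := by
  show (adj D a ∩ adj D b).Nonempty
  rw [← Set.ncard_pos (Set.toFinite _), common_ncard S ha hb]; norm_num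

/-- The centraliser of the edge is generated by the common neighbours. -/
theorem edgeCent_eq_closure (S : Fi24Setup D) (ha : a ∈ D) (hb : b ∈ adj D a) :
    edgeCent D a b = Subgroup.closure (adj D a ∩ adj D b) := by
  refine le_antisymm ?_ ((Subgroup.closure_le _).2 fun z hz => mem_edgeCent_of_mem hz)
  set W := Subgroup.closure (adj D a ∩ adj D b) with hW
  obtain ⟨c, hc⟩ := exists_common S ha hb
  obtain ⟨hab, hac⟩ := triple_gen S ha hb hc
  have hle : Subgroup.closure (triSet D a b c) ≤ W := Subgroup.closure_mono fun z hz => hz.1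
  have haW : a ∈ W := by
    have := mul_mem (hle hac) (Subgroup.subset_closure hc)
    rwa [mul_assoc, mul_self S.cls.1 hc.1.1, mul_one] at this
  have hbW : b ∈ W := by
    have := mul_mem haW (hle hab)
    rwa [mul_self_cancel S.cls.1 ha] at this
  intro u hu
  have h1 : edgeHom S ha hb ⟨u, hu⟩ ∈ Subgroup.closure (QSet (QSet D a) (qm D a b)) := by
    rw [((S.localSetup ha).localSetup (qm_mem hb)).cls.2.2]; exact Subgroup.mem_top _
  have hrange : Subgroup.closure (QSet (QSet D a) (qm D a b)) ≤ (W.subgroupOf (edgeCent D a b)).map (edgeHom S ha hb) :=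
    (Subgroup.closure_le _).2 fun p hp => by
      obtain ⟨z, hz, e⟩ := edgeHom_exists S ha hb hp
      exact ⟨z, Subgroup.subset_closure hz, e⟩
  obtain ⟨w, hw, e⟩ := hrange h1
  have h2 := edgeHom_ker S ha hb (z := w⁻¹ * ⟨u, hu⟩) (by rw [map_mul, map_inv, e, inv_mul_cancel])
  have h3 : ((w⁻¹ * ⟨u, hu⟩ : ↥(edgeCent D a b)) : G) ∈ W := by
    rcases h2 with h | h | h | h <;> rw [h]
    exacts [one_mem _, haW, hbW, mul_mem haW hbW]
  rw [Subgroup.coe_mul, Subgroup.coe_inv] at h3
  exact (Subgroup.mul_mem_cancel_left _ (inv_mem hw)).1 h3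

/-- The derived part of the centraliser of an edge. -/
def edgeKer (D : Set G) (a b : G) : Subgroup G := commutator G ⊓ edgeCent D a b

theorem edgeKer_eq (S : Fi24Setup D) (ha : a ∈ D) :
    edgeKer D a b = commutator G ⊓ Subgroup.centralizer ({a, b} : Set G) := by
  rw [edgeKer, edgeCent_eq S ha]

theorem edgeKer_perfect (S : Fi24Setup D) (ha : a ∈ D) (hb : b ∈ adj D a) :
    commutator ↥(edgeKer D a b) = ⊤ := by
  obtain ⟨χ, hχ⟩ := exists_parity S
  set U := edgeCent D a b with hU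
  let χU : ↥U →* ℤˣ := χ.comp U.subtype
  have hgen : Subgroup.closure (Subtype.val ⁻¹' (adj D a ∩ adj D b) : Set ↥U) = ⊤ := by
    refine Subgroup.map_injective U.subtype_injective ?_
    rw [MonoidHom.map_closure, ← MonoidHom.range_eq_map, Subgroup.range_subtype, Subgroup.coe_subtype,
      show (Subtype.val '' (Subtype.val ⁻¹' (adj D a ∩ adj D b) : Set ↥U)) = adj D a ∩ adj D b from
        Set.image_preimage_eq_of_subset fun z hz => ⟨⟨z, mem_edgeCent_of_mem hz⟩, rfl⟩,
      hU, edgeCent_eq_closure S ha hb]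
  have hperf := perfect_of_sign χU hgen (fun x hx => hχ _ hx.1.1)
    (fun x hx => Subtype.ext (mul_self S.cls.1 hx.1.1))
    (fun x hx y hy => by
      obtain ⟨u, hu, e⟩ := edge_transitive S ha hb hx hy
      exact ⟨⟨u, hu⟩, Subtype.ext e⟩)
    (a := ⟨a, (self_mem_edgeCent S ha hb).1⟩) (hχ a ha)
    (fun g => Subtype.ext (edgeCent_commute g.2).1.eq)
  have e : χU.ker = (edgeKer D a b).subgroupOf U := by
    ext x
    rw [MonoidHom.mem_ker, Subgroup.mem_subgroupOf, edgeKer, Subgroup.mem_inf, mem_commutator_iff S hχ]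
    exact ⟨fun h => ⟨h, x.2⟩, fun h => h.1⟩
  let f : ↥χU.ker ≃* ↥(edgeKer D a b) :=
    (MulEquiv.subgroupCongr e).trans (Subgroup.subgroupOfEquivOfLe inf_le_right)
  have h := Subgroup.map_commutator (⊤ : Subgroup ↥χU.ker) ⊤ f.toMonoidHom
  rw [← commutator_def, hperf, Subgroup.map_top_of_surjective _ f.surjective, ← commutator_def] at h
  exact h.symm

theorem pair_mem_edgeKer (S : Fi24Setup D) (ha : a ∈ D) (hb : b ∈ adj D a) : a * b ∈ edgeKer D a b := by
  obtain ⟨χ, hχ⟩ := exists_parity S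
  refine ⟨(mem_commutator_iff S hχ).2 (by rw [map_mul, hχ a ha, hχ b hb.1]; rfl), ?_⟩
  exact mul_mem (self_mem_edgeCent S ha hb).1 (self_mem_edgeCent S ha hb).2

/-- The derived part maps onto the double local quotient with kernel `⟨a b⟩`. -/
theorem edgeKer_model (S : Fi24Setup D) (ha : a ∈ D) (hb : b ∈ adj D a) :
    ∃ η : ↥(edgeKer D a b) →* QL (QSet D a) (qm D a b), Function.Surjective η ∧
      η.ker = (Subgroup.zpowers (a * b)).subgroupOf (edgeKer D a b) := by
  obtain ⟨χ, hχ⟩ := exists_parity S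
  let ι : ↥(edgeKer D a b) →* ↥(edgeCent D a b) := Subgroup.inclusion inf_le_right
  let A : ↥(edgeCent D a b) := ⟨a, (self_mem_edgeCent S ha hb).1⟩
  let B : ↥(edgeCent D a b) := ⟨b, (self_mem_edgeCent S ha hb).2⟩
  refine ⟨(edgeHom S ha hb).comp ι, fun q => ?_, ?_⟩
  · obtain ⟨u, rfl⟩ := edgeHom_surjective S ha hb q
    rcases Int.units_eq_one_or (χ (u : G)) with h | h
    · exact ⟨⟨u, (mem_commutator_iff S hχ).2 h, u.2⟩, rfl⟩
    · refine ⟨⟨((A * u : ↥(edgeCent D a b)) : G), (mem_commutator_iff S hχ).2 ?_, (A * u).2⟩, ?_⟩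
      · rw [Subgroup.coe_mul, map_mul, h]
        show χ a * -1 = 1
        rw [hχ a ha]; rfl
      · show edgeHom S ha hb (A * u) = edgeHom S ha hb u
        rw [map_mul, (edgeHom_self S ha hb).1, one_mul]
  · ext x
    rw [MonoidHom.mem_ker, Subgroup.mem_subgroupOf, MonoidHom.comp_apply]
    have hx1 : χ (x : G) = 1 := (mem_commutator_iff S hχ).1 x.2.1
    constructor
    · intro h
      rcases edgeHom_ker S ha hb h with e | e | e | e <;> change (x : G) = _ at e
      · rw [e]; exact one_mem _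
      · rw [e, hχ a ha] at hx1; exact absurd hx1 (by decide)
      · rw [e, hχ b hb.1] at hx1; exact absurd hx1 (by decide)
      · rw [e]; exact Subgroup.mem_zpowers _
    · intro h
      obtain ⟨k, hk⟩ := Subgroup.mem_zpowers_iff.1 h
      have e : ι x = (A * B) ^ k := Subtype.ext (by
        rw [Subgroup.coe_zpow, Subgroup.coe_mul]; exact hk.symm)
      rw [e, map_zpow, map_mul, (edgeHom_self S ha hb).1, (edgeHom_self S ha hb).2, one_mul, one_zpow]

theorem pair_order (S : Fi24Setup D) (ha : a ∈ D) (hb : b ∈ adj D a) :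
    Nat.card ↥(Subgroup.zpowers (a * b)) = 2 := by
  rw [Nat.card_zpowers, orderOf_eq_prime_iff]
  refine ⟨?_, fun h => hb.2.1 (mul_left_cancel (h.trans (mul_self S.cls.1 ha).symm))⟩
  rw [pow_two, hb.2.2.symm.mul_mul_mul_comm, mul_self S.cls.1 ha, mul_self S.cls.1 hb.1, one_mul]

/-- An element of the centraliser of `a b` permutes `a, b`. -/
theorem pairProd_cases (S : Fi24Setup D) (ha : a ∈ D) (hb : b ∈ adj D a) {x : G} (hx : Commute x (a * b)) :
    (x * a * x⁻¹ = a ∧ x * b * x⁻¹ = b) ∨ (x * a * x⁻¹ = b ∧ x * b * x⁻¹ = a) := by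
  have hprod : x * a * x⁻¹ * (x * b * x⁻¹) = a * b :=
    calc x * a * x⁻¹ * (x * b * x⁻¹) = x * (a * b) * x⁻¹ := by group
      _ = a * b := by rw [hx.eq, mul_inv_cancel_right]
  rcases pair_unique S.cls S.cores.1 (S.conj_mem x ha) (S.conj_mem x hb.1) ha hb.1
    (fun e => hb.2.1 (mul_left_cancel (mul_right_cancel e)).symm) hb.2.1.symm
    (hb.2.2.map (MulAut.conj x).toMonoidHom) hb.2.2 hprod with h | h
  · refine Or.inl ⟨h, ?_⟩
    rw [h] at hprod
    exact mul_left_cancel hprod
  · refine Or.inr ⟨h, ?_⟩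
    rw [h, ← hb.2.2.symm.eq] at hprod
    exact mul_left_cancel hprod

theorem edgeKer_le (S : Fi24Setup D) {CL : Subgroup G}
    (hCL : CL = commutator G ⊓ Subgroup.centralizer ({a * b} : Set G)) : edgeKer D a b ≤ CL := fun x hx => by
  rw [hCL]
  obtain ⟨e1, e2⟩ := edgeCent_commute hx.2
  exact ⟨hx.1, Subgroup.mem_centralizer_singleton_iff.2 (e1.mul_right e2).eq⟩

theorem edgeKer_cent (S : Fi24Setup D) (ha : a ∈ D) (hb : b ∈ adj D a) {CL : Subgroup G}
    (hCL : CL = commutator G ⊓ Subgroup.centralizer ({a * b} : Set G)) :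
    Subgroup.centralizer (((edgeKer D a b).subgroupOf CL : Subgroup ↥CL) : Set ↥CL) ≤ (edgeKer D a b).subgroupOf CL := by
  obtain ⟨χ, hχ⟩ := exists_parity S
  obtain ⟨c, hc⟩ := exists_common S ha hb
  intro x hx
  have hxc := hCL.le x.2
  have hac : a * c ∈ edgeKer D a b :=
    ⟨(mem_commutator_iff S hχ).2 (by rw [map_mul, hχ a ha, hχ c hc.1.1]; rfl),
      mul_mem (self_mem_edgeCent S ha hb).1 (mem_edgeCent_of_mem hc)⟩
  have hcm : Commute (x : G) (a * c) :=
    (congrArg Subtype.val (hx ⟨a * c, edgeKer_le S hCL hac⟩ (Subgroup.mem_subgroupOf.2 hac))).symm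
  rcases pairProd_cases S ha hb (Subgroup.mem_centralizer_singleton_iff.1 hxc.2) with ⟨e1, e2⟩ | ⟨e1, -⟩
  · rw [Subgroup.mem_subgroupOf, edgeKer_eq S ha]
    refine ⟨hxc.1, ?_⟩
    rintro p (rfl | rfl)
    exacts [(mul_inv_eq_iff_eq_mul.1 e1).symm, (mul_inv_eq_iff_eq_mul.1 e2).symm]
  · exfalso
    have hprod : (x : G) * a * (x : G)⁻¹ * ((x : G) * c * (x : G)⁻¹) = a * c :=
      calc (x : G) * a * (x : G)⁻¹ * ((x : G) * c * (x : G)⁻¹) = (x : G) * (a * c) * (x : G)⁻¹ := by group
        _ = a * c := by rw [hcm.eq, mul_inv_cancel_right]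
    rcases pair_unique S.cls S.cores.1 (S.conj_mem _ ha) (S.conj_mem _ hc.1.1) ha hc.1.1
      (fun e => hc.1.2.1 (mul_left_cancel (mul_right_cancel e)).symm) hc.1.2.1.symm
      (hc.1.2.2.map (MulAut.conj (x : G)).toMonoidHom) hc.1.2.2 hprod with h | h
    · exact hb.2.1 (e1.symm.trans h)
    · exact hc.2.2.1 (e1.symm.trans h).symm

theorem edgeKer_index (S : Fi24Setup D) (ha : a ∈ D) (hb : b ∈ adj D a) {CL : Subgroup G}
    (hCL : CL = commutator G ⊓ Subgroup.centralizer ({a * b} : Set G)) :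
    ((edgeKer D a b).subgroupOf CL).index = 2 := by
  obtain ⟨c, hc⟩ := exists_common S ha hb
  have hT : IsTriple D a b c := ⟨ha, hb.1, hc.1.1, hb.2.1.symm, hc.1.2.1.symm, hc.2.2.1.symm, hb.2.2, hc.1.2.2,
    hc.2.2.2⟩
  obtain ⟨t, ht, ea, eb, -⟩ := exists_swap S hT
  have htc : t ∈ CL := by
    rw [hCL]
    refine ⟨ht, Subgroup.mem_centralizer_singleton_iff.2 (mul_inv_eq_iff_eq_mul.1 ?_)⟩
    rw [show t * (a * b) * t⁻¹ = t * a * t⁻¹ * (t * b * t⁻¹) by group, ea, eb, hb.2.2.eq]
  have hmem : ∀ y : ↥CL, y ∈ (edgeKer D a b).subgroupOf CL ↔ (y : G) * a * (y : G)⁻¹ = a := fun y => by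
    have hy := hCL.le y.2
    rw [Subgroup.mem_subgroupOf, edgeKer_eq S ha]
    refine ⟨fun h => ?_, fun h => ⟨hy.1, ?_⟩⟩
    · rw [← h.2 a (Or.inl rfl), mul_inv_cancel_right]
    · rcases pairProd_cases S ha hb (Subgroup.mem_centralizer_singleton_iff.1 hy.2) with ⟨-, e2⟩ | ⟨e1, -⟩
      · rintro p (rfl | rfl)
        exacts [(mul_inv_eq_iff_eq_mul.1 h).symm, (mul_inv_eq_iff_eq_mul.1 e2).symm]
      · exact absurd (e1.symm.trans h) hb.2.1
  rw [Subgroup.index_eq_two_iff']
  refine ⟨⟨t, htc⟩, fun y => ?_⟩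
  rw [xor_iff_or_and_not_and, hmem, hmem, Subgroup.coe_mul,
    show t * (y : G) * a * (t * (y : G))⁻¹ = t * ((y : G) * a * (y : G)⁻¹) * t⁻¹ by group]
  rcases pairProd_cases S ha hb (Subgroup.mem_centralizer_singleton_iff.1 (hCL.le y.2).2) with ⟨e1, -⟩ | ⟨e1, -⟩ <;>
    rw [e1]
  · exact ⟨Or.inr rfl, fun h => hb.2.1 (ea.symm.trans h.1)⟩
  · exact ⟨Or.inl eb, fun h => hb.2.1 h.2⟩

omit [Finite G] in
/-- The centre of a perfect simple group is trivial. -/
theorem center_eq_bot_of_perfect {Q : Type*} [Group Q] [IsSimpleGroup Q] (h : commutator Q = ⊤) :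
    Subgroup.center Q = ⊥ := by
  refine (Subgroup.Normal.eq_bot_or_eq_top inferInstance).resolve_right fun hc => ?_
  have hbot : commutator Q = ⊥ := by
    rw [commutator_def, Subgroup.commutator_eq_bot_iff_le_centralizer]
    exact fun x _ y _ => (Subgroup.mem_center_iff.1 (hc ▸ Subgroup.mem_top x) y)
  exact top_ne_bot (α := Subgroup Q) (h.symm.trans hbot)

/-- The structure of the centraliser in the derived group of a product of two commuting members. -/
theorem pairProd_struct (S : Fi24Setup D) (ha : a ∈ D) (hb : b ∈ adj D a) {CL : Subgroup G}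
    (hCL : CL = commutator G ⊓ Subgroup.centralizer ({a * b} : Set G)) :
    ((edgeKer D a b).subgroupOf CL).Normal ∧ Cfsg.IsQuasisimple ↥((edgeKer D a b).subgroupOf CL) ∧
      (Subgroup.center ↥((edgeKer D a b).subgroupOf CL)).map ((edgeKer D a b).subgroupOf CL).subtype =
        (Subgroup.zpowers (a * b)).subgroupOf CL ∧
      Nonempty (↥((edgeKer D a b).subgroupOf CL) ⧸ Subgroup.center ↥((edgeKer D a b).subgroupOf CL) ≃*
        QL (QSet D a) (qm D a b)) := by
  have hS2 := (S.localSetup ha).localSetup (qm_mem hb)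
  have : IsSimpleGroup (QL (QSet D a) (qm D a b)) := FischerM22.isSimpleGroup hS2
  set K₀ := edgeKer D a b with hK₀
  obtain ⟨η, hη, hηker⟩ : ∃ η : ↥K₀ →* QL (QSet D a) (qm D a b), Function.Surjective η ∧
      η.ker = (Subgroup.zpowers (a * b)).subgroupOf K₀ := edgeKer_model S ha hb
  set Kc := K₀.subgroupOf CL with hKc
  have hle : K₀ ≤ CL := edgeKer_le S hCL
  let iso : ↥Kc ≃* ↥K₀ := Subgroup.subgroupOfEquivOfLe hle
  have h0 : Group.IsPerfect ↥K₀ := ⟨edgeKer_perfect S ha hb⟩
  have hperf : Group.IsPerfect ↥Kc := Group.IsPerfect.ofSurjective (f := iso.symm.toMonoidHom) iso.symm.surjective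
  let η' : ↥Kc →* QL (QSet D a) (qm D a b) := η.comp iso.toMonoidHom
  have hη' : Function.Surjective η' := hη.comp iso.surjective
  have hQperf : commutator (QL (QSet D a) (qm D a b)) = ⊤ :=
    (Group.IsPerfect.ofSurjective (f := η') hη').commutator_eq_top
  have hcen : Subgroup.center ↥Kc = η'.ker := by
    refine le_antisymm (fun z hz => ?_) (fun z hz => ?_)
    · have hmem : η' z ∈ Subgroup.center (QL (QSet D a) (qm D a b)) := Subgroup.mem_center_iff.2 fun g => by
        obtain ⟨g, rfl⟩ := hη' g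
        rw [← map_mul, Subgroup.mem_center_iff.1 hz g, map_mul]
      rwa [center_eq_bot_of_perfect hQperf, Subgroup.mem_bot] at hmem
    · have hz' : iso z ∈ η.ker := hz
      rw [hηker, Subgroup.mem_subgroupOf] at hz'
      obtain ⟨k, hk⟩ := Subgroup.mem_zpowers_iff.1 hz'
      refine Subgroup.mem_center_iff.2 fun g => iso.injective (Subtype.ext ?_)
      obtain ⟨e1, e2⟩ := edgeCent_commute (iso g).2.2
      rw [map_mul, map_mul, Subgroup.coe_mul, Subgroup.coe_mul, ← hk]
      exact ((e1.mul_right e2).zpow_right k).eq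
  refine ⟨Subgroup.normal_of_index_eq_two (edgeKer_index S ha hb hCL), ?_, ?_, ?_⟩
  · exact ⟨hperf, ((QuotientGroup.quotientMulEquivOfEq hcen).trans
      (QuotientGroup.quotientKerEquivOfSurjective η' hη')).isSimpleGroup⟩
  · ext x
    rw [hcen, Subgroup.mem_subgroupOf]
    constructor
    · rintro ⟨z, hz, rfl⟩
      have : iso z ∈ η.ker := hz
      rw [hηker, Subgroup.mem_subgroupOf] at this
      exact this
    · intro hx
      have hxK : (x : G) ∈ K₀ := (Subgroup.zpowers_le.2 (pair_mem_edgeKer S ha hb)) hx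
      refine ⟨⟨x, Subgroup.mem_subgroupOf.2 hxK⟩, ?_, rfl⟩
      show η _ = 1
      rw [← MonoidHom.mem_ker, hηker, Subgroup.mem_subgroupOf]
      exact hx
  · exact ⟨(QuotientGroup.quotientMulEquivOfEq hcen).trans (QuotientGroup.quotientKerEquivOfSurjective η' hη')⟩

/-- Modulo `⟨a b⟩` the centraliser is the automorphism group of the simple quotient. -/
theorem pairProd_mulAut (S : Fi24Setup D) (ha : a ∈ D) (hb : b ∈ adj D a) {CL : Subgroup G}
    (hCL : CL = commutator G ⊓ Subgroup.centralizer ({a * b} : Set G)) {Q : Type*} [Group Q]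
    (e : QL (QSet D a) (qm D a b) ≃* Q) (hQ : Nat.card (MulAut Q) = 2 * Nat.card Q)
    [hn : ((Subgroup.zpowers (a * b)).subgroupOf CL).Normal] :
    Nonempty (↥CL ⧸ (Subgroup.zpowers (a * b)).subgroupOf CL ≃* MulAut Q) := by
  obtain ⟨hKn, hqs, hZ, ⟨eq'⟩⟩ := pairProd_struct S ha hb hCL
  have h1 : Nat.card ↥(Subgroup.center ↥((edgeKer D a b).subgroupOf CL)) = 2 := by
    rw [← Subgroup.card_map_of_injective ((edgeKer D a b).subgroupOf CL).subtype_injective, hZ,
      Nat.card_congr (Subgroup.subgroupOfEquivOfLe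
        ((Subgroup.zpowers_le.2 (pair_mem_edgeKer S ha hb)).trans (edgeKer_le S hCL))).toEquiv, pair_order S ha hb]
  refine quotient_mulAut _ (eq'.trans e) hqs.1.commutator_eq_top (edgeKer_cent S ha hb hCL) ?_ _ hZ.symm
  have h4 := Subgroup.card_mul_index ((edgeKer D a b).subgroupOf CL)
  rw [edgeKer_index S ha hb hCL,
    ← Subgroup.card_mul_index (Subgroup.center ↥((edgeKer D a b).subgroupOf CL)), Subgroup.index_eq_card,
    Nat.card_congr (eq'.trans e).toEquiv] at h4
  rw [hQ, ← h4, h1]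
  ring

end Cfsg.Agent.FischerM24
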