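/-
The normaliser of the product of two non-commuting members in a group of type M(24).

Main results (namespace `Cfsg.Agent.FischerM24`):
* `lineCtx` : the hypotheses of `ThreeTrans.Line`;
* `closure_common_extension` : the common neighbours generate the centraliser of the pair, an extension of
  `POmega⁺(8, 3)` by `Sym(3)`;
* `closure_common_fitting` : in it `POmega⁺(8, 3)` is the generalised Fitting subgroup;
* `width_common` : at most 8 common neighbours commute pairwise, and 8 occur.
-/
import Cfsg.Agent.Lib.FischerM24.Total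
import Cfsg.Agent.Lib.FischerM23.LineNorm
import Cfsg.Agent.Lib.ONanLines.FStar
import Cfsg.Agent.S0296

set_option autoImplicit false

namespace Cfsg.Agent.FischerM24

open Cfsg.Agent.ThreeTrans Cfsg.Agent.ThreeTransSU
open Cfsg.Agent.FischerM22 (adj_symm card_orbit_mul commute_of_conj)
open Cfsg.Agent.FischerM23 (QL QSet qm qm_mem)

variable {G : Type*} [Group G] [Finite G] {D : Set G}

/-- The hypotheses for the normaliser of a line. -/
theorem lineCtx (S : Fi24Setup D) : Line.LineCtx D where
  set := S.cls.1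
  conj g _ hd := S.conj_mem g hd
  common_nonempty ha hd had := common_nonempty S ha hd had
  line_three hq ha hx hax hz H := line_three S hq ha hx hax hz H

/-- The joint centraliser of two non-commuting members. -/
theorem pair_centralizer_ncard (S : Fi24Setup D) {a d : G} (ha : a ∈ D) (hd : d ∈ D) (had : ¬ Commute a d) :
    Nat.card ↥(Subgroup.centralizer ({a} : Set G) ⊓ Subgroup.centralizer {d}) = 29713078886400 := by
  have h := card_orbit_mul (Subgroup.centralizer ({a} : Set G)) d d
  have e : {p : G × G | ∃ g ∈ Subgroup.centralizer ({a} : Set G), g * d * g⁻¹ = p.1 ∧ g * d * g⁻¹ = p.2}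
      = (fun x : G => (x, x)) '' {y | y ∈ D ∧ ¬ Commute a y} := by
    ext ⟨u, w⟩
    constructor
    · rintro ⟨g, hg, rfl, rfl⟩
      refine ⟨_, ⟨S.conj_mem g hd, fun hc => had ?_⟩, rfl⟩
      have hga : g * a * g⁻¹ = a := by
        rw [Subgroup.mem_centralizer_singleton_iff.1 hg, mul_inv_cancel_right]
      exact commute_of_conj (g := g) (hga.symm ▸ hc)
    · rintro ⟨x, ⟨hx, hax⟩, e'⟩
      obtain ⟨rfl, rfl⟩ := Prod.ext_iff.1 e'
      obtain ⟨g, hg, rfl⟩ := centralizer_transitive S ha hd hx had hax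
      exact ⟨g, Subgroup.mem_centralizer_singleton_iff.2 hg, rfl, rfl⟩
  rw [e, Set.ncard_image_of_injective _ fun x y h => congrArg Prod.fst h, far_ncard S ha, inf_assoc,
    inf_idem] at h
  have h2 : Nat.card ↥(Subgroup.centralizer ({a} : Set G)) = 8178940946586009600 := by
    rw [centralizer_eq_loc S ha, loc_card S ha]
  omega

theorem closure_common_map (S : Fi24Setup D) (g a d : G) :
    (Subgroup.closure (common D a d)).map (MulAut.conj g).toMonoidHom
      = Subgroup.closure (common D (g * a * g⁻¹) (g * d * g⁻¹)) := by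
  rw [MonoidHom.map_closure, common, common, adj_conj_image S.grp.2.1 g a, adj_conj_image S.grp.2.1 g d,
    ← Set.image_inter (fun u v h => mul_left_cancel (mul_right_cancel h))]
  rfl

theorem extension_of_data (S : Fi24Setup D) {a d d₁ c₁ : G} (ha : a ∈ D) (hd : d ∈ D) (had : ¬ Commute a d)
    (hd₁ : d₁ ∈ D) (hc₁ : c₁ ∈ D) (hdc : ¬ Commute d₁ c₁)
    (N : Subgroup (↥(Subgroup.closure (common D d₁ c₁)) ⧸ Subgroup.center ↥(Subgroup.closure (common D d₁ c₁))))
    (hN : N.Normal) (eN : ↥N ≃* Cfsg.POmega (ZMod 3) (Cfsg.quadFormPlus 4 (ZMod 3)))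
    (e3 : (↥(Subgroup.closure (common D d₁ c₁)) ⧸ Subgroup.center ↥(Subgroup.closure (common D d₁ c₁))) ⧸ N ≃*
      Equiv.Perm (Fin 3)) :
    Subgroup.closure (common D a d) = Subgroup.centralizer ({a} : Set G) ⊓ Subgroup.centralizer {d} ∧
      Subgroup.center ↥(Subgroup.closure (common D a d)) = ⊥ ∧
      ∃ f : ↥(Subgroup.closure (common D a d)) →* Equiv.Perm (Fin 3), Function.Surjective f ∧
        (∀ x : ↥(Subgroup.closure (common D a d)), (x : G) ∈ common D a d → f x ≠ 1) ∧
        Nonempty (↥f.ker ≃* Cfsg.POmega (ZMod 3) (Cfsg.quadFormPlus 4 (ZMod 3))) := by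
  obtain ⟨g₁, hg₁⟩ := class_conj S.cls hd₁ ha
  obtain ⟨k, hk, hk'⟩ := centralizer_transitive S ha (S.conj_mem g₁ hc₁) hd
    (fun h => hdc (commute_of_conj (hg₁.symm ▸ h))) had
  have e1 : k * g₁ * d₁ * (k * g₁)⁻¹ = a := by
    rw [show k * g₁ * d₁ * (k * g₁)⁻¹ = k * (g₁ * d₁ * g₁⁻¹) * k⁻¹ by group, hg₁, hk.eq, mul_inv_cancel_right]
  have e2 : k * g₁ * c₁ * (k * g₁)⁻¹ = d := by
    rw [show k * g₁ * c₁ * (k * g₁)⁻¹ = k * (g₁ * c₁ * g₁⁻¹) * k⁻¹ by group, hk']
  set L := Subgroup.closure (common D a d) with hL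
  have eK : (Subgroup.closure (common D d₁ c₁)).map (MulAut.conj (k * g₁)).toMonoidHom = L := by
    rw [closure_common_map S, e1, e2, ← hL]
  let iso : ↥(Subgroup.closure (common D d₁ c₁)) ≃* ↥L := ((MulAut.conj (k * g₁)).subgroupMap (Subgroup.closure (common D d₁ c₁))).trans (MulEquiv.subgroupCongr eK)
  obtain ⟨hdvd, -⟩ := witness_of_extension S hd₁ hc₁ hdc (L := Subgroup.closure (common D d₁ c₁)) rfl N hN eN e3
  have hle : L ≤ Subgroup.centralizer ({a} : Set G) ⊓ Subgroup.centralizer {d} :=
    (Subgroup.closure_le _).2 fun x hx => ⟨Subgroup.mem_centralizer_singleton_iff.2 hx.1.2.2.symm,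
      Subgroup.mem_centralizer_singleton_iff.2 hx.2.2.2.symm⟩
  have hcard : Nat.card ↥(Subgroup.closure (common D d₁ c₁)) = 29713078886400 := by
    refine le_antisymm ?_ (Nat.le_of_dvd Nat.card_pos hdvd)
    rw [Nat.card_congr iso.toEquiv, ← pair_centralizer_ncard S ha hd had]
    exact Nat.le_of_dvd Nat.card_pos (Subgroup.card_dvd_of_le hle)
  have hsplit : Nat.card (↥(Subgroup.closure (common D d₁ c₁)) ⧸ Subgroup.center ↥(Subgroup.closure (common D d₁ c₁))) = 29713078886400 := by
    rw [Subgroup.card_eq_card_quotient_mul_card_subgroup N, Nat.card_congr e3.toEquiv,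
      Nat.card_congr eN.toEquiv, pomega_card, Nat.card_eq_fintype_card, Fintype.card_perm, Fintype.card_fin]
    rfl
  have hZ1 : Subgroup.center ↥(Subgroup.closure (common D d₁ c₁)) = ⊥ := by
    refine Subgroup.card_eq_one.1 ?_
    have h := Subgroup.card_eq_card_quotient_mul_card_subgroup (Subgroup.center ↥(Subgroup.closure (common D d₁ c₁)))
    rw [hcard, hsplit] at h
    omega
  let π : ↥L ≃* ↥(Subgroup.closure (common D d₁ c₁)) ⧸ Subgroup.center ↥(Subgroup.closure (common D d₁ c₁)) :=
    (iso.symm.trans (QuotientGroup.quotientBot).symm).trans (QuotientGroup.quotientMulEquivOfEq hZ1.symm)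
  have hZ : Subgroup.center ↥L = ⊥ := by
    refine (Subgroup.eq_bot_iff_forall _).2 fun z hz => iso.symm.injective ?_
    rw [map_one, ← Subgroup.mem_bot, ← hZ1, Subgroup.mem_center_iff]
    intro w
    obtain ⟨u, rfl⟩ := iso.symm.surjective w
    rw [← map_mul, ← map_mul, Subgroup.mem_center_iff.1 hz u]
  let f : ↥L →* Equiv.Perm (Fin 3) := e3.toMonoidHom.comp ((QuotientGroup.mk' N).comp π.toMonoidHom)
  have hf : Function.Surjective f :=
    e3.surjective.comp ((QuotientGroup.mk'_surjective N).comp π.surjective)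
  have hker : f.ker = N.comap π.toMonoidHom := by
    ext x
    rw [MonoidHom.mem_ker, Subgroup.mem_comap]
    exact (MulEquiv.map_eq_one_iff e3).trans (QuotientGroup.eq_one_iff _)
  have ef : ↥f.ker ≃* Cfsg.POmega (ZMod 3) (Cfsg.quadFormPlus 4 (ZMod 3)) :=
    (((π.subgroupMap f.ker).trans (MulEquiv.subgroupCongr (by
      rw [hker]
      exact Subgroup.map_comap_eq_self_of_surjective π.surjective N))).trans eN)
  refine ⟨Subgroup.eq_of_le_of_card_ge hle ?_, hZ, f, hf, ?_, ⟨ef⟩⟩
  · rw [pair_centralizer_ncard S ha hd had, ← Nat.card_congr iso.toEquiv, hcard]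
  -- the map given by `witness_of_extension` has the same kernel
  have hZ' : (⊥ : Subgroup ↥L) = Subgroup.center ↥L := hZ.symm
  let π₂ : ↥L ⧸ Subgroup.center ↥L ≃* ↥L :=
    (QuotientGroup.quotientMulEquivOfEq hZ).trans QuotientGroup.quotientBot
  have hN' : (f.ker.comap π₂.toMonoidHom).Normal := Subgroup.Normal.comap inferInstance _
  let eN' : ↥(f.ker.comap π₂.toMonoidHom) ≃* Cfsg.POmega (ZMod 3) (Cfsg.quadFormPlus 4 (ZMod 3)) :=
    ((π₂.subgroupMap _).trans (MulEquiv.subgroupCongr
      (Subgroup.map_comap_eq_self_of_surjective π₂.surjective f.ker))).trans ef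
  let e3' : (↥L ⧸ Subgroup.center ↥L) ⧸ f.ker.comap π₂.toMonoidHom ≃* Equiv.Perm (Fin 3) :=
    (QuotientGroup.congr _ _ π₂ (Subgroup.map_comap_eq_self_of_surjective π₂.surjective f.ker)).trans
      (QuotientGroup.quotientKerEquivOfSurjective f hf)
  obtain ⟨-, f', hf', hne⟩ := witness_of_extension S ha hd had (L := L) rfl _ hN' eN' e3'
  have hs : IsSimpleGroup ↥f.ker := by
    have := S0296.result (F := ZMod 3) 4 le_rfl
    exact ef.isSimpleGroup
  have hcN : Nat.card ↥f.ker = 4952179814400 := by rw [Nat.card_congr ef.toEquiv, pomega_card]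
  have hsub : f.ker ≤ f'.ker := by
    rcases Subgroup.Normal.eq_bot_or_eq_top (inferInstance : (f'.ker.subgroupOf f.ker).Normal) with h | h
    · exfalso
      have hinj : Function.Injective (f'.comp f.ker.subtype) := by
        rw [← MonoidHom.ker_eq_bot_iff, ← h, ← MonoidHom.comap_ker]
        rfl
      have := Nat.card_le_card_of_injective _ hinj
      rw [hcN, Nat.card_eq_fintype_card, Fintype.card_perm, Fintype.card_fin] at this
      norm_num [Nat.factorial] at this
    · exact Subgroup.subgroupOf_eq_top.1 h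
  intro x hx h
  exact hne x hx (hsub h)

/-- The common neighbours generate the joint centraliser, which maps onto `Sym(3)`, every common neighbour
to an involution, with kernel `POmega⁺(8, 3)`. -/
theorem closure_common_extension (S : Fi24Setup D) {a d : G} (ha : a ∈ D) (hd : d ∈ D) (had : ¬ Commute a d) :
    Subgroup.closure (common D a d) = Subgroup.centralizer ({a} : Set G) ⊓ Subgroup.centralizer {d} ∧
      Subgroup.center ↥(Subgroup.closure (common D a d)) = ⊥ ∧
      ∃ f : ↥(Subgroup.closure (common D a d)) →* Equiv.Perm (Fin 3), Function.Surjective f ∧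
        (∀ x : ↥(Subgroup.closure (common D a d)), (x : G) ∈ common D a d → f x ≠ 1) ∧
        Nonempty (↥f.ker ≃* Cfsg.POmega (ZMod 3) (Cfsg.quadFormPlus 4 (ZMod 3))) := by
  obtain ⟨-, d₁, hd₁, c₁, hc₁, hdc, -, N, hN, ⟨eN⟩, ⟨e3⟩⟩ := S.type24
  exact extension_of_data S ha hd had hd₁ hc₁ hdc N hN eN e3

theorem closure_common_conj (S : Fi24Setup D) {a d : G}
    (hKeq : Subgroup.closure (common D a d) = Subgroup.centralizer ({a} : Set G) ⊓ Subgroup.centralizer {d})
    (g x : ↥(Subgroup.closure (common D a d))) (hx : (x : G) ∈ common D a d) :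
    ((g * x * g⁻¹ : ↥(Subgroup.closure (common D a d))) : G) ∈ common D a d := by
  obtain ⟨h1, h2⟩ := hKeq.le g.2
  have c1 : Commute (g : G) a := Subgroup.mem_centralizer_singleton_iff.1 h1
  have c2 : Commute (g : G) d := Subgroup.mem_centralizer_singleton_iff.1 h2
  have h := common_conj S.grp.2.1 (y := d) c1
  rw [show (g : G) * d * (g : G)⁻¹ = d by rw [c2.eq, mul_inv_cancel_right]] at h
  exact h.symm.subset ⟨x, hx, rfl⟩

/-- In the group of the common neighbours `POmega⁺(8, 3)` is the generalised Fitting subgroup. -/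
theorem closure_common_fitting (S : Fi24Setup D) {a d : G} (ha : a ∈ D) (hd : d ∈ D) (had : ¬ Commute a d) :
    Nonempty (↥(Cfsg.generalizedFittingSubgroup ↥(Subgroup.closure (common D a d))) ≃*
        Cfsg.POmega (ZMod 3) (Cfsg.quadFormPlus 4 (ZMod 3))) ∧
      ∃ _ : (Cfsg.generalizedFittingSubgroup ↥(Subgroup.closure (common D a d))).Normal,
        Nonempty (↥(Subgroup.closure (common D a d)) ⧸
          Cfsg.generalizedFittingSubgroup ↥(Subgroup.closure (common D a d)) ≃* Equiv.Perm (Fin 3)) := by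
  obtain ⟨hKeq, hZ, f, hf, hne, ⟨ef⟩⟩ := closure_common_extension S ha hd had
  have hD := S.cls.1
  have hs : IsSimpleGroup ↥f.ker := by
    have := S0296.result (F := ZMod 3) 4 le_rfl
    exact ef.isSimpleGroup
  have hcN : Nat.card ↥f.ker = 4952179814400 := by rw [Nat.card_congr ef.toEquiv, pomega_card]
  have hNbot : f.ker ≠ ⊥ := fun h => by rw [h, Subgroup.card_bot] at hcN; norm_num at hcN
  have hna : ¬ IsMulCommutative ↥f.ker := fun h => by
    have hp : (Nat.card ↥f.ker).Prime := by
      letI : CommGroup ↥f.ker := { (inferInstance : Group ↥f.ker) with mul_comm := h.is_comm.comm }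
      exact IsSimpleGroup.prime_card
    rw [hcN] at hp
    norm_num at hp
  set X : Set ↥(Subgroup.closure (common D a d)) := {x | (x : G) ∈ common D a d} with hX
  have hgen : Subgroup.closure X = ⊤ := Subgroup.closure_closure_coe_preimage (k := common D a d)
  have hC : Subgroup.centralizer ((f.ker : Subgroup ↥(Subgroup.closure (common D a d))) : Set ↥(Subgroup.closure (common D a d))) = ⊥ := by
    refine (Subgroup.eq_bot_iff_forall _).2 fun c hc => ?_
    by_cases hfc : f c = 1
    · have hcz : (⟨c, hfc⟩ : ↥f.ker) ∈ Subgroup.center ↥f.ker :=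
        Subgroup.mem_center_iff.2 fun u => Subtype.ext (Subgroup.mem_centralizer_iff.1 hc u u.2)
      rw [(Subgroup.Normal.eq_bot_or_eq_top (inferInstance : (Subgroup.center ↥f.ker).Normal)).resolve_right
        fun h => hna (Subgroup.center_eq_top_iff.1 h), Subgroup.mem_bot] at hcz
      exact congrArg Subtype.val hcz
    exfalso
    obtain ⟨x, hx, hxc⟩ : ∃ x ∈ X, f (c * x * c⁻¹) ≠ f x := by
      by_contra hcon
      simp only [not_exists, not_and, not_not] at hcon
      have hle : Subgroup.closure X ≤ (Subgroup.centralizer ({f c} : Set (Equiv.Perm (Fin 3)))).comap f :=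
        (Subgroup.closure_le _).2 fun x hx => Subgroup.mem_centralizer_singleton_iff.2 (by
          have h := hcon x hx
          rw [map_mul, map_mul, map_inv, mul_inv_eq_iff_eq_mul] at h
          exact h.symm)
      rw [hgen] at hle
      refine hfc ((by decide : ∀ u : Equiv.Perm (Fin 3), (∀ v, v * u = u * v) → u = 1) _ fun v => ?_)
      obtain ⟨g, rfl⟩ := hf v
      exact Subgroup.mem_centralizer_singleton_iff.1 (hle (Subgroup.mem_top g))
    have hx' : ((c * x * c⁻¹ : ↥(Subgroup.closure (common D a d))) : G) ∈ common D a d := closure_common_conj S hKeq c x hx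
    set x' := c * x * c⁻¹ with hx'e
    have hsq : ∀ y : ↥(Subgroup.closure (common D a d)), (y : G) ∈ common D a d → f y * f y = 1 := fun y hy => by
      rw [← map_mul, show y * y = 1 from Subtype.ext (mul_self hD hy.1.1), map_one]
    have hnc : ¬ Commute (x : G) (x' : G) := fun h => hxc (perm_three_commute _ _
      ⟨hsq _ hx, hsq _ hx', hne _ hx, hne _ hx', by
        rw [← map_mul, ← map_mul]; exact congrArg f (Subtype.ext h.eq)⟩).symm
    -- the line through `x` and `x'` is centralised by the kernel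
    have hCn : (Subgroup.centralizer ((f.ker : Subgroup ↥(Subgroup.closure (common D a d))) : Set ↥(Subgroup.closure (common D a d)))).Normal := inferInstance
    have hy : x * x' ∈ Subgroup.centralizer ((f.ker : Subgroup ↥(Subgroup.closure (common D a d))) : Set ↥(Subgroup.closure (common D a d))) := by
      rw [hx'e, show x * (c * x * c⁻¹) = x * c * x⁻¹ * (x * x) * c⁻¹ by group,
        show x * x = 1 from Subtype.ext (mul_self hD hx.1.1), mul_one]
      exact mul_mem (hCn.conj_mem c hc x) (inv_mem hc)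
    set T := {e : G | e ∈ D ∧ e * ((x : G) * x') * e⁻¹ = ((x : G) * x')⁻¹} with hT
    have hTc : Nat.card ↥T ≤ 3 := by
      rw [Nat.card_coe_set_eq]
      refine (Set.ncard_le_ncard (show T ⊆ {(x : G), (x' : G), (x : G) * x' * x} from fun e he => by
        rcases Line.inverting_mem (lineCtx S) hx.1.1 hx'.1.1 hnc he.1 he.2 with h | h | h <;> simp [h])
        (Set.toFinite _)).trans ?_
      exact (Set.ncard_insert_le _ _).trans (Nat.add_le_add_right ((Set.ncard_insert_le _ _).trans
        (Nat.add_le_add_right (Set.ncard_singleton _).le 1)) 1)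
    have hact : ∀ (n : ↥f.ker) (e : G), e ∈ T → ((n : ↥(Subgroup.closure (common D a d))) : G) * e * ((n : ↥(Subgroup.closure (common D a d))) : G)⁻¹ ∈ T := by
      intro n e he
      have hcn : Commute ((n : ↥(Subgroup.closure (common D a d))) : G) ((x : G) * x') :=
        congrArg (fun t : ↥(Subgroup.closure (common D a d)) => (t : G)) (Subgroup.mem_centralizer_iff.1 hy n n.2)
      refine ⟨S.conj_mem _ he.1, ?_⟩
      rw [show ((n : ↥(Subgroup.closure (common D a d))) : G) * e * ((n : ↥(Subgroup.closure (common D a d))) : G)⁻¹ * ((x : G) * x') *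
          (((n : ↥(Subgroup.closure (common D a d))) : G) * e * ((n : ↥(Subgroup.closure (common D a d))) : G)⁻¹)⁻¹ = ((n : ↥(Subgroup.closure (common D a d))) : G) * (e *
            (((n : ↥(Subgroup.closure (common D a d))) : G)⁻¹ * ((x : G) * x') * ((n : ↥(Subgroup.closure (common D a d))) : G)) * e⁻¹) * ((n : ↥(Subgroup.closure (common D a d))) : G)⁻¹ by group,
        show ((n : ↥(Subgroup.closure (common D a d))) : G)⁻¹ * ((x : G) * x') * ((n : ↥(Subgroup.closure (common D a d))) : G) = (x : G) * x' by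
          rw [mul_assoc, ← hcn.eq, inv_mul_cancel_left], he.2, hcn.inv_right.eq, mul_inv_cancel_right]
    let act : MulAction ↥f.ker ↥T :=
      { smul := fun n e => ⟨((n : ↥(Subgroup.closure (common D a d))) : G) * e * ((n : ↥(Subgroup.closure (common D a d))) : G)⁻¹, hact n e e.2⟩
        one_smul := fun e => Subtype.ext (by simp [HSMul.hSMul])
        mul_smul := fun m n e => Subtype.ext (by simp [HSMul.hSMul, mul_assoc]) }
    have hfix : ∀ n : ↥f.ker, Commute ((n : ↥(Subgroup.closure (common D a d))) : G) (x : G) := by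
      intro n
      rcases Subgroup.Normal.eq_bot_or_eq_top
          (inferInstance : (MulAction.toPermHom ↥f.ker ↥T).ker.Normal) with h | h
      · exfalso
        have := Nat.card_le_card_of_injective _ ((MonoidHom.ker_eq_bot_iff _).1 h)
        rw [hcN, Nat.card_perm] at this
        have := Nat.factorial_le hTc
        rw [show Nat.factorial 3 = 6 from rfl] at this
        omega
      · have hxT : (x : G) ∈ T := ⟨hx.1.1, Line.conj_line_left (lineCtx S) hx.1.1 hx'.1.1⟩
        have e := congrArg (fun t : ↥T => (t : G))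
          (Equiv.ext_iff.1 ((MonoidHom.mem_ker (f := MulAction.toPermHom ↥f.ker ↥T)).1
            (h ▸ Subgroup.mem_top n)) ⟨x, hxT⟩)
        exact mul_inv_eq_iff_eq_mul.1 e
    have hall : Subgroup.closure X ≤ Subgroup.centralizer ((f.ker : Subgroup ↥(Subgroup.closure (common D a d))) : Set ↥(Subgroup.closure (common D a d))) := by
      refine (Subgroup.closure_le _).2 fun w hw => ?_
      obtain ⟨g, hg, e⟩ := common_orbit S ha hd had hx w hw
      have hw' : (⟨g, hg⟩ : ↥(Subgroup.closure (common D a d))) * x * (⟨g, hg⟩ : ↥(Subgroup.closure (common D a d)))⁻¹ = w := Subtype.ext e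
      exact hw' ▸ hCn.conj_mem x (Subgroup.mem_centralizer_iff.2 fun n hn =>
        Subtype.ext (hfix ⟨n, hn⟩).eq) _
    rw [hgen] at hall
    refine hNbot ((Subgroup.eq_bot_iff_forall _).2 fun n hn => ?_)
    rw [← Subgroup.mem_bot, ← hZ, Subgroup.mem_center_iff]
    exact fun u => (Subgroup.mem_centralizer_iff.1 (hall (Subgroup.mem_top u)) n hn).symm
  have hF := ONanLines.genFitting_eq_of_simple f.ker hna hC
  rw [hF]
  exact ⟨⟨ef⟩, inferInstance, ⟨QuotientGroup.quotientKerEquivOfSurjective f hf⟩⟩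

/-- Eight common neighbours commute pairwise, and no more. -/
theorem width_common (S : Fi24Setup D) {a d : G} (ha : a ∈ D) (hd : d ∈ D) (had : ¬ Commute a d) :
    Cfsg.commutingWidth (common D a d) = 8 := by
  -- the picture in the local quotient at a common neighbour `q`
  have loc : ∀ q ∈ common D a d, a ∈ adj D q ∧ d ∈ adj D q ∧
      common (QSet D q) (qm D q a) (qm D q d) = qm D q '' (adj D q ∩ adj D a ∩ adj D d) ∧
      Cfsg.commutingWidth (common (QSet D q) (qm D q a) (qm D q d)) = 7 := fun q hq => by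
    have h1 := adj_symm ha hq.1
    have h2 := adj_symm hd hq.2
    exact ⟨h1, h2, qm_adj_inter S hq.1.1 h1 h2, FischerM23.width_common (S.localSetup hq.1.1)
      (qm_mem h1) (qm_mem h2) fun h => had ((qm_comm S hq.1.1 h1 h2).1 h)⟩
  have up : ∀ E ⊆ common D a d, (∀ x ∈ E, ∀ y ∈ E, Commute x y) → E.ncard ≤ 8 := by
    intro E hE hc
    rcases E.eq_empty_or_nonempty with rfl | ⟨q, hqE⟩
    · simp
    obtain ⟨h1, h2, he, hw⟩ := loc q (hE hqE)
    have hq : q ∈ D := (hE hqE).1.1
    have hsub : E \ {q} ⊆ adj D q ∩ adj D a ∩ adj D d := fun y hy =>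
      ⟨⟨⟨(hE hy.1).1.1, hy.2, hc q hqE y hy.1⟩, (hE hy.1).1⟩, (hE hy.1).2⟩
    have hadj : E \ {q} ⊆ adj D q := fun y hy => (hsub hy).1.1
    have h7 : (qm D q '' (E \ {q})).ncard ≤ 7 := by
      rw [← hw]
      refine le_csSup ⟨(Set.univ : Set (QL D q)).ncard, ?_⟩
        ⟨_, he ▸ Set.image_mono hsub, Set.toFinite _, ?_, rfl⟩
      · rintro n ⟨F, -, -, -, rfl⟩
        exact Set.ncard_le_ncard (Set.subset_univ _) (Set.toFinite _)
      · rintro _ ⟨x, hx, rfl⟩ _ ⟨y, hy, rfl⟩
        exact (qm_comm S hq (hadj hx) (hadj hy)).2 (hc x hx.1 y hy.1)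
    rw [qm_ncard S hq hadj] at h7
    have := Set.ncard_le_ncard (show E ⊆ insert q (E \ {q}) from fun y hy => by
      by_cases e : y = q
      · exact Or.inl e
      · exact Or.inr ⟨hy, e⟩) (Set.toFinite _)
    have := Set.ncard_insert_le q (E \ {q})
    omega
  have low : ∃ E : Set G, E ⊆ common D a d ∧ E.Finite ∧ (∀ x ∈ E, ∀ y ∈ E, Commute x y) ∧ E.ncard = 8 := by
    obtain ⟨q, hq⟩ := common_nonempty S ha hd had
    obtain ⟨h1, h2, he, hw⟩ := loc q hq
    have hmem : ∃ F : Set (QL D q), F ⊆ common (QSet D q) (qm D q a) (qm D q d) ∧ F.Finite ∧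
        (∀ x ∈ F, ∀ y ∈ F, Commute x y) ∧ F.ncard = 7 := by
      have := Nat.sSup_mem (s := {n | ∃ F : Set (QL D q), F ⊆ common (QSet D q) (qm D q a) (qm D q d) ∧
          F.Finite ∧ (∀ x ∈ F, ∀ y ∈ F, Commute x y) ∧ F.ncard = n})
        ⟨0, ∅, Set.empty_subset _, Set.finite_empty, by simp, Set.ncard_empty _⟩
        ⟨(Set.univ : Set (QL D q)).ncard, by
          rintro n ⟨F, -, -, -, rfl⟩
          exact Set.ncard_le_ncard (Set.subset_univ _) (Set.toFinite _)⟩
      unfold Cfsg.commutingWidth at hw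
      rwa [hw] at this
    obtain ⟨F, hF, -, hFc, hFn⟩ := hmem
    rw [he] at hF
    obtain ⟨E', hE', rfl⟩ := Set.subset_image_iff.1 hF
    have hadj : E' ⊆ adj D q := fun y hy => (hE' hy).1.1
    rw [qm_ncard S hq.1.1 hadj] at hFn
    refine ⟨insert q E', ?_, Set.toFinite _, ?_, ?_⟩
    · rintro _ (rfl | hy)
      · exact hq
      · exact ⟨(hE' hy).1.2, (hE' hy).2⟩
    · rintro x (rfl | hx) y (rfl | hy)
      exacts [Commute.refl _, (hadj hy).2.2, (hadj hx).2.2.symm,
        (qm_comm S hq.1.1 (hadj hx) (hadj hy)).1 (hFc _ ⟨x, hx, rfl⟩ _ ⟨y, hy, rfl⟩)]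
    · rw [Set.ncard_insert_of_notMem fun h => (hadj h).2.1 rfl, hFn]
  refine le_antisymm (csSup_le ⟨8, low⟩ ?_) (le_csSup ⟨8, ?_⟩ low)
  · rintro n ⟨E, hE, -, hc, rfl⟩
    exact up E hE hc
  · rintro n ⟨E, hE, -, hc, rfl⟩
    exact up E hE hc

end Cfsg.Agent.FischerM24
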